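import Groth.Prelude.Def_EtBC2
import Groth.Prelude.Def_EtCore
import Groth.Prelude.Def_P1
import Groth.Agent.AICCover.Ring
import Mathlib.AlgebraicGeometry.Morphisms.Integral
import Mathlib.AlgebraicGeometry.Morphisms.Proper

/-!
# Proper base change for torsion sheaves: shared definitions

The proof goes through absolutely integrally closed integral schemes: every constructible sheaf on a
noetherian scheme embeds into a finite sum of direct images of constant sheaves from such schemes,
so proper base change comes down to the vanishing of the higher cohomology of constant sheaves on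
the geometric fibres of such schemes.
-/

set_option autoImplicit false
set_option backward.isDefEq.respectTransparency false

universe u

open CategoryTheory CategoryTheory.Limits AlgebraicGeometry Opposite

noncomputable section

namespace Groth.Agent.PBCLib

/-- A field valued point whose field is algebraic over the residue field of its image. -/
def IsAlgPt {S : Scheme.{u}} {Ω : Type u} [Field Ω] (ξ : Spec (CommRingCat.of Ω) ⟶ S) : Prop :=
  (ξ.residueFieldMap default).hom.IsIntegral

/-- An integral scheme all of whose local rings are absolutely integrally closed. -/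
structure IsAICScheme (X : Scheme.{u}) : Prop where
  isIntegral : IsIntegral X
  monicRoot : ∀ x : X, AICCover.MonicRoot (X.presheaf.stalk x)

/-- The constant sheaves `ℤ/d` have no higher cohomology. -/
def ConstAcyclic (C : Scheme.{u}) : Prop :=
  ∀ (d : ℕ), 0 < d → ∀ q : ℕ, 0 < q → Subsingleton (EtCoh.H C (EtCoh.const C (ZMod d)) q)

/-- Whenever `X'` is an absolutely integrally closed integral scheme which is integral over `X`, constant
sheaves are acyclic on the geometric fibres of `X' ⟶ X ⟶ S`. -/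
def FibreAcyclic {X S : Scheme.{u}} (f : X ⟶ S) : Prop :=
  ∀ ⦃X' : Scheme.{u}⦄ (π : X' ⟶ X), IsIntegralHom π → IsAICScheme X' →
    ∀ (Ω : Type u) [Field Ω] [IsAlgClosed Ω] (ξ : Spec (CommRingCat.of Ω) ⟶ S), IsAlgPt ξ →
      ConstAcyclic (pullback (π ≫ f) ξ)

/-- Every class on a geometric fibre, of a sheaf killed by `n`, is killed by a monomorphism into a sheaf killed
by `n` on the total space. -/
def Effaceable {X S : Scheme.{u}} (f : X ⟶ S) : Prop :=
  ∀ (n : ℕ), 0 < n → ∀ (Ω : Type u) [Field Ω] [IsAlgClosed Ω] (ξ : Spec (CommRingCat.of Ω) ⟶ S), IsAlgPt ξ →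
    ∀ (F : EtCoh.Ab X), EtCoh.KilledBy n F → ∀ (q : ℕ), 0 < q →
      ∀ c : EtCoh.H (pullback f ξ) ((EtCoh.pull (pullback.fst f ξ)).obj F) q,
        ∃ (M : EtCoh.Ab X) (a : F ⟶ M), Mono a ∧ EtCoh.KilledBy n M ∧
          Sheaf.H.map ((EtCoh.pull (pullback.fst f ξ)).map a) q c = 0

/-- `Effaceable`, at all points with values in algebraically closed fields. -/
def EffaceableAny {X S : Scheme.{u}} (f : X ⟶ S) : Prop :=
  ∀ (n : ℕ), 0 < n → ∀ (Ω : Type u) [Field Ω] [IsAlgClosed Ω] (ξ : Spec (CommRingCat.of Ω) ⟶ S),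
    ∀ (F : EtCoh.Ab X), EtCoh.KilledBy n F → ∀ (q : ℕ), 0 < q →
      ∀ c : EtCoh.H (pullback f ξ) ((EtCoh.pull (pullback.fst f ξ)).obj F) q,
        ∃ (M : EtCoh.Ab X) (a : F ⟶ M), Mono a ∧ EtCoh.KilledBy n M ∧
          Sheaf.H.map ((EtCoh.pull (pullback.fst f ξ)).map a) q c = 0

/-- `FibreAcyclic` after every base change. -/
def UFibreAcyclic {X S : Scheme.{u}} (f : X ⟶ S) : Prop :=
  ∀ ⦃X' S' : Scheme.{u}⦄ (g : S' ⟶ S) (f' : X' ⟶ S') (g' : X' ⟶ X), IsPullback g' f' f g → FibreAcyclic f'

/-- Pullback to algebraically closed extensions of the ground field is surjective on the cohomology of sheaves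
killed by an integer. -/
def FieldExtSurj {k : Type u} [Field k] {X : Scheme.{u}} (a : X ⟶ Spec (CommRingCat.of k)) : Prop :=
  ∀ (n : ℕ), 0 < n → ∀ (Ω : Type u) [Field Ω] [IsAlgClosed Ω] (i : k →+* Ω)
    [PreservesFiniteLimits (EtCoh.pull (pullback.fst a (Spec.map (CommRingCat.ofHom i))))]
    (F : EtCoh.Ab X), EtCoh.KilledBy n F → ∀ q : ℕ,
      Function.Surjective (EtCore.Hpull (pullback.fst a (Spec.map (CommRingCat.ofHom i))) F q)

/-- Base change at the geometric points of the base, for sheaves killed by an integer. -/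
def BCAtPts {X S : Scheme.{u}} (f : X ⟶ S) : Prop :=
  ∀ (n : ℕ), 0 < n → ∀ (Ω : Type u) [Field Ω] [IsAlgClosed Ω] (ξ : Spec (CommRingCat.of Ω) ⟶ S), IsAlgPt ξ →
    ∀ [PreservesFiniteLimits (EtCoh.pull (pullback.fst f ξ))] (F : EtCoh.Ab X), EtCoh.KilledBy n F →
      ∀ q : ℕ, IsIso (EtBC.bcQ f ξ (pullback.snd f ξ) (pullback.fst f ξ) pullback.condition q F)

/-- Base change for all cartesian squares on `f` and all torsion sheaves. -/
def BCAll {X S : Scheme.{u}} (f : X ⟶ S) : Prop :=
  ∀ ⦃X' S' : Scheme.{u}⦄ (g : S' ⟶ S) (f' : X' ⟶ S') (g' : X' ⟶ X) (h : IsPullback g' f' f g)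
    [PreservesFiniteLimits (EtCoh.pull g')] (F : EtCoh.Ab X), EtCoh.IsTorsion F →
      ∀ q : ℕ, IsIso (EtBC.bcQ f g f' g' h.w q F)

/-- The `N`-fold fibre power of the projective line. -/
def P1Pow : ℕ → Scheme.{u} → Scheme.{u}
  | 0, S => S
  | N + 1, S => CohB1.ProjSpaceOver 1 (P1Pow N S)

/-- The structure morphism of the fibre power of the projective line. -/
def P1Pow.toBase : ∀ (N : ℕ) (S : Scheme.{u}), P1Pow N S ⟶ S
  | 0, S => 𝟙 S
  | N + 1, S => CohB1.ProjSpaceOver.toBase 1 (P1Pow N S) ≫ P1Pow.toBase N S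

end Groth.Agent.PBCLib
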