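import Groth.Agent.PBCLib.LocalSections
import Groth.Agent.PBCLib.Defs
import Groth.Agent.StrictLocLib.ProperBC
import Groth.Agent.BCVertLib.EtaleBCQ
import Groth.Agent.BCVertLib.KilledEfface
import Groth.Agent.CompBCLib.Killed
import Groth.Agent.KPi1Lib.FiniteEtale
import Groth.Agent.S0101

/-!
# Classes which vanish on a fibre of a proper morphism vanish near it
-/

set_option autoImplicit false
set_option linter.style.haveILetI false
set_option backward.isDefEq.respectTransparency false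
set_option backward.isDefEq.respectTransparency.types false
set_option maxHeartbeats 1000000

universe u

open CategoryTheory CategoryTheory.Limits AlgebraicGeometry Opposite CategoryTheory.Abelian

noncomputable section

namespace Groth.Agent.PBCLib

attribute [local instance] Groth.Agent.S0101.result

theorem killedBy_pullback_nhd {X Y : Scheme.{u}} (g : X ⟶ Y) {n : ℕ} {F : EtCoh.Ab Y} (hF : EtCoh.KilledBy n F) :
    EtCoh.KilledBy n ((EtCoh.pull g).obj F) := by
  haveI : (EtCoh.pull g).Additive := (EtCoh.pullPushAdj g).left_adjoint_additive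
  rw [FLCLib.killedBy_iff]
  refine Eq.trans ?_ ((congrArg (EtCoh.pull g).map ((FLCLib.killedBy_iff n F).1 hF)).trans (Functor.map_zero _ _ _))
  rw [Functor.map_nsmul, CategoryTheory.Functor.map_id]

theorem HofPush_natural {X Y : Scheme.{u}} (f : X ⟶ Y) {A B : EtCoh.Ab X} (b : A ⟶ B) (q : ℕ)
    (x : EtCoh.H Y ((EtCoh.push f).obj A) q) :
    EtLim.HofPush f B q (Sheaf.H.map ((EtCoh.push f).map b) q x) = Sheaf.H.map b q (EtLim.HofPush f A q x) := by
  show Sheaf.H.map ((EtCoh.pullPushAdj f).counit.app B) q (EtCore.Hpull f _ q _) =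
    Sheaf.H.map b q (Sheaf.H.map ((EtCoh.pullPushAdj f).counit.app A) q (EtCore.Hpull f _ q x))
  rw [CompBCLib.Hpull_map f ((EtCoh.push f).map b) x]
  refine (Sheaf.H.map_comp_apply _ _ _).symm.trans (Eq.trans ?_ (Sheaf.H.map_comp_apply _ _ _))
  exact congrArg (fun m => Sheaf.H.map m q (EtCore.Hpull f _ q x)) ((EtCoh.pullPushAdj f).counit.naturality b)

/-- Pullback of classes from a direct image, naturally in the sheaf. -/
theorem HofPush_bc_natural {X S X' S' : Scheme.{u}} (f : X ⟶ S) (g : S' ⟶ S) (f' : X' ⟶ S') (g' : X' ⟶ X)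
    (w : g' ≫ f = f' ≫ g) {A B : EtCoh.Ab X} (b : A ⟶ B) (q : ℕ)
    (z : EtCoh.H S' ((EtCoh.pull g).obj ((EtCoh.push f).obj A)) q) :
    EtLim.HofPush f' _ q (Sheaf.H.map (EtCoh.baseChange0 f g f' g' w B) q
        (Sheaf.H.map ((EtCoh.pull g).map ((EtCoh.push f).map b)) q z)) =
      Sheaf.H.map ((EtCoh.pull g').map b) q
        (EtLim.HofPush f' _ q (Sheaf.H.map (EtCoh.baseChange0 f g f' g' w A) q z)) := by
  rw [← HofPush_natural f' ((EtCoh.pull g').map b), ← Sheaf.H.map_comp_apply, ← Sheaf.H.map_comp_apply,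
    AcycCompLib.baseChange0_natural f g f' g' w b]

theorem bijective_HofPush_zero {X Y : Scheme.{u}} (f : X ⟶ Y) (F : EtCoh.Ab X) :
    Function.Bijective (EtLim.HofPush f F 0) :=
  (AcycCompLib.bijective_HofPush f F 0 0 fun r h1 h2 => absurd (h1.trans h2) (by omega)).1 le_rfl

theorem bijective_HofPush_of_acyclic {X Y : Scheme.{u}} (f : X ⟶ Y) (F : EtCoh.Ab X) (q : ℕ)
    (h : ∀ r : ℕ, IsZero ((EtCoh.Rpush f (r + 1)).obj F)) : Function.Bijective (EtLim.HofPush f F q) :=
  (AcycCompLib.bijective_HofPush f F q q fun r h1 _ => by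
    obtain ⟨r, rfl⟩ := Nat.exists_eq_succ_of_ne_zero (Nat.one_le_iff_ne_zero.1 h1)
    exact h r).1 le_rfl

variable (Ω : Type u) [Field Ω] [IsSepClosed Ω]

/-- On every affine étale neighbourhood, the sheaves killed by `n` with vanishing higher direct images have
vanishing higher cohomology on the fibre at the point. -/
def PtVanish (n : ℕ) {X U : Scheme.{u}} (f : X ⟶ U) (u : Spec (CommRingCat.of Ω) ⟶ U) : Prop :=
  ∀ ⦃XW W : Scheme.{u}⦄ (t : W ⟶ U) (fW : XW ⟶ W) (t' : XW ⟶ X), Etale t → IsAffine W → IsPullback t' fW f t →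
    ∀ v : Spec (CommRingCat.of Ω) ⟶ W, v ≫ t = u → ∀ T : EtCoh.Ab XW, EtCoh.KilledBy n T →
      ∀ j : ℕ, IsZero ((EtCoh.Rpush fW (j + 1)).obj T) →
        Subsingleton (EtCoh.H (pullback fW v) ((EtCoh.pull (pullback.fst fW v)).obj T) (j + 1))

variable {Ω}

/-- The vanishing on the fibre follows from base change at the point. -/
theorem subsingleton_H_fibre {X U X' : Scheme.{u}} (f : X ⟶ U) (ξ : Spec (CommRingCat.of Ω) ⟶ U)
    (f' : X' ⟶ Spec (CommRingCat.of Ω)) (g' : X' ⟶ X) (w : g' ≫ f = f' ≫ ξ) (T : EtCoh.Ab X) (j : ℕ)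
    (hbc : IsIso (EtBC.bcQ f ξ f' g' w j T)) (hR : IsZero ((EtCoh.Rpush f j).obj T)) :
    Subsingleton (EtCoh.H X' ((EtCoh.pull g').obj T) j) := by
  haveI := hbc
  haveI : (EtCoh.pull ξ).Additive := (EtCoh.pullPushAdj ξ).left_adjoint_additive
  have h0 : IsZero ((EtCoh.Rpush f' j).obj ((EtCoh.pull g').obj T)) :=
    ((EtCoh.pull ξ).map_isZero hR).of_iso (asIso (EtBC.bcQ f ξ f' g' w j T)).symm
  obtain ⟨ε⟩ := nonempty_Rpush_gsec_natIso f' j
  haveI : (EtCoh.stalk (𝟙 (Spec (CommRingCat.of Ω)))).Additive :=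
    Functor.additive_of_preserves_binary_products _
  haveI : (StrictLocLib.gsecF (Spec (CommRingCat.of Ω))).Additive :=
    Functor.additive_of_iso (gsecStalkIso Ω (𝟙 _)).symm
  exact AddCommGrpCat.subsingleton_of_isZero
    (((StrictLocLib.gsecF _).map_isZero h0).of_iso (ε.app ((EtCoh.pull g').obj T)).symm)

/-- **A class which vanishes on a fibre vanishes over an étale neighbourhood of the point.** -/
theorem exists_nbhd_Hpull_eq_zero {n : ℕ} : ∀ (q : ℕ) ⦃X U : Scheme.{u}⦄ (f : X ⟶ U) [IsProper f]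
    (u : Spec (CommRingCat.of Ω) ⟶ U), PtVanish Ω n f u → ∀ (G : EtCoh.Ab X), EtCoh.KilledBy n G →
      ∀ d : EtCoh.H X G q, EtCore.Hpull (pullback.fst f u) G q d = 0 →
        ∃ (XW W : Scheme.{u}) (t : W ⟶ U) (fW : XW ⟶ W) (t' : XW ⟶ X) (_ : Etale t) (_ : IsAffine W)
          (_ : IsPullback t' fW f t) (v : Spec (CommRingCat.of Ω) ⟶ W) (_ : v ≫ t = u),
          EtCore.Hpull t' G q d = 0 := by
  intro q
  induction q with
  | zero =>
    intro X U f _ u _ G _ d hd
    obtain ⟨w, rfl⟩ := (bijective_HofPush_zero f G).2 d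
    haveI := StrictLocLib.isIso_baseChange0_proper f u _ _ (IsPullback.of_hasPullback f u) G
    rw [CompBCLib.Hpull_HofPush u f (pullback.fst f u) (pullback.snd f u) pullback.condition G 0 w] at hd
    have h2 := (bijective_HofPush_zero _ _).1 (hd.trans (map_zero _).symm)
    have h3 : EtCore.Hpull u _ 0 w = 0 :=
      (ConcreteCategory.bijective_of_isIso ((EtCoh.HF _ 0).map
        (EtCoh.baseChange0 f u (pullback.snd f u) (pullback.fst f u) pullback.condition G))).1
        (h2.trans (map_zero _).symm)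
    obtain ⟨W, hW, v, hv, hw⟩ := exists_local_zero₀ u w h3
    refine ⟨pullback f W.hom, W.left, W.hom, pullback.snd _ _, pullback.fst _ _, W.prop, hW,
      IsPullback.of_hasPullback f W.hom, v, hv, ?_⟩
    exact (CompBCLib.Hpull_HofPush W.hom f (pullback.fst f W.hom) (pullback.snd f W.hom) pullback.condition G 0 w).trans
      ((congrArg (fun c => EtLim.HofPush _ _ 0 (Sheaf.H.map _ 0 c)) hw).trans (by simp only [map_zero]))
  | succ q ih =>
    intro X U f _ u hP G hG d hd
    obtain ⟨T, a, ha, hT, hR⟩ := BCVertLib.exists_killed_acyclic f hG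
    let S : ShortComplex (EtCoh.Ab X) := ShortComplex.mk a (cokernel.π a) (cokernel.condition a)
    have hS : S.ShortExact := { exact := ShortComplex.exact_cokernel a }
    have hC : EtCoh.KilledBy n S.X₃ := BCVertLib.killedBy_of_epi (cokernel.π a) hT
    obtain ⟨wT, hwT⟩ := (bijective_HofPush_of_acyclic f T (q + 1) hR).2 (Sheaf.H.map a (q + 1) d)
    obtain ⟨W, hW, v, hv, hw⟩ := exists_local_zero u q wT
    haveI : Etale W.hom := W.prop
    let tW := pullback.fst f W.hom
    let fW := pullback.snd f W.hom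
    have hsq : IsPullback tW fW f W.hom := IsPullback.of_hasPullback f W.hom
    have hT0 : Sheaf.H.map ((EtCoh.pull tW).map a) (q + 1) (EtCore.Hpull tW G (q + 1) d) = 0 := by
      rw [← CompBCLib.Hpull_map tW a d, ← hwT]
      exact (CompBCLib.Hpull_HofPush W.hom f tW fW hsq.w T (q + 1) wT).trans
        ((congrArg (fun c => EtLim.HofPush _ _ (q + 1) (Sheaf.H.map _ (q + 1) c)) hw).trans
          (by simp only [map_zero]))
    have hS₁ := hS.map_of_exact (EtCoh.pull tW)
    obtain ⟨e, he⟩ := Ext.covariant_sequence_exact₁ _ hS₁ (EtCore.Hpull tW G (q + 1) d) hT0 (rfl : q + 1 = q + 1)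
    let v' := pullback.fst fW v
    have hφ : (v' ≫ tW) ≫ f = pullback.snd fW v ≫ u := by
      rw [Category.assoc, hsq.w, ← Category.assoc, pullback.condition, Category.assoc, hv]
    have hd1 : EtCore.Hpull (v' ≫ tW) G (q + 1) d = 0 := by
      refine (KPi1Lib.Hpull_comp_eq_zero (pullback.fst f u)
        (pullback.lift (v' ≫ tW) (pullback.snd fW v) hφ) (v' ≫ tW) (pullback.lift_fst _ _ _) G _ d).2 ?_
      rw [hd, map_zero]
    have hd2 : EtCore.Hpull v' _ (q + 1) (EtCore.Hpull tW G (q + 1) d) = 0 :=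
      (KPi1Lib.Hpull_comp_eq_zero tW v' (v' ≫ tW) rfl G _ d).1 hd1
    have hδ : (EtCore.Hpull v' _ q e).comp (hS₁.map_of_exact (EtCoh.pull v')).extClass rfl = 0 := by
      rw [← CompBCLib.Hpull_δ v' hS₁ e]
      exact (congrArg (EtCore.Hpull v' _ (q + 1)) he).trans hd2
    obtain ⟨s, hs⟩ := Ext.covariant_sequence_exact₃ _ (hS₁.map_of_exact (EtCoh.pull v')) _ (rfl : q + 1 = q + 1) hδ
    have hT₁ : EtCoh.KilledBy n (S.map (EtCoh.pull tW)).X₂ := killedBy_pullback_nhd tW hT
    have hR₁ : ∀ r : ℕ, IsZero ((EtCoh.Rpush fW (r + 1)).obj (S.map (EtCoh.pull tW)).X₂) := fun r => by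
      haveI := BCVertLib.isIso_bcQ_etale f W.hom fW tW hsq (r + 1) T
      haveI : (EtCoh.pull W.hom).Additive := (EtCoh.pullPushAdj W.hom).left_adjoint_additive
      exact ((EtCoh.pull W.hom).map_isZero (hR r)).of_iso (asIso (EtBC.bcQ f W.hom fW tW hsq.w (r + 1) T)).symm
    rcases q with _ | p
    · obtain ⟨ε, hε⟩ := (bijective_HofPush_zero fW (S.map (EtCoh.pull tW)).X₃).2 e
      obtain ⟨y, hy⟩ := (bijective_HofPush_zero (pullback.snd fW v) _).2 s
      haveI := StrictLocLib.isIso_baseChange0_proper fW v _ _ (IsPullback.of_hasPullback fW v)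
        (S.map (EtCoh.pull tW)).X₂
      haveI := StrictLocLib.isIso_baseChange0_proper fW v _ _ (IsPullback.of_hasPullback fW v)
        (S.map (EtCoh.pull tW)).X₃
      obtain ⟨z, rfl⟩ := (ConcreteCategory.bijective_of_isIso ((EtCoh.HF _ 0).map
        (EtCoh.baseChange0 fW v (pullback.snd fW v) v' pullback.condition (S.map (EtCoh.pull tW)).X₂))).2 y
      subst hε
      rw [← hy] at hs
      have hz : Sheaf.H.map ((EtCoh.pull v).map ((EtCoh.push fW).map (S.map (EtCoh.pull tW)).g)) 0 z =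
          EtCore.Hpull v _ 0 ε := by
        refine (ConcreteCategory.bijective_of_isIso ((EtCoh.HF _ 0).map
          (EtCoh.baseChange0 fW v (pullback.snd fW v) v' pullback.condition (S.map (EtCoh.pull tW)).X₃))).1
          ((bijective_HofPush_zero (pullback.snd fW v) _).1 ?_)
        refine (HofPush_bc_natural fW v (pullback.snd fW v) v' pullback.condition
          (S.map (EtCoh.pull tW)).g 0 z).trans ?_
        exact hs.trans (CompBCLib.Hpull_HofPush v fW v' (pullback.snd fW v) pullback.condition _ 0 ε)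
      obtain ⟨W₂, hW₂, v₂, hv₂, hw₂⟩ := exists_local_lift v _ ε z hz
      obtain ⟨w₂, hw₂⟩ := hw₂
      haveI : Etale W₂.hom := W₂.prop
      let t₂ := pullback.fst fW W₂.hom
      refine ⟨pullback fW W₂.hom, W₂.left, W₂.hom ≫ W.hom, pullback.snd fW W₂.hom, t₂ ≫ tW, inferInstance, hW₂,
        (IsPullback.of_hasPullback fW W₂.hom).paste_horiz hsq, v₂, by rw [← Category.assoc, hv₂, hv], ?_⟩
      refine (KPi1Lib.Hpull_comp_eq_zero tW t₂ (t₂ ≫ tW) rfl G _ d).2 ?_
      rw [← he]
      refine (CompBCLib.Hpull_δ t₂ hS₁ _).trans ?_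
      refine (congrArg (fun c => Ext.comp c (hS₁.map_of_exact (EtCoh.pull t₂)).extClass (rfl : 0 + 1 = 0 + 1))
        ((CompBCLib.Hpull_HofPush W₂.hom fW t₂ (pullback.snd fW W₂.hom) pullback.condition _ 0 ε).trans
          ((congrArg (fun c => EtLim.HofPush _ _ 0 (Sheaf.H.map _ 0 c)) hw₂.symm).trans
            (HofPush_bc_natural fW W₂.hom (pullback.snd fW W₂.hom) t₂ pullback.condition _ 0 w₂)))).trans ?_
      show (Ext.comp _ (Ext.mk₀ (((S.map (EtCoh.pull tW)).map (EtCoh.pull t₂)).g)) (add_zero 0)).comp _ _ = 0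
      rw [Ext.comp_assoc_of_second_deg_zero]
      exact (congrArg (fun m => Ext.comp _ m rfl) (hS₁.map_of_exact (EtCoh.pull t₂)).comp_extClass).trans
        (Ext.comp_zero _ _ _ _ _)
    · have hs0 : s = 0 :=
        @Subsingleton.elim _ (hP W.hom fW tW inferInstance hW hsq v hv _ hT₁ p (hR₁ p)) _ _
      have he0 : EtCore.Hpull v' _ (p + 1) e = 0 := by
        rw [← hs, hs0]
        exact map_zero (Sheaf.H.map ((S.map (EtCoh.pull tW)).map (EtCoh.pull v')).g (p + 1))
      have hP₁ : PtVanish Ω n fW v := fun XV V t fV t' ht hV hsq' v₁ hv₁ =>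
        hP (t ≫ W.hom) fV (t' ≫ tW) inferInstance hV (hsq'.paste_horiz hsq) v₁ (by rw [← Category.assoc, hv₁, hv])
      obtain ⟨XV, V, t, fV, t', ht, hV, hsq', v₂, hv₂, h0⟩ :=
        ih fW v hP₁ _ (killedBy_pullback_nhd tW hC) e he0
      refine ⟨XV, V, t ≫ W.hom, fV, t' ≫ tW, inferInstance, hV, hsq'.paste_horiz hsq, v₂,
        by rw [← Category.assoc, hv₂, hv], ?_⟩
      refine (KPi1Lib.Hpull_comp_eq_zero tW t' (t' ≫ tW) rfl G _ d).2 ?_
      rw [← he]
      refine (CompBCLib.Hpull_δ t' hS₁ e).trans ?_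
      erw [h0]
      exact Ext.zero_comp _ _ _ _ _

end Groth.Agent.PBCLib
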