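import Groth.Agent.EtLimLib.PushSys
import Groth.Agent.CohColim.EtQC

/-!
# Classes with values in a sheaf on a limit come from direct images to the stages

For a limit `X` of qcqs schemes and `w : Z ⟶ X`, cohomology classes of `w⁻¹ F` come from some
`w⁻¹ u_i⁻¹ u_{i*} F` through the counit.
-/

set_option autoImplicit false
set_option linter.style.haveILetI false
set_option backward.isDefEq.respectTransparency false
set_option backward.isDefEq.respectTransparency.types false
set_option maxHeartbeats 1000000

universe u

open CategoryTheory CategoryTheory.Limits AlgebraicGeometry Opposite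
open Groth.Agent.EtLimLib

noncomputable section

namespace Groth.Agent.PBCLib

attribute [local instance] EtLimLib.hasColimits

variable {ι : Type u} [Preorder ι] [Nonempty ι] [IsDirected ι (· ≤ ·)] {S : Sys ι}

/-- The tautological cocone of inverse images of direct images. -/
def pushColimCocone (S : Sys ι) (F : EtCoh.Ab S.c.pt) : Cocone (pushSys S F).diag.G where
  pt := F
  ι :=
    { app := fun i => (pushCocone S F).mate (pushSys S F) i
      naturality := fun i j f => by
        refine Eq.trans ?_ (Category.comp_id _).symm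
        apply ((EtCoh.pullPushAdj (S.u i)).homEquiv _ _).injective
        show (EtCoh.pullPushAdj (S.u i)).homEquiv _ _
          ((pushSys S F).diagMap (leOfHom f) ≫ (pushCocone S F).mate (pushSys S F) j) = _
        rw [Adjunction.homEquiv_naturality_right, SysSh.diagMap, Equiv.apply_symm_apply]
        refine Eq.trans ?_ (Equiv.apply_symm_apply _ _).symm
        rw [Category.assoc, Category.assoc, ← pushJoin_natural, ← Functor.map_comp_assoc]
        rw [show (EtCoh.pullPushAdj (S.u j)).unit.app ((pushSys S F).F j) ≫
            (EtCoh.push (S.u j)).map ((pushCocone S F).mate (pushSys S F) j) = (pushCocone S F).ψ j from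
          ((EtCoh.pullPushAdj (S.u j)).homEquiv_unit _ _ _).symm.trans (Equiv.apply_symm_apply _ _)]
        rw [← Category.assoc, ← (pushCocone S F).comm (leOfHom f), Category.assoc, pushSp_pushJoin]
        exact Category.comp_id _ }

/-- A sheaf on the limit is the colimit of the inverse images of its direct images. -/
theorem nonempty_isColimit_pushColimCocone (F : EtCoh.Ab S.c.pt) :
    Nonempty (IsColimit (pushColimCocone S F)) := by
  let M := pushSys S F
  let κ := pushCocone S F
  let γ := pushColimCocone S F
  let q := colimit.desc M.diag.G γ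
  have hq : ∀ i, colimit.ι M.diag.G i ≫ q = κ.mate M i := fun i => colimit.ι_desc γ i
  haveI : IsIso q := isIso_of_isColim (isColim_pushCocone S F)
    (isColim_cocone M.diag (colimit.isColimit _)) q fun i => by
    show ((EtCoh.pullPushAdj (S.u i)).unit.app (M.F i) ≫ (EtCoh.push (S.u i)).map (colimit.ι M.diag.G i)) ≫ _ = _
    rw [Category.assoc, ← Functor.map_comp, hq i]
    exact ((EtCoh.pullPushAdj (S.u i)).homEquiv_unit _ _ _).symm.trans (Equiv.apply_symm_apply _ _)
  exact ⟨(colimit.isColimit M.diag.G).ofIsoColimit (Cocone.ext (asIso q) fun i => hq i)⟩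

/-- Classes with values in `w⁻¹ F` come from `w⁻¹ u_i⁻¹ u_{i*} F`. -/
theorem exists_push_stage {Z : Scheme.{u}} [CompactSpace Z] [QuasiSeparatedSpace Z] (w : Z ⟶ S.c.pt)
    (F : EtCoh.Ab S.c.pt) (q : ℕ) (c : EtCoh.H Z ((EtCoh.pull w).obj F) q) :
    ∃ (i : ι) (x : EtCoh.H Z ((EtCoh.pull w).obj ((EtCoh.pull (S.u i)).obj ((EtCoh.push (S.u i)).obj F))) q),
      Sheaf.H.map ((EtCoh.pull w).map ((EtCoh.pullPushAdj (S.u i)).counit.app F)) q x = c := by
  obtain ⟨hc⟩ := nonempty_isColimit_pushColimCocone (S := S) F
  let e : AsSmall.{u + 1} ι ≌ ι := AsSmall.equiv.symm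
  haveI : IsFiltered ι := inferInstance
  haveI : IsFiltered (AsSmall.{u + 1} ι) := IsFiltered.of_equivalence e.symm
  haveI := CohColim.preserves_HF Z q (AsSmall.{u + 1} ι)
  haveI : PreservesColimitsOfShape ι (EtCoh.HF Z q) := preservesColimitsOfShape_of_equiv e _
  haveI : PreservesColimitsOfSize.{u, u} (EtCoh.pull w) := (EtCoh.pullPushAdj w).leftAdjoint_preservesColimits
  let Φ := EtCoh.pull w ⋙ EtCoh.HF Z q
  obtain ⟨i, x, hx⟩ := Concrete.isColimit_exists_rep ((pushSys S F).diag.G ⋙ Φ) (isColimitOfPreserves Φ hc) c
  refine ⟨i, x, Eq.trans ?_ hx⟩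
  show Sheaf.H.map _ q x = Sheaf.H.map ((EtCoh.pull w).map ((pushCocone S F).mate (pushSys S F) i)) q x
  rw [pushCocone_mate]
  rfl

end Groth.Agent.PBCLib
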