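import Groth.Agent.BCVertLib.Square
import Groth.Agent.CompBCLib.Via
import Groth.Agent.AcycCompLib.Criterion

/-!
# Associativity of the composition isomorphisms of inverse images
-/

set_option autoImplicit false
set_option linter.style.haveILetI false
set_option backward.isDefEq.respectTransparency false
set_option backward.isDefEq.respectTransparency.types false
set_option maxHeartbeats 1000000

universe u

open CategoryTheory CategoryTheory.Limits AlgebraicGeometry Opposite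
open Groth.Agent.EtLimLib

noncomputable section

namespace Groth.Agent.PBCLib

variable {A B C D : Scheme.{u}}

/-- The composition isomorphism `b⁻¹ a⁻¹ F ≅ h⁻¹ F` for `b ≫ a = h`. -/
abbrev cp (a : B ⟶ A) (b : C ⟶ B) (h : C ⟶ A) (w : b ≫ a = h) (F : EtCoh.Ab A) :
    (EtCoh.pull b).obj ((EtCoh.pull a).obj F) ≅ (EtCoh.pull h).obj F :=
  ((EtCore.pullComp b a).symm ≪≫ EtCore.pullCongr w).app F

theorem cp_inv (a : B ⟶ A) (b : C ⟶ B) (h : C ⟶ A) (w : b ≫ a = h) (F : EtCoh.Ab A) :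
    (cp a b h w F).inv = (comparePull a b h w).app F :=
  (CompBCLib.comparePull_via a b h w F).symm

variable (a : B ⟶ A) (b : C ⟶ B) (c : D ⟶ C) (n₁ : C ⟶ A) (w₁ : b ≫ a = n₁)
  (n₂ : D ⟶ B) (w₂ : c ≫ b = n₂) (m : D ⟶ A) (w₃ : n₂ ≫ a = m) (w₄ : c ≫ n₁ = m) (F : EtCoh.Ab A)

theorem comparePull_assoc :
    (comparePull n₁ c m w₄).app F ≫ (EtCoh.pull c).map ((comparePull a b n₁ w₁).app F) =
      (comparePull a n₂ m w₃).app F ≫ (comparePull b c n₂ w₂).app ((EtCoh.pull a).obj F) := by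
  let X := (comparePull a b n₁ w₁).app F
  let Y := (comparePull b c n₂ w₂).app ((EtCoh.pull a).obj F)
  let ηb := (EtCoh.pullPushAdj b).unit.app ((EtCoh.pull a).obj F)
  let ηc := (EtCoh.pullPushAdj c).unit.app ((EtCoh.pull b).obj ((EtCoh.pull a).obj F))
  apply ((EtCoh.pullPushAdj m).homEquiv _ _).injective
  rw [Adjunction.homEquiv_unit, Adjunction.homEquiv_unit, Functor.map_comp, Functor.map_comp, ← Category.assoc,
    ← Category.assoc, AcycCompLib.homEquiv_comparePull n₁ c m w₄ F, AcycCompLib.homEquiv_comparePull a n₂ m w₃ F]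
  simp only [Category.assoc]
  rw [← pushJoin_natural n₁ c m w₄, ← pushJoin_natural a n₂ m w₃, ← Functor.map_comp_assoc, ← Functor.map_comp_assoc]
  have e1 : (EtCoh.pullPushAdj c).unit.app ((EtCoh.pull n₁).obj F) ≫ (EtCoh.push c).map ((EtCoh.pull c).map X) =
      X ≫ ηc := ((EtCoh.pullPushAdj c).unit.naturality X).symm
  have e2 : (EtCoh.pullPushAdj n₂).unit.app ((EtCoh.pull a).obj F) ≫ (EtCoh.push n₂).map Y =
      ηb ≫ (EtCoh.push b).map ηc ≫ pushJoin b c n₂ w₂ _ :=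
    AcycCompLib.homEquiv_comparePull b c n₂ w₂ ((EtCoh.pull a).obj F)
  rw [e1, e2, Functor.map_comp, Functor.map_comp, Functor.map_comp]
  simp only [Category.assoc]
  rw [← Category.assoc ((EtCoh.pullPushAdj n₁).unit.app F), AcycCompLib.homEquiv_comparePull a b n₁ w₁ F]
  simp only [Category.assoc]
  rw [← reassoc_of% pushJoin_natural a b n₁ w₁ ηc]
  exact congrArg (fun z => (EtCoh.pullPushAdj a).unit.app F ≫
      (EtCoh.push a).map ηb ≫ (EtCoh.push a).map ((EtCoh.push b).map ηc) ≫ z)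
    (BCVertLib.pushJoin_assoc a b c n₁ w₁ n₂ w₂ m w₃ w₄ _).symm

theorem cp_assoc :
    (EtCoh.pull c).map (cp a b n₁ w₁ F).hom ≫ (cp n₁ c m w₄ F).hom =
      (cp b c n₂ w₂ ((EtCoh.pull a).obj F)).hom ≫ (cp a n₂ m w₃ F).hom := by
  let L := (EtCoh.pull c).mapIso (cp a b n₁ w₁ F) ≪≫ cp n₁ c m w₄ F
  let R := cp b c n₂ w₂ ((EtCoh.pull a).obj F) ≪≫ cp a n₂ m w₃ F
  suffices h : L.inv = R.inv by exact congrArg Iso.hom (show L = R from Iso.ext_inv h)
  show (cp n₁ c m w₄ F).inv ≫ (EtCoh.pull c).map (cp a b n₁ w₁ F).inv =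
    (cp a n₂ m w₃ F).inv ≫ (cp b c n₂ w₂ ((EtCoh.pull a).obj F)).inv
  simp only [cp_inv]
  exact comparePull_assoc a b c n₁ w₁ n₂ w₂ m w₃ w₄ F

/-- Coherence for a morphism of squares: the two ways from `u⁻¹ r⁻¹ T⁻¹ F` to `w⁻¹ p⁻¹ F` agree. -/
theorem square_coherence {Z X Xi Xj Yi Yj : Scheme.{u}} (w : Z ⟶ X) (pi : X ⟶ Xi) (pj : X ⟶ Xj) (T : Xj ⟶ Xi)
    (ui : Z ⟶ Yi) (uj : Z ⟶ Yj) (t : Yj ⟶ Yi) (ri : Yi ⟶ Xi) (rj : Yj ⟶ Xj)
    (hT : pj ≫ T = pi) (ht : uj ≫ t = ui) (hr : rj ≫ T = t ≫ ri) (hi : ui ≫ ri = w ≫ pi) (hj : uj ≫ rj = w ≫ pj)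
    (F : EtCoh.Ab Xi) :
    (EtCoh.pull uj).map ((cp T rj (t ≫ ri) hr F).hom ≫ (cp ri t (t ≫ ri) rfl F).inv) ≫
        (cp t uj ui ht ((EtCoh.pull ri).obj F)).hom ≫ (cp ri ui (w ≫ pi) hi F).hom ≫ (cp pi w (w ≫ pi) rfl F).inv =
      ((cp rj uj (w ≫ pj) hj ((EtCoh.pull T).obj F)).hom ≫ (cp pj w (w ≫ pj) rfl ((EtCoh.pull T).obj F)).inv) ≫
        (EtCoh.pull w).map (cp T pj pi hT F).hom := by
  have hA : uj ≫ (t ≫ ri) = w ≫ pi := by rw [← Category.assoc, ht, hi]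
  have hB : (w ≫ pj) ≫ T = w ≫ pi := by rw [Category.assoc, hT]
  rw [← cancel_mono (cp pi w (w ≫ pi) rfl F).hom]
  simp only [Category.assoc, Iso.inv_hom_id, Category.comp_id]
  rw [← cp_assoc ri t uj (t ≫ ri) rfl ui ht (w ≫ pi) hi hA F,
    cp_assoc T pj w pi hT (w ≫ pj) rfl (w ≫ pi) hB rfl F, ← Functor.map_comp_assoc]
  simp only [Category.assoc, Iso.inv_hom_id, Category.comp_id, Iso.inv_hom_id_assoc]
  exact cp_assoc T rj uj (t ≫ ri) hr (w ≫ pj) hj (w ≫ pi) hB hA F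

end Groth.Agent.PBCLib
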