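import Groth.Agent.PBCLib.Defs
import Groth.Agent.PBCLib.PullAssoc
import Groth.Agent.PBCLib.LimitStage
import Groth.Agent.FLCLib.Ops
import Groth.Agent.FLCLib.Gen
import Groth.Agent.S0646
import Groth.Agent.NApproxLib.ProperModel

/-!
# Descent of effaceability to noetherian models

If a proper morphism is a limit of morphisms whose fibre cohomology is effaceable, then so is its own.
-/

set_option autoImplicit false
set_option linter.style.haveILetI false
set_option backward.isDefEq.respectTransparency false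
set_option backward.isDefEq.respectTransparency.types false
set_option maxHeartbeats 1000000

universe u

open CategoryTheory CategoryTheory.Limits AlgebraicGeometry Opposite
open Groth.Agent.EtLimLib

noncomputable section

namespace Groth.Agent.PBCLib

theorem isAffineHom_pullback_map {X S X' S' Z : Scheme.{u}} (φ : X ⟶ S) (φ' : X' ⟶ S') (tX : X ⟶ X') (tS : S ⟶ S')
    [IsAffineHom tX] [IsAffineHom tS] (g : Z ⟶ S) (g' : Z ⟶ S') (w : φ ≫ tS = tX ≫ φ') (hg : g ≫ tS = 𝟙 Z ≫ g') :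
    IsAffineHom (pullback.map φ g φ' g' tX (𝟙 Z) tS w hg) := by
  let q : pullback (tX ≫ φ') g' ⟶ pullback φ' g' :=
    pullback.map (tX ≫ φ') g' φ' g' tX (𝟙 Z) (𝟙 S') (by simp) (by simp)
  have hq : IsPullback (pullback.fst (tX ≫ φ') g') q tX (pullback.fst φ' g') := by
    refine IsPullback.of_bot ?_ (by simp [q]) (IsPullback.of_hasPullback φ' g')
    simpa [q] using IsPullback.of_hasPullback (tX ≫ φ') g'
  haveI : IsAffineHom q := MorphismProperty.of_isPullback hq inferInstance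
  have hg' : g ≫ tS = g' := hg.trans (Category.id_comp _)
  have e : pullback.map φ g φ' g' tX (𝟙 Z) tS w hg =
      pullback.mapDesc φ g tS ≫ (pullback.congrHom w hg').hom ≫ q := by
    apply pullback.hom_ext <;> simp [q, pullback.congrHom_hom]
  rw [e]
  infer_instance

/-- A class killed by the pullback of a monomorphism from a stage can be killed on the total space. -/
theorem exists_pushout_efface {Z X : Scheme.{u}} (w : Z ⟶ X) {n : ℕ} {E F G : EtCoh.Ab X} (hF : EtCoh.KilledBy n F)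
    (g : E ⟶ F) (a : E ⟶ G) [Mono a] (hG : EtCoh.KilledBy n G) (q : ℕ)
    (d : EtCoh.H Z ((EtCoh.pull w).obj E) q) (hd : Sheaf.H.map ((EtCoh.pull w).map a) q d = 0) :
    ∃ (M : EtCoh.Ab X) (b : F ⟶ M), Mono b ∧ EtCoh.KilledBy n M ∧
      Sheaf.H.map ((EtCoh.pull w).map b) q (Sheaf.H.map ((EtCoh.pull w).map g) q d) = 0 := by
  refine ⟨pushout a g, pushout.inr a g, inferInstance, ?_, ?_⟩
  · rw [FLCLib.killedBy_iff] at hG hF ⊢
    refine pushout.hom_ext ?_ ?_
    · rw [comp_zero, Preadditive.comp_nsmul, Category.comp_id, ← Category.id_comp (pushout.inl a g),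
        ← Preadditive.nsmul_comp, hG, zero_comp]
    · rw [comp_zero, Preadditive.comp_nsmul, Category.comp_id, ← Category.id_comp (pushout.inr a g),
        ← Preadditive.nsmul_comp, hF, zero_comp]
  · rw [CompBCLib.H_map_map, ← Functor.map_comp, ← pushout.condition, Functor.map_comp, ← CompBCLib.H_map_map, hd]
    exact map_zero _

theorem killedBy_pull {X Y : Scheme.{u}} (f : X ⟶ Y) {n : ℕ} {F : EtCoh.Ab Y} (hF : EtCoh.KilledBy n F) :
    EtCoh.KilledBy n ((EtCoh.pull f).obj F) := by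
  rw [FLCLib.killedBy_iff] at hF ⊢
  rw [← CategoryTheory.Functor.map_id, ← Functor.map_nsmul, hF, Functor.map_zero]

/-- Bookkeeping for classes moved along isomorphisms. -/
theorem map_transport {Z : Scheme.{u}} {A B C D E F : EtCoh.Ab Z} (q : ℕ) (θ : A ≅ B) (ε : A ⟶ F) (P : D ⟶ C)
    (V : C ⟶ B) (Θ : D ⟶ E) (G : E ⟶ F) (coh : P ≫ V ≫ θ.inv ≫ ε = Θ ≫ G) (h₀ : EtCoh.H Z D q)
    (c : EtCoh.H Z A q) (hc : Sheaf.H.map V q (Sheaf.H.map P q h₀) = Sheaf.H.map θ.hom q c) :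
    Sheaf.H.map ε q c = Sheaf.H.map G q (Sheaf.H.map Θ q h₀) := by
  have hc' : c = Sheaf.H.map θ.inv q (Sheaf.H.map θ.hom q c) := by
    rw [CompBCLib.H_map_map, Iso.hom_inv_id]
    exact (CompBCLib.H_map_id q c).symm
  rw [hc', ← hc]
  simp only [CompBCLib.H_map_map, Category.assoc]
  rw [coh]

theorem cp_hom_natural_assoc {A B C : Scheme.{u}} (a : B ⟶ A) (b : C ⟶ B) (h : C ⟶ A) (w : b ≫ a = h)
    {G G' : EtCoh.Ab A} (f : G ⟶ G') {Q : EtCoh.Ab C} (k : (EtCoh.pull h).obj G' ⟶ Q) :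
    (EtCoh.pull b).map ((EtCoh.pull a).map f) ≫ (cp a b h w G').hom ≫ k =
      (cp a b h w G).hom ≫ (EtCoh.pull h).map f ≫ k := by
  subst w
  rw [← Category.assoc, ← Category.assoc]
  congr 1
  exact (((EtCore.pullComp b a).symm ≪≫ EtCore.pullCongr rfl).hom.naturality f)

theorem cp_inv_natural {A B C : Scheme.{u}} (a : B ⟶ A) (b : C ⟶ B) (h : C ⟶ A) (w : b ≫ a = h)
    {G G' : EtCoh.Ab A} (f : G ⟶ G') :
    (cp a b h w G).inv ≫ (EtCoh.pull b).map ((EtCoh.pull a).map f) =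
      (EtCoh.pull h).map f ≫ (cp a b h w G').inv := by
  rw [cp_inv, cp_inv]
  exact ((comparePull a b h w).naturality f).symm

/-- Naturality of the two composition isomorphisms around a commutative square. -/
theorem cp_square_natural {A B C D : Scheme.{u}} (r : B ⟶ A) (u : D ⟶ B) (p : C ⟶ A) (w : D ⟶ C)
    (h : u ≫ r = w ≫ p) {G G' : EtCoh.Ab A} (a : G ⟶ G') :
    ((cp r u (w ≫ p) h G).hom ≫ (cp p w (w ≫ p) rfl G).inv) ≫ (EtCoh.pull w).map ((EtCoh.pull p).map a) =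
      (EtCoh.pull u).map ((EtCoh.pull r).map a) ≫ ((cp r u (w ≫ p) h G').hom ≫ (cp p w (w ≫ p) rfl G').inv) :=
  (Category.assoc _ _ _).trans ((congrArg ((cp r u (w ≫ p) h G).hom ≫ ·)
    (cp_inv_natural p w (w ≫ p) rfl a)).trans (cp_hom_natural_assoc r u (w ≫ p) h a _).symm)

/-- The transport of an effacement from a stage to the limit. -/
theorem efface_of_stage {Z X Xi Xj Yi Yj : Scheme.{u}} (w : Z ⟶ X) (pi : X ⟶ Xi) (pj : X ⟶ Xj) (T : Xj ⟶ Xi)
    (ui : Z ⟶ Yi) (uj : Z ⟶ Yj) (t : Yj ⟶ Yi) (ri : Yi ⟶ Xi) (rj : Yj ⟶ Xj)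
    (hT : pj ≫ T = pi) (ht : uj ≫ t = ui) (hr : rj ≫ T = t ≫ ri) (hi : ui ≫ ri = w ≫ pi) (hj : uj ≫ rj = w ≫ pj)
    [PreservesFiniteLimits (EtCoh.pull uj)] [PreservesFiniteLimits (EtCoh.pull pj)]
    {n : ℕ} (F : EtCoh.Ab X) (hF : EtCoh.KilledBy n F) (q : ℕ)
    (c' : EtCoh.H Z ((EtCoh.pull w).obj ((EtCoh.pull pi).obj ((EtCoh.push pi).obj F))) q)
    (x : EtCoh.H Yj ((EtCoh.pull t).obj ((EtCoh.pull ri).obj ((EtCoh.push pi).obj F))) q)
    (hx : EtCore.HpullVia uj t ui ht ((EtCoh.pull ri).obj ((EtCoh.push pi).obj F)) q x =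
      Sheaf.H.map ((cp pi w (w ≫ pi) rfl ((EtCoh.push pi).obj F)).hom ≫
        (cp ri ui (w ≫ pi) hi ((EtCoh.push pi).obj F)).inv) q c')
    (heff : ∀ G : EtCoh.Ab Xj, EtCoh.KilledBy n G → ∀ y : EtCoh.H Yj ((EtCoh.pull rj).obj G) q,
      ∃ (M : EtCoh.Ab Xj) (a : G ⟶ M), Mono a ∧ EtCoh.KilledBy n M ∧
        Sheaf.H.map ((EtCoh.pull rj).map a) q y = 0) :
    ∃ (M : EtCoh.Ab X) (b : F ⟶ M), Mono b ∧ EtCoh.KilledBy n M ∧
      Sheaf.H.map ((EtCoh.pull w).map b) q
        (Sheaf.H.map ((EtCoh.pull w).map ((EtCoh.pullPushAdj pi).counit.app F)) q c') = 0 := by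
  obtain ⟨Mj, aj, haj, hMj, haj0⟩ := heff _ (killedBy_pull T (CompBCLib.killedBy_push pi hF))
    (Sheaf.H.map ((cp ri t (t ≫ ri) rfl ((EtCoh.push pi).obj F)).hom ≫
      (cp T rj (t ≫ ri) hr ((EtCoh.push pi).obj F)).inv) q x)
  haveI := haj
  haveI : (EtCoh.pull pj).PreservesMonomorphisms := preservesMonomorphisms_of_preservesLimitsOfShape _
  have hγ := congrArg (fun z => Sheaf.H.map z q x)
    ((cp ri t (t ≫ ri) rfl ((EtCoh.push pi).obj F) ≪≫
      (cp T rj (t ≫ ri) hr ((EtCoh.push pi).obj F)).symm).hom_inv_id)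
  have hd : Sheaf.H.map ((EtCoh.pull w).map ((EtCoh.pull pj).map aj)) q
      (Sheaf.H.map ((cp rj uj (w ≫ pj) hj ((EtCoh.pull T).obj ((EtCoh.push pi).obj F))).hom ≫
        (cp pj w (w ≫ pj) rfl ((EtCoh.pull T).obj ((EtCoh.push pi).obj F))).inv) q
        (EtCore.Hpull uj _ q (Sheaf.H.map ((cp ri t (t ≫ ri) rfl ((EtCoh.push pi).obj F)).hom ≫
          (cp T rj (t ≫ ri) hr ((EtCoh.push pi).obj F)).inv) q x))) = 0 := by
    rw [CompBCLib.H_map_map, cp_square_natural, ← CompBCLib.H_map_map, ← CompBCLib.Hpull_map, haj0, map_zero,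
      map_zero]
  obtain ⟨M, b, hb, hM, h0⟩ := exists_pushout_efface w hF
    ((cp T pj pi hT ((EtCoh.push pi).obj F)).hom ≫ (EtCoh.pullPushAdj pi).counit.app F) ((EtCoh.pull pj).map aj)
    (killedBy_pull _ hMj) q _ hd
  refine ⟨M, b, hb, hM, ?_⟩
  refine Eq.trans (congrArg (Sheaf.H.map ((EtCoh.pull w).map b) q) ?_) h0
  refine map_transport q (cp pi w (w ≫ pi) rfl ((EtCoh.push pi).obj F) ≪≫
      (cp ri ui (w ≫ pi) hi ((EtCoh.push pi).obj F)).symm) _
    ((EtCoh.pull uj).map ((cp T rj (t ≫ ri) hr ((EtCoh.push pi).obj F)).hom ≫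
      (cp ri t (t ≫ ri) rfl ((EtCoh.push pi).obj F)).inv))
    (cp t uj ui ht ((EtCoh.pull ri).obj ((EtCoh.push pi).obj F))).hom _ _ ?_ _ c' ?_
  · simp only [Iso.trans_inv, Iso.symm_inv, Functor.map_comp, Category.assoc]
    have h := square_coherence w pi pj T ui uj t ri rj hT ht hr hi hj ((EtCoh.push pi).obj F)
    simp only [Functor.map_comp, Category.assoc] at h
    exact (reassoc_of% h) ((EtCoh.pull w).map ((EtCoh.pullPushAdj pi).counit.app F))
  · refine Eq.trans ?_ hx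
    rw [CompBCLib.HpullVia_eq, ← CompBCLib.Hpull_map, CompBCLib.H_map_map]
    refine congrArg (fun z => Sheaf.H.map _ q (EtCore.Hpull uj _ q z)) ?_
    simp only [Iso.trans_hom, Iso.trans_inv, Iso.symm_hom, Iso.symm_inv, CompBCLib.H_map_id] at hγ
    exact hγ

section System

variable {ι : Type u} [Preorder ι] [Nonempty ι] [IsDirected ι (· ≤ ·)]

/-- Effacement on a limit from effacement on the stages, for two systems over the same index set. -/
theorem efface_of_systems (SX SY : Sys ι) (w : SY.c.pt ⟶ SX.c.pt) (r : ∀ a : ι, SY.X a ⟶ SX.X a)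
    (hr : ∀ {a b : ι} (h : a ≤ b), r b ≫ SX.t h = SY.t h ≫ r a) (hu : ∀ a, SY.u a ≫ r a = w ≫ SX.u a)
    {n : ℕ} (q : ℕ)
    (heff : ∀ (a : ι) (G : EtCoh.Ab (SX.X a)), EtCoh.KilledBy n G →
      ∀ y : EtCoh.H (SY.X a) ((EtCoh.pull (r a)).obj G) q,
        ∃ (M : EtCoh.Ab (SX.X a)) (e : G ⟶ M), Mono e ∧ EtCoh.KilledBy n M ∧
          Sheaf.H.map ((EtCoh.pull (r a)).map e) q y = 0)
    (F : EtCoh.Ab SX.c.pt) (hF : EtCoh.KilledBy n F) (c : EtCoh.H SY.c.pt ((EtCoh.pull w).obj F) q) :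
    ∃ (M : EtCoh.Ab SX.c.pt) (b : F ⟶ M), Mono b ∧ EtCoh.KilledBy n M ∧
      Sheaf.H.map ((EtCoh.pull w).map b) q c = 0 := by
  haveI : CompactSpace ↥SY.c.pt := SY.qc_pt
  haveI : QuasiSeparatedSpace ↥SY.c.pt := SY.qs_pt
  obtain ⟨i, c', hc'⟩ := exists_push_stage (S := SX) w F q c
  obtain ⟨j, hij, x, hx⟩ := (S0646.result SY.Xs SY.aff SY.qc SY.qs SY.c SY.hc i
    ((EtCoh.pull (r i)).obj ((EtCoh.push (SX.u i)).obj F)) q).1
    (Sheaf.H.map ((cp (SX.u i) w (w ≫ SX.u i) rfl _).hom ≫ (cp (r i) (SY.u i) (w ≫ SX.u i) (hu i) _).inv) q c')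
  rw [← hc']
  exact efface_of_stage w (SX.u i) (SX.u j) (SX.t hij) (SY.u i) (SY.u j) (SY.t hij) (r i) (r j) (SX.u_t hij)
    (SY.u_t hij) (hr hij) (hu i) (hu j) F hF q c' x hx (heff j)

variable {X S Z : Scheme.{u}} (f : X ⟶ S) (DX DS : ιᵒᵖ ⥤ Scheme.{u}) (φ : DX ⟶ DS)
  (pX : (Functor.const ιᵒᵖ).obj X ⟶ DX) (pS : (Functor.const ιᵒᵖ).obj S ⟶ DS) (ξ : Z ⟶ S)

omit [Nonempty ι] [IsDirected ι (· ≤ ·)] in
theorem app_map {D : ιᵒᵖ ⥤ Scheme.{u}} {T : Scheme.{u}} (p : (Functor.const ιᵒᵖ).obj T ⟶ D) {a b : ιᵒᵖ} (h : a ⟶ b) :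
    p.app a ≫ D.map h = p.app b := by
  simpa using (p.naturality h).symm

/-- The fibres of the stages. -/
@[simps]
def fibDiag : ιᵒᵖ ⥤ Scheme.{u} where
  obj a := pullback (φ.app a) (ξ ≫ pS.app a)
  map {a b} h := pullback.map _ _ _ _ (DX.map h) (𝟙 _) (DS.map h) (φ.naturality h).symm
    (by rw [Category.id_comp, Category.assoc, app_map pS h])
  map_id a := by apply pullback.hom_ext <;> simp
  map_comp {a b d} h h' := by apply pullback.hom_ext <;> simp

variable (hsq : ∀ a, pX.app a ≫ φ.app a = f ≫ pS.app a)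

/-- The fibre maps to the fibres of the stages. -/
@[simps]
def fibCone : Cone (fibDiag DX DS φ pS ξ) where
  pt := pullback f ξ
  π :=
    { app := fun a => pullback.lift (pullback.fst f ξ ≫ pX.app a) (pullback.snd f ξ) (by
        rw [Category.assoc, hsq a]
        exact pullback.condition_assoc (pS.app a))
      naturality := fun {a b} h => by
        apply pullback.hom_ext
        · simp [app_map pX h]
        · simp }

variable {f DX DS φ pX pS ξ}

omit [Nonempty ι] [IsDirected ι (· ≤ ·)] in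
theorem fib_cone_fst (s : Cone (fibDiag DX DS φ pS ξ)) {a b : ιᵒᵖ} (h : a ⟶ b) :
    (s.π.app a ≫ pullback.fst _ _) ≫ DX.map h = s.π.app b ≫ pullback.fst _ _ := by
  rw [← s.w h, fibDiag_map, Category.assoc, Category.assoc, pullback.lift_fst]

omit [Nonempty ι] in
theorem fib_cone_snd (s : Cone (fibDiag DX DS φ pS ξ)) (a b : ιᵒᵖ) :
    s.π.app a ≫ pullback.snd (φ.app a) (ξ ≫ pS.app a) = s.π.app b ≫ pullback.snd (φ.app b) (ξ ≫ pS.app b) := by
  obtain ⟨d, h₁, h₂⟩ := directed_of (α := ι) (· ≤ ·) a.unop b.unop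
  have k : ∀ {x y : ιᵒᵖ} (h : x ⟶ y),
      s.π.app y ≫ pullback.snd _ _ = s.π.app x ≫ pullback.snd _ _ := fun {x y} h => by
    rw [← s.w h, fibDiag_map, Category.assoc, pullback.lift_snd, Category.comp_id]
  exact (k (homOfLE h₁).op).trans (k (homOfLE h₂).op).symm

/-- The cone of first projections. -/
def fstCone (s : Cone (fibDiag DX DS φ pS ξ)) : Cone DX where
  pt := s.pt
  π :=
    { app := fun a => s.π.app a ≫ pullback.fst _ _
      naturality := fun {a b} h => (Category.id_comp _).trans (fib_cone_fst s h).symm }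

/-- The fibre is the limit of the fibres of the stages. -/
def fibIsLimit (hX : IsLimit (Cone.mk X pX)) (hS : IsLimit (Cone.mk S pS)) :
    IsLimit (fibCone f DX DS φ pX pS ξ hsq) where
  lift s := pullback.lift (hX.lift (fstCone s))
    (s.π.app (op (Classical.arbitrary ι)) ≫ pullback.snd _ _) (hS.hom_ext fun a => by
      have e : hX.lift (fstCone s) ≫ pX.app a = s.π.app a ≫ pullback.fst _ _ := hX.fac (fstCone s) a
      show (hX.lift (fstCone s) ≫ f) ≫ pS.app a = ((_ ≫ _) ≫ ξ) ≫ pS.app a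
      rw [Category.assoc, ← hsq a, reassoc_of% e, fib_cone_snd s (op (Classical.arbitrary ι)) a,
        Category.assoc, Category.assoc, pullback.condition])
  fac s a := by
    apply pullback.hom_ext
    · rw [Category.assoc, fibCone_π_app, pullback.lift_fst, pullback.lift_fst_assoc]
      exact hX.fac (fstCone s) a
    · rw [Category.assoc, fibCone_π_app, pullback.lift_snd, pullback.lift_snd]
      exact fib_cone_snd s _ a
  uniq s m hm := by
    apply pullback.hom_ext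
    · rw [pullback.lift_fst]
      refine hX.hom_ext fun a => ?_
      refine Eq.trans ?_ (hX.fac (fstCone s) a).symm
      show (m ≫ pullback.fst f ξ) ≫ pX.app a = s.π.app a ≫ pullback.fst _ _
      rw [← hm a, Category.assoc, Category.assoc, fibCone_π_app, pullback.lift_fst]
    · rw [pullback.lift_snd, ← hm, Category.assoc, fibCone_π_app, pullback.lift_snd]

omit [Nonempty ι] [IsDirected ι (· ≤ ·)] in
theorem isAffineHom_fibDiag_map (haX : ∀ ⦃a b : ιᵒᵖ⦄ (h : a ⟶ b), IsAffineHom (DX.map h))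
    (haS : ∀ ⦃a b : ιᵒᵖ⦄ (h : a ⟶ b), IsAffineHom (DS.map h)) ⦃a b : ιᵒᵖ⦄ (h : a ⟶ b) :
    IsAffineHom ((fibDiag DX DS φ pS ξ).map h) := by
  haveI := haX h
  haveI := haS h
  exact isAffineHom_pullback_map (φ.app a) (φ.app b) (DX.map h) (DS.map h) (ξ ≫ pS.app a) (ξ ≫ pS.app b)
    (φ.naturality h).symm (by rw [Category.id_comp, Category.assoc, app_map pS h])

variable (f DX DS φ pX pS)

/-- Effaceability passes to the limit of a directed system. -/
theorem effaceableAny_of_sys (hX : IsLimit (Cone.mk X pX)) (hS : IsLimit (Cone.mk S pS))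
    (haX : ∀ ⦃a b : ιᵒᵖ⦄ (h : a ⟶ b), IsAffineHom (DX.map h)) (haS : ∀ ⦃a b : ιᵒᵖ⦄ (h : a ⟶ b), IsAffineHom (DS.map h))
    [∀ a, IsProper (φ.app a)] [∀ a, CompactSpace (DS.obj a)] [∀ a, QuasiSeparatedSpace (DS.obj a)]
    (hsq : ∀ a, pX.app a ≫ φ.app a = f ≫ pS.app a) (heff : ∀ a, EffaceableAny (φ.app a)) : EffaceableAny f := by
  intro n hn Ω _ _ ξ F hF q hq c
  haveI hqcX : ∀ a, CompactSpace (DX.obj a) := fun a => QuasiCompact.compactSpace_of_compactSpace (φ.app a)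
  haveI hqsX : ∀ a, QuasiSeparatedSpace (DX.obj a) := fun a => quasiSeparatedSpace_of_quasiSeparated (φ.app a)
  let DY := fibDiag DX DS φ pS ξ
  let cY := fibCone f DX DS φ pX pS ξ hsq
  let SX : Sys ι := ⟨DX, haX, hqcX, hqsX, Cone.mk X pX, hX⟩
  let SY : Sys ι :=
    { Xs := DY
      aff := isAffineHom_fibDiag_map haX haS
      qc := fun a => QuasiCompact.compactSpace_of_compactSpace (pullback.snd (φ.app a) (ξ ≫ pS.app a))
      qs := fun a => quasiSeparatedSpace_of_quasiSeparated (pullback.snd (φ.app a) (ξ ≫ pS.app a))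
      c := cY
      hc := fibIsLimit hsq hX hS }
  exact efface_of_systems SX SY (pullback.fst f ξ) (fun a => pullback.fst (φ.app (op a)) (ξ ≫ pS.app (op a)))
    (fun {a b} h => (pullback.lift_fst _ _ _).symm) (fun a => pullback.lift_fst _ _ _) q
    (fun a G hG y => heff (op a) n hn Ω (ξ ≫ pS.app (op a)) G hG q hq y) F hF c

end System

/-- Effaceability passes to cofiltered limits. -/
theorem effaceableAny_of_limit {X S : Scheme.{u}} (f : X ⟶ S) {I : Type u} [SmallCategory I] [IsCofiltered I]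
    (DX DS : I ⥤ Scheme.{u}) (φ : DX ⟶ DS) (pX : (Functor.const I).obj X ⟶ DX)
    (pS : (Functor.const I).obj S ⟶ DS) (hX : IsLimit (Cone.mk X pX)) (hS : IsLimit (Cone.mk S pS))
    (haff : ∀ (i j : I) (a : i ⟶ j), IsAffineHom (DX.map a) ∧ IsAffineHom (DS.map a))
    [∀ i, IsProper (φ.app i)] [∀ i, CompactSpace (DS.obj i)] [∀ i, QuasiSeparatedSpace (DS.obj i)]
    (hsq : ∀ i, pX.app i ≫ φ.app i = f ≫ pS.app i) (heff : ∀ i, EffaceableAny (φ.app i)) : EffaceableAny f := by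
  obtain ⟨α, _, _, _, F, _⟩ := IsFiltered.exists_directed.{u} Iᵒᵖ
  let G : αᵒᵖ ⥤ I := F.op ⋙ unopUnop I
  haveI : (unopUnop I).Initial := inferInstance
  haveI : G.Initial := inferInstanceAs (F.op ⋙ unopUnop I).Initial
  haveI : ∀ a, IsProper ((Functor.whiskerLeft G φ).app a) := fun a => inferInstanceAs (IsProper (φ.app (G.obj a)))
  haveI : ∀ a, CompactSpace ((G ⋙ DS).obj a) := fun a => inferInstanceAs (CompactSpace (DS.obj (G.obj a)))
  haveI : ∀ a, QuasiSeparatedSpace ((G ⋙ DS).obj a) := fun a =>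
    inferInstanceAs (QuasiSeparatedSpace (DS.obj (G.obj a)))
  exact effaceableAny_of_sys f (G ⋙ DX) (G ⋙ DS) (Functor.whiskerLeft G φ)
    ((Cone.mk X pX).whisker G).π ((Cone.mk S pS).whisker G).π
    ((Functor.Initial.isLimitWhiskerEquiv G (Cone.mk X pX)).symm hX)
    ((Functor.Initial.isLimitWhiskerEquiv G (Cone.mk S pS)).symm hS)
    (fun a b h => (haff _ _ _).1) (fun a b h => (haff _ _ _).2) (fun a => hsq (G.obj a)) (fun a => heff (G.obj a))

theorem EffaceableAny.effaceable {X S : Scheme.{u}} {f : X ⟶ S} (h : EffaceableAny f) : Effaceable f :=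
  fun n hn Ω _ _ ξ _ => h n hn Ω ξ

/-- Effaceability passes to cofiltered limits. -/
theorem effaceable_of_limit {X S : Scheme.{u}} (f : X ⟶ S) {I : Type u} [SmallCategory I] [IsCofiltered I]
    (DX DS : I ⥤ Scheme.{u}) (φ : DX ⟶ DS) (pX : (Functor.const I).obj X ⟶ DX)
    (pS : (Functor.const I).obj S ⟶ DS) (hX : IsLimit (Cone.mk X pX)) (hS : IsLimit (Cone.mk S pS))
    (haff : ∀ (i j : I) (a : i ⟶ j), IsAffineHom (DX.map a) ∧ IsAffineHom (DS.map a))
    [∀ i, IsProper (φ.app i)] [∀ i, CompactSpace (DS.obj i)] [∀ i, QuasiSeparatedSpace (DS.obj i)]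
    (hsq : ∀ i, pX.app i ≫ φ.app i = f ≫ pS.app i) (heff : ∀ i, EffaceableAny (φ.app i)) : Effaceable f :=
  (effaceableAny_of_limit f DX DS φ pX pS hX hS haff hsq heff).effaceable

/-- Effaceability for proper morphisms of noetherian schemes gives it for all proper morphisms. -/
theorem effaceableAny_of_noetherian
    (H : ∀ {X S : Scheme.{u}} (f : X ⟶ S) [IsProper f] [IsNoetherian X] [IsNoetherian S], EffaceableAny f)
    {X S : Scheme.{u}} (f : X ⟶ S) [IsProper f] [CompactSpace S] [QuasiSeparatedSpace S] : EffaceableAny f := by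
  obtain ⟨I, _, _, DX, DS, φ, pX, pS, hX, hS, haff, hobj, hsq⟩ := NApproxLib.exists_proper_arrow_limit f
  haveI : ∀ i, IsProper (φ.app i) := fun i => (hobj i).1
  haveI : ∀ i, CompactSpace (DS.obj i) := fun i => (hobj i).2.1
  haveI : ∀ i, IsLocallyNoetherian (DS.obj i) := fun i => NApproxLib.isLocallyNoetherian_of_isFTZ (hobj i).2.2
  haveI : ∀ i, IsNoetherian (DS.obj i) := fun i => {}
  haveI : ∀ i, IsLocallyNoetherian (DX.obj i) := fun i => LocallyOfFiniteType.isLocallyNoetherian (φ.app i)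
  haveI : ∀ i, CompactSpace (DX.obj i) := fun i => QuasiCompact.compactSpace_of_compactSpace (φ.app i)
  haveI : ∀ i, IsNoetherian (DX.obj i) := fun i => {}
  exact effaceableAny_of_limit f DX DS φ pX pS hX hS haff hsq fun i => H (φ.app i)

end Groth.Agent.PBCLib
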