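import Groth.Agent.FLCLib.Sub
import Groth.Agent.EtPtsLib.Agree

/-!
# Constructible sheaves are detected by finitely many points

On a noetherian scheme the stalks of a constructible sheaf inject into the stalks of the direct images from
finitely many geometric points.
-/

set_option autoImplicit false
set_option linter.style.haveILetI false
set_option backward.isDefEq.respectTransparency false
set_option backward.isDefEq.respectTransparency.types false

universe u

open CategoryTheory CategoryTheory.Limits AlgebraicGeometry Opposite TopologicalSpace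

namespace Groth.Agent.PBCLib

open EtPtsLib FLCLib

variable {X : Scheme.{u}}

/-- The map from a sheaf to its skyscraper at a geometric point is injective on the stalks above it where the
sheaf is constant. -/
theorem eq_zero_of_unit_eq_zero {x : X} {F : EtCoh.Ab X} {U : X.Etale} {M : AddCommGrpCat.{u + 1}}
    {θ : M ⟶ F.obj.obj (op U)} (hθ : IsConstAbove x F U θ)
    {Ω : Type u} [Field Ω] [IsSepClosed Ω] (ζ : Spec (CommRingCat.of Ω) ⟶ X) (hU : ζ default ∈ Set.range U.hom)
    (hz : x ⤳ ζ default) (e : (EtCoh.stalk ζ).obj F)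
    (he : (EtCoh.stalk ζ).map ((EtCoh.pullPushAdj (geomPtAlg x)).unit.app F) e = 0) : e = 0 := by
  obtain ⟨v, hv⟩ := hU
  obtain ⟨l, -⟩ := Scheme.pointSmallEtaleFiberObjToPreimage_surjective ζ rfl U ⟨v, hv⟩
  obtain ⟨m, rfl⟩ := (hθ Ω ζ l hz).2 e
  set g := geomPtAlg x
  let u := (EtCoh.pullPushAdj g).unit.app F
  have h0 : germ ζ _ l (u.hom.app (op U) (θ m)) = germ ζ _ l (0 : EtCoh.sect ((EtCoh.push g).obj ((EtCoh.pull g).obj F)) U) :=
    ((germ_app u l (θ m)).symm.trans he).trans (map_zero _).symm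
  obtain ⟨V, k, y, hy, hk⟩ := ((Scheme.pointSmallEtale ζ).toPresheafFiber_eq_iff' U l _ _).1 h0
  have hV : u.hom.app (op V) (F.obj.map k.op (θ m)) = 0 :=
    (NatTrans.naturality_apply u.hom k.op (θ m)).trans (hk.trans (map_zero _))
  haveI : Etale V.hom := V.prop
  have hp : V.hom (liftHom ζ y default) = ζ default := (Scheme.Hom.comp_apply _ _ _).symm.trans
    (congrArg (fun h : Spec (CommRingCat.of Ω) ⟶ X => h default) (liftHom_comp ζ y))
  obtain ⟨w, -, hw⟩ := Flat.generalizingMap V.hom (show x ⤳ V.hom (liftHom ζ y default) by rw [hp]; exact hz)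
  let ζ₀ : Spec (CommRingCat.of (AlgebraicClosure (X.residueField x))) ⟶
    Spec (CommRingCat.of (AlgebraicClosure (X.residueField x))) := 𝟙 _
  have hP : (ζ₀ ≫ g) default = x := by
    rw [Category.id_comp]
    exact geomPtAlg_default x
  obtain ⟨l', -⟩ := Scheme.pointSmallEtaleFiberObjToPreimage_surjective (ζ₀ ≫ g) hP V ⟨w, hw⟩
  have e1 := congr($(toPresheafFiber_unitStalk g ζ₀ F V l') (F.obj.map k.op (θ m)))
  have e2 : germ (ζ₀ ≫ g) F l' (F.obj.map k.op (θ m)) = 0 := by
    refine (bijective_unitStalk g ζ₀ F).1 ?_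
    refine e1.trans ?_
    refine Eq.trans ?_ (AddMonoidHom.map_zero _).symm
    exact (congrArg _ hV).trans (AddMonoidHom.map_zero _)
  rw [germ_map] at e2
  have hm : m = 0 := (hθ _ (ζ₀ ≫ g) _ (hP.symm ▸ specializes_rfl)).1 (e2.trans (by simp))
  subst hm
  simp

/-- Finitely many points detect a generically constant sheaf on a noetherian space. -/
theorem exists_finite_detect [NoetherianSpace X] {F : EtCoh.Ab X} (hF : GenConst F) (Z : Closeds X) :
    ∃ S : Finset X, ∀ (Ω : Type u) [Field Ω] [IsSepClosed Ω] (ζ : Spec (CommRingCat.of Ω) ⟶ X),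
      ζ default ∈ Z → ∀ e : (EtCoh.stalk ζ).obj F,
        (∀ x ∈ S, (EtCoh.stalk ζ).map ((EtCoh.pullPushAdj (geomPtAlg x)).unit.app F) e = 0) → e = 0 := by
  classical
  induction Z using WellFoundedLT.induction with
  | ind Z IH =>
  rcases (Z : Set X).eq_empty_or_nonempty with hne | hne
  · refine ⟨∅, fun Ω _ _ ζ h => ?_⟩
    exact absurd (show ζ default ∈ (Z : Set X) from h) (by simp [hne])
  by_cases hZ : IsPreirreducible (Z : Set X)
  · have hirr : IsIrreducible (Z : Set X) := ⟨hne, hZ⟩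
    let x := hirr.genericPoint
    have hcl : closure ({x} : Set X) = Z := by
      rw [show closure ({x} : Set X) = closure (Z : Set X) from hirr.isGenericPoint_genericPoint_closure]
      exact Z.isClosed.closure_eq
    obtain ⟨U, M, θ, hx, -, hθ⟩ := hF x
    haveI : Etale U.hom := U.prop
    let Z' : Closeds X := ⟨(Z : Set X) \ Set.range U.hom, Z.isClosed.sdiff U.hom.isOpenMap.isOpen_range⟩
    have hlt : Z' < Z := by
      refine lt_of_le_of_ne (fun a ha => ha.1) fun h => ?_
      have hxZ : x ∈ (Z : Set X) := hcl ▸ subset_closure rfl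
      rw [← h] at hxZ
      exact hxZ.2 hx
    obtain ⟨S, hS⟩ := IH Z' hlt
    refine ⟨insert x S, fun Ω _ _ ζ hζ e he => ?_⟩
    by_cases hU : ζ default ∈ Set.range U.hom
    · refine eq_zero_of_unit_eq_zero hθ ζ hU ?_ e (he x (Finset.mem_insert_self _ _))
      rw [specializes_iff_mem_closure, hcl]
      exact hζ
    · exact hS Ω ζ ⟨hζ, hU⟩ e fun y hy => he y (Finset.mem_insert_of_mem hy)
  · rw [isPreirreducible_iff_isClosed_union_isClosed] at hZ
    push Not at hZ
    obtain ⟨z₁, z₂, h₁, h₂, h12, hn1, hn2⟩ := hZ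
    let Z₁ : Closeds X := Z ⊓ ⟨z₁, h₁⟩
    let Z₂ : Closeds X := Z ⊓ ⟨z₂, h₂⟩
    have hlt₁ : Z₁ < Z := lt_of_le_of_ne inf_le_left fun h => hn1 fun a ha => by
      rw [← h] at ha
      exact ha.2
    have hlt₂ : Z₂ < Z := lt_of_le_of_ne inf_le_left fun h => hn2 fun a ha => by
      rw [← h] at ha
      exact ha.2
    obtain ⟨S₁, hS₁⟩ := IH Z₁ hlt₁
    obtain ⟨S₂, hS₂⟩ := IH Z₂ hlt₂
    refine ⟨S₁ ∪ S₂, fun Ω _ _ ζ hζ e he => ?_⟩
    rcases h12 (show ζ default ∈ (Z : Set X) from hζ) with h | h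
    · exact hS₁ Ω ζ ⟨hζ, h⟩ e fun y hy => he y (Finset.mem_union_left _ hy)
    · exact hS₂ Ω ζ ⟨hζ, h⟩ e fun y hy => he y (Finset.mem_union_right _ hy)

end Groth.Agent.PBCLib
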