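import Groth.Agent.PBCLib.AIC
import Groth.Agent.PBCLib.Detect
import Groth.Agent.FLCLib.Efface
import Groth.Agent.FLCLib.Present
import Groth.Agent.CompBCLib.Killed
import Groth.Agent.FLCLib.Filtration
import Groth.Agent.EtVanish.Henselian
import Groth.Agent.ConstGenLib.Unit
import Groth.Agent.ZarEtLib.Basic
import Groth.Agent.EtPtsLib.SepClosedField
import Groth.Agent.EtPtsLib.IntegralBCIso

/-!
# Effaceability of cohomology of fibres from the acyclicity of constant sheaves

A constructible sheaf on a noetherian scheme embeds into finitely many direct images of constant sheaves from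
absolutely integrally closed integral schemes, integral over it.
-/

set_option autoImplicit false
set_option linter.style.haveILetI false
set_option backward.isDefEq.respectTransparency false
set_option backward.isDefEq.respectTransparency.types false

universe u

open CategoryTheory CategoryTheory.Limits AlgebraicGeometry Opposite

noncomputable section

namespace Groth.Agent.PBCLib

open EtPtsLib FLCLib

variable {X S : Scheme.{u}}

/-- The sheaves without higher cohomology on the geometric fibres. -/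
def FibreVanish (f : X ⟶ S) (F : EtCoh.Ab X) : Prop :=
  ∀ (Ω : Type u) [Field Ω] [IsAlgClosed Ω] (ξ : Spec (CommRingCat.of Ω) ⟶ S), IsAlgPt ξ → ∀ q : ℕ, 0 < q →
    Subsingleton (EtCoh.H (pullback f ξ) ((EtCoh.pull (pullback.fst f ξ)).obj F) q)

theorem HF_additive (X : Scheme.{u}) (q : ℕ) : (EtCoh.HF X q).Additive := by
  unfold EtCoh.HF; infer_instance

theorem H_equiv_of_iso {X : Scheme.{u}} {F G : EtCoh.Ab X} (e : F ≅ G) (q : ℕ) :
    Nonempty (EtCoh.H X F q ≃+ EtCoh.H X G q) :=
  ⟨((EtCoh.HF X q).mapIso e).addCommGroupIsoToAddEquiv⟩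

/-- An additive functor kills an object split into pieces it kills. -/
theorem isZero_of_decomp {C D : Type*} [Category C] [Category D] [Preadditive C] [Preadditive D] (Φ : C ⥤ D)
    [Φ.Additive] {A : C} {ι : Type*} [Fintype ι] {B : ι → C} (p : ∀ i, A ⟶ B i) (s : ∀ i, B i ⟶ A)
    (h : 𝟙 A = ∑ i, p i ≫ s i) (hB : ∀ i, IsZero (Φ.obj (B i))) : IsZero (Φ.obj A) := by
  rw [IsZero.iff_id_eq_zero, ← CategoryTheory.Functor.map_id, h, Functor.map_sum]
  exact Finset.sum_eq_zero fun i _ => by rw [Functor.map_comp, (hB i).eq_of_tgt (Φ.map (p i)) 0, zero_comp]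

theorem subsingleton_H_iff {X : Scheme.{u}} (F : EtCoh.Ab X) (q : ℕ) :
    Subsingleton (EtCoh.H X F q) ↔ IsZero ((EtCoh.HF X q).obj F) :=
  subsingleton_iff_isZero ((EtCoh.HF X q).obj F)

theorem fibreVanish_biproduct (f : X ⟶ S) {k : ℕ} (F : Fin k → EtCoh.Ab X) (h : ∀ i, FibreVanish f (F i)) :
    FibreVanish f (⨁ F) := fun Ω _ _ ξ hξ q hq => by
  haveI := HF_additive (pullback f ξ) q
  rw [subsingleton_H_iff]
  exact isZero_of_decomp (EtCoh.pull (pullback.fst f ξ) ⋙ EtCoh.HF (pullback f ξ) q) (biproduct.π F)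
    (biproduct.ι F) biproduct.total.symm fun i => (subsingleton_H_iff _ q).1 (h i Ω ξ hξ q hq)

/-- Constant sheaves with finite values have no higher cohomology if the cyclic ones have none. -/
theorem ConstAcyclic.finite {C : Scheme.{u}} (hC : ConstAcyclic C) (M : AddCommGrpCat.{u + 1}) [Finite M]
    (q : ℕ) (hq : 0 < q) :
    IsZero ((EtCoh.HF C q).obj ((constantSheaf C.smallEtaleTopology AddCommGrpCat.{u + 1}).obj M)) := by
  classical
  obtain ⟨M', _, _, ⟨e⟩⟩ := exists_small M
  obtain ⟨ι, _, n, hn, ⟨eM⟩⟩ := AddCommGroup.equiv_directSum_zmod_of_finite' M'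
  let Φ := constantSheaf C.smallEtaleTopology AddCommGrpCat.{u + 1} ⋙ EtCoh.HF C q
  haveI := HF_additive C q
  haveI : (constantSheaf C.smallEtaleTopology AddCommGrpCat.{u + 1}).Additive := by
    unfold constantSheaf; infer_instance
  refine IsZero.of_iso ?_ (Φ.mapIso e).symm
  let E : ULift.{u + 1} M' ≃+ DirectSum ι fun i => ZMod (n i) := AddEquiv.ulift.trans eM
  let p : ∀ i : ι, AddCommGrpCat.of (ULift.{u + 1} M') ⟶ AddCommGrpCat.of (ULift.{u + 1} (ZMod (n i))) := fun i =>
    AddCommGrpCat.ofHom (AddEquiv.ulift.symm.toAddMonoidHom.comp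
      ((DFinsupp.evalAddMonoidHom i).comp E.toAddMonoidHom))
  let s : ∀ i : ι, AddCommGrpCat.of (ULift.{u + 1} (ZMod (n i))) ⟶ AddCommGrpCat.of (ULift.{u + 1} M') := fun i =>
    AddCommGrpCat.ofHom (E.symm.toAddMonoidHom.comp
      ((DirectSum.of (fun i => ZMod (n i)) i).comp AddEquiv.ulift.toAddMonoidHom))
  refine isZero_of_decomp Φ p s ?_ fun i => (subsingleton_H_iff _ q).1 (hC (n i) (Nat.zero_lt_of_lt (hn i)) q hq)
  ext x : 2
  rw [show (∑ i, p i ≫ s i).hom = ∑ i, (p i ≫ s i).hom from map_sum AddCommGrpCat.homAddEquiv _ _,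
    AddMonoidHom.finsetSum_apply]
  apply E.injective
  rw [map_sum]
  refine (DirectSum.sum_univ_of (E x)).symm.trans (Finset.sum_congr rfl fun i _ => ?_)
  simp [p, s]
  rfl

section Point

variable {K : Type u} [Field K] [IsAlgClosed K]

/-- A sheaf on the spectrum of an algebraically closed field is constant on its global sections. -/
theorem nonempty_iso_const (G : EtCoh.Ab (Spec (CommRingCat.of K))) :
    Nonempty ((constantSheaf (Spec (CommRingCat.of K)).smallEtaleTopology AddCommGrpCat.{u + 1}).obj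
      (G.obj.obj (op (EtCoh.top (Spec (CommRingCat.of K))))) ≅ G) := by
  let T := EtCoh.top (Spec (CommRingCat.of K))
  let M := G.obj.obj (op T)
  let P : (Spec (CommRingCat.of K)).Etaleᵒᵖ ⥤ AddCommGrpCat.{u + 1} := (Functor.const _).obj M
  let ψ : P ⟶ G.obj :=
    { app := fun V => G.obj.map ((EtCore.topIsTerminal _).from V.unop).op
      naturality := fun V W g => by
        change 𝟙 M ≫ _ = _
        rw [Category.id_comp, ← Functor.map_comp]
        congr 1
        exact Quiver.Hom.unop_inj ((EtCore.topIsTerminal _).hom_ext _ _) }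
  let adj := sheafificationAdjunction (Spec (CommRingCat.of K)).smallEtaleTopology AddCommGrpCat.{u + 1}
  let φ : (presheafToSheaf _ AddCommGrpCat.{u + 1}).obj P ⟶ G := (adj.homEquiv P G).symm ψ
  have fac : CategoryTheory.toSheafify _ P ≫ φ.hom = ψ := by
    have h := (adj.homEquiv P G).apply_symm_apply ψ
    rwa [Adjunction.homEquiv_unit] at h
  haveI : IsIso φ := isIso_of_stalk φ fun Ω _ _ ξ => by
    let l := topPt K ξ
    have hb : Function.Bijective fun c : M => germ ξ G l c :=
      germ_top_bijective ξ l (exists_top_hom_field K ξ) G.obj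
    have hc := germ_cst_bijective ξ M l
    have hcomp : ∀ c : M, (EtCoh.stalk ξ).map φ (germ ξ _ l (cst M T c)) = germ ξ G l c := fun c => by
      rw [germ_app]
      congr 1
      refine (congr($(congrArg (fun t : P ⟶ G.obj => t.app (op T)) fac) c)).trans ?_
      show G.obj.map ((EtCore.topIsTerminal _).from T).op c = c
      rw [(EtCore.topIsTerminal _).hom_ext ((EtCore.topIsTerminal _).from T) (𝟙 T), op_id,
        CategoryTheory.Functor.map_id]
      exact ConcreteCategory.id_apply c
    refine (ConcreteCategory.isIso_iff_bijective _).2 ⟨fun a b hab => ?_, fun b => ?_⟩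
    · obtain ⟨a, rfl⟩ := hc.2 a
      obtain ⟨b, rfl⟩ := hc.2 b
      dsimp only at hab ⊢
      rw [show a = b from hb.1 ((hcomp a).symm.trans (hab.trans (hcomp b)))]
    · obtain ⟨c, hc'⟩ := hb.2 b
      exact ⟨_, (hcomp c).trans hc'⟩
  exact ⟨asIso φ⟩

theorem finite_sections_of_stalk (G : EtCoh.Ab (Spec (CommRingCat.of K)))
    (h : Finite ((EtCoh.stalk (𝟙 (Spec (CommRingCat.of K)))).obj G)) :
    Finite (G.obj.obj (op (EtCoh.top (Spec (CommRingCat.of K))))) := by
  haveI := h
  exact Finite.of_injective (germ (𝟙 (Spec (CommRingCat.of K))) G (topPt K _))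
    (germ_top_bijective _ (topPt K _) (exists_top_hom_field K _) G.obj).1

end Point

/-- On absolutely integrally closed integral schemes, constant sheaves are direct images from any dominant
point. -/
theorem connAlong_of_aic {X' : Scheme.{u}} (hX : IsAICScheme X') {K : Type u} [Field K]
    (η : Spec (CommRingCat.of K) ⟶ X') [IsDominant η] : ConstGenLib.ConnAlong η := fun U u₀ => by
  haveI : Etale U.hom := U.prop
  obtain ⟨V, hx, s, hs, hsu⟩ := ZarEtLib.exists_local_section hX.isStrictlyHenselian_stalk U.hom u₀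
  let V' : X'.Etale := MorphismProperty.Over.mk ⊤ V.ι inferInstance
  refine ⟨V', MorphismProperty.Over.homMk s hs, ⟨U.hom u₀, hx⟩, hsu, ?_, ?_⟩
  · obtain ⟨a, ha⟩ := η.denseRange.exists_mem_open V.2 ⟨U.hom u₀, hx⟩
    obtain ⟨z, -, -⟩ := Scheme.Pullback.exists_preimage_pullback (f := V.ι) (g := η) ⟨η a, ha⟩ a rfl
    exact ⟨z⟩
  · haveI : IsOpenImmersion (pullback.snd V.ι η) := inferInstance
    haveI : Subsingleton ↥(pullback V.ι η) := ⟨fun a b => (pullback.snd V.ι η).isOpenEmbedding.injective
      (Subsingleton.elim (α := PrimeSpectrum K) _ _)⟩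
    exact inferInstanceAs (PreconnectedSpace ↥(pullback V.ι η))

/-- Direct images from geometric points of finite stalks have no cohomology on the geometric fibres. -/
theorem fibreVanish_push_point [IsNoetherian X] {f : X ⟶ S} (h : FibreAcyclic f) {K : Type u} [Field K]
    [IsAlgClosed K] (g : Spec (CommRingCat.of K) ⟶ X) (G : EtCoh.Ab (Spec (CommRingCat.of K)))
    (hG : Finite (G.obj.obj (op (EtCoh.top (Spec (CommRingCat.of K)))))) :
    FibreVanish f ((EtCoh.push g).obj G) := fun Ω _ _ ξ hξ q hq => by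
  obtain ⟨eG⟩ := nonempty_iso_const G
  haveI := hG
  let M := G.obj.obj (op (EtCoh.top (Spec (CommRingCat.of K))))
  let X' := g.normalization
  let η : Spec (CommRingCat.of K) ⟶ X' := g.toNormalization
  let π : X' ⟶ X := g.fromNormalization
  have hX' : IsAICScheme X' := isAICScheme_normalization g (isAICScheme_spec_field K)
  haveI : IsIso ((EtCoh.pullPushAdj η).unit.app (ConstGenLib.C M)) :=
    ConstGenLib.isIso_unit η M (connAlong_of_aic hX' η)
  let eη : ConstGenLib.C (X := X') M ≅ (EtCoh.push η).obj G :=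
    asIso ((EtCoh.pullPushAdj η).unit.app (ConstGenLib.C M)) ≪≫
      (EtCoh.push η).mapIso ((EtCore.pullConstIso η).app M ≪≫ eG)
  let eg : (EtCoh.push g).obj G ≅ (EtCoh.push π).obj (ConstGenLib.C (X := X') M) :=
    (EtCoh.pushCongr (show g = η ≫ π from (Scheme.Hom.toNormalization_fromNormalization g).symm)).app G ≪≫
      ((EtCoh.pushComp π η).app G).symm ≪≫ (EtCoh.push π).mapIso eη.symm
  let π' : pullback (π ≫ f) ξ ⟶ pullback f ξ :=
    pullback.lift (pullback.fst _ _ ≫ π) (pullback.snd _ _) (by rw [Category.assoc, pullback.condition])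
  have hsq : IsPullback (pullback.fst (π ≫ f) ξ) π' π (pullback.fst f ξ) := by
    refine IsPullback.of_bot ?_ (by simp [π']) (IsPullback.of_hasPullback f ξ)
    simpa [π'] using IsPullback.of_hasPullback (π ≫ f) ξ
  haveI : IsIntegralHom π := inferInstanceAs (IsIntegralHom g.fromNormalization)
  haveI : IsIntegralHom π' := MorphismProperty.of_isPullback hsq inferInstance
  haveI := EtPtsLib.isIso_baseChange0 π (pullback.fst f ξ) π' (pullback.fst (π ≫ f) ξ) hsq (ConstGenLib.C (X := X') M)
  let e₁ : (EtCoh.pull (pullback.fst f ξ)).obj ((EtCoh.push g).obj G) ≅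
      (EtCoh.push π').obj (ConstGenLib.C (X := pullback (π ≫ f) ξ) M) :=
    (EtCoh.pull (pullback.fst f ξ)).mapIso eg ≪≫
      asIso (EtCoh.baseChange0 π (pullback.fst f ξ) π' (pullback.fst (π ≫ f) ξ) hsq.w (ConstGenLib.C (X := X') M)) ≪≫
      (EtCoh.push π').mapIso ((EtCore.pullConstIso (pullback.fst (π ≫ f) ξ)).app M)
  obtain ⟨a₁⟩ := H_equiv_of_iso e₁ q
  obtain ⟨a₂⟩ := EtVanish.nonempty_H_push_equiv π' (ConstGenLib.C (X := pullback (π ≫ f) ξ) M) q
  haveI := (subsingleton_H_iff _ q).2 ((h π inferInstance hX' Ω ξ hξ).finite M q hq)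
  exact (a₁.trans a₂).toEquiv.subsingleton

/-- A constructible sheaf on a noetherian scheme has a monomorphism, preserving killedness, into a sheaf
without higher cohomology on the geometric fibres. -/
theorem exists_mono_fibreVanish [IsNoetherian X] {f : X ⟶ S} (h : FibreAcyclic f) {n : ℕ} {E : EtCoh.Ab X}
    (hE : EtPBC.IsConstructible E) (hEn : EtCoh.KilledBy n E) :
    ∃ (M : EtCoh.Ab X) (a : E ⟶ M), Mono a ∧ EtCoh.KilledBy n M ∧ FibreVanish f M := by
  classical
  have hgen : GenConst E := (genCard_of_isConstructible hE).genConst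
  obtain ⟨P, hP⟩ := exists_finite_detect hgen ⊤
  let x : Fin P.card → X := fun i => (P.equivFin.symm i).1
  let G := fun i => (EtCoh.pull (geomPtAlg (x i))).obj E
  let M := fun i => (EtCoh.push (geomPtAlg (x i))).obj (G i)
  let a : E ⟶ ⨁ M := biproduct.lift fun i => (EtCoh.pullPushAdj (geomPtAlg (x i))).unit.app E
  refine ⟨⨁ M, a, ?_, ?_, fibreVanish_biproduct f M fun i => ?_⟩
  · refine (mono_iff_ab a).2 fun Ω _ _ ζ => ?_
    refine (injective_iff_map_eq_zero ((EtCoh.stalk ζ).map a).hom).2 fun e he => hP Ω ζ trivial e fun y hy => ?_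
    obtain ⟨i, rfl⟩ : ∃ i, x i = y := ⟨P.equivFin ⟨y, hy⟩, by simp [x]⟩
    rw [← biproduct.lift_π (fun i => (EtCoh.pullPushAdj (geomPtAlg (x i))).unit.app E) i, stalk_comp]
    exact (congrArg _ he).trans (map_zero _)
  · refine killedBy_biproduct fun i => CompBCLib.killedBy_push _ ?_
    rw [killedBy_iff] at hEn ⊢
    rw [← CategoryTheory.Functor.map_id, ← Functor.map_nsmul, hEn, Functor.map_zero]
  · refine fibreVanish_push_point h (geomPtAlg (x i)) (G i) (finite_sections_of_stalk _ ?_)
    haveI : Finite ↑((Scheme.pointSmallEtale (𝟙 _ ≫ geomPtAlg (x i))).presheafFiber.obj E.obj) :=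
      finite_stalk_of_genConst hgen (𝟙 _ ≫ geomPtAlg (x i))
    exact Finite.of_surjective _ (bijective_unitStalk (geomPtAlg (x i)) (𝟙 _) E).2

/-- If constant sheaves on absolutely integrally closed integral schemes over `X` are acyclic on the geometric
fibres, then the cohomology of the fibres is effaceable. -/
theorem effaceable_of_fibreAcyclic [IsNoetherian X] (f : X ⟶ S) [IsProper f] (h : FibreAcyclic f) :
    Effaceable f := fun n hn Ω _ _ ξ hξ F hF q hq c => by
  let P : ObjectProperty (EtCoh.Ab X) := fun E => EtPBC.IsConstructible E ∧ EtCoh.KilledBy n E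
  have hsys : SysHyp P F := by
    refine ⟨fun E hE => hE.1, fun {E E'} e hE => ⟨isConstructible_of_iso e hE.1, ?_⟩, fun E hE g => ?_⟩
    · exact killedBy_of_epi e.hom hE.2
    · have hz : (n • 𝟙 E) ≫ g = 0 := by
        rw [Preadditive.nsmul_comp, Category.id_comp, ← Category.comp_id g, ← Preadditive.comp_nsmul,
          (killedBy_iff n F).1 hF, comp_zero]
      refine ⟨cokernel (n • 𝟙 E), ⟨(isConstructible_kernel_cokernel _ hE hE).2, ?_⟩, cokernel.π _,
        cokernel.desc _ g hz, cokernel.π_desc _ _ _⟩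
      rw [killedBy_iff, ← cancel_epi (cokernel.π (n • 𝟙 E)), comp_zero, Preadditive.comp_nsmul, Category.comp_id,
        ← Category.id_comp (cokernel.π (n • 𝟙 E)), ← Preadditive.nsmul_comp]
      exact cokernel.condition _
  have hFt : EtCoh.IsTorsion F := fun U s x =>
    ⟨U, 𝟙 U, ⟨x, rfl⟩, isOfFinAddOrder_iff_nsmul_eq_zero.2 ⟨n, hn, hF U _⟩⟩
  haveI := hsys.isFiltered
  obtain ⟨hc⟩ := hsys.nonempty_isColimit hFt
  haveI : CompactSpace ↥(pullback f ξ) := QuasiCompact.compactSpace_of_compactSpace (pullback.snd f ξ)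
  haveI : QuasiSeparatedSpace ↥(pullback f ξ) := quasiSeparatedSpace_of_quasiSeparated (pullback.snd f ξ)
  haveI := CohColim.preserves_HF (pullback f ξ) q (SysObj P F)
  haveI : PreservesColimitsOfSize.{u + 1, u + 1} (EtCoh.pull (pullback.fst f ξ)) :=
    (EtCoh.pullPushAdj (pullback.fst f ξ)).leftAdjoint_preservesColimits
  let Φ := EtCoh.pull (pullback.fst f ξ) ⋙ EtCoh.HF (pullback f ξ) q
  obtain ⟨j, y, hy⟩ := Concrete.isColimit_exists_rep (sysDiag P F ⋙ Φ) (isColimitOfPreserves Φ hc) c
  obtain ⟨M, a, ha, hMn, hMv⟩ := exists_mono_fibreVanish h j.hP.1 j.hP.2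
  haveI := ha
  refine ⟨pushout a j.g, pushout.inr a j.g, inferInstance, ?_, ?_⟩
  · rw [killedBy_iff] at hMn hF ⊢
    refine pushout.hom_ext ?_ ?_
    · rw [comp_zero, Preadditive.comp_nsmul, Category.comp_id, ← Category.id_comp (pushout.inl a j.g),
        ← Preadditive.nsmul_comp, hMn, zero_comp]
    · rw [comp_zero, Preadditive.comp_nsmul, Category.comp_id, ← Category.id_comp (pushout.inr a j.g),
        ← Preadditive.nsmul_comp, hF, zero_comp]
  · show Φ.map (pushout.inr a j.g) c = 0
    rw [← hy]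
    change Φ.map (pushout.inr a j.g) (Φ.map j.g y) = 0
    rw [← ConcreteCategory.comp_apply, ← Functor.map_comp, ← pushout.condition, Functor.map_comp,
      ConcreteCategory.comp_apply]
    haveI := hMv Ω ξ hξ q hq
    refine (congrArg (Φ.map (pushout.inl a j.g)) (Subsingleton.elim
      (α := EtCoh.H (pullback f ξ) ((EtCoh.pull (pullback.fst f ξ)).obj M) q) (Φ.map a y) 0)).trans ?_
    exact map_zero (Φ.map (pushout.inl a j.g)).hom

end Groth.Agent.PBCLib
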