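import Groth.Agent.PBCLib.Nbhd
import Groth.Agent.PropPi1.LimBC
import Groth.Agent.CompBCLib.Via
import Groth.Agent.S0642
import Groth.Agent.S0646
import Mathlib.RingTheory.Jacobson.Ring
import Mathlib.FieldTheory.IsAlgClosed.Basic

/-!
# Extension of an algebraically closed ground field

Classes on a proper scheme over a larger algebraically closed field are defined over a finitely generated
subalgebra; specialising at a closed point, proper base change shows that they come from the ground field.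
-/

set_option autoImplicit false
set_option linter.style.haveILetI false
set_option backward.isDefEq.respectTransparency false
set_option backward.isDefEq.respectTransparency.types false
set_option maxHeartbeats 1000000

universe u

open CategoryTheory CategoryTheory.Limits AlgebraicGeometry Opposite CategoryTheory.Abelian
open Groth.Agent.EtPtsLib

noncomputable section

namespace Groth.Agent.PBCLib

attribute [local instance] Groth.Agent.S0101.result

theorem surjective_residueFieldMap_of_comp_eq_id {P W : Scheme.{u}} (v : P ⟶ W) (b : W ⟶ P) (h : v ≫ b = 𝟙 P)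
    (x : P) : Function.Surjective (v.residueFieldMap x) := by
  have key : ∀ m : P ⟶ P, m = 𝟙 P → Function.Surjective (m.residueFieldMap x) := by
    rintro m rfl
    exact (ConcreteCategory.bijective_of_isIso _).2
  intro y
  obtain ⟨z, hz⟩ := key _ h y
  rw [Scheme.residueFieldMap_comp] at hz
  exact ⟨_, hz⟩

theorem bijective_Hpull_of_isIso {A B : Scheme.{u}} (g : B ⟶ A) [IsIso g] (F : EtCoh.Ab A) (q : ℕ) :
    Function.Bijective (EtCore.Hpull g F q) :=
  Groth.Agent.S0642.result g F q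

theorem Hpull_Hpull_eq {A B C : Scheme.{u}} (g : B ⟶ A) (f : C ⟶ B) (m : C ⟶ A) (w : f ≫ g = m) (F : EtCoh.Ab A)
    (q : ℕ) (x : EtCoh.H A F q) :
    EtCore.Hpull f _ q (EtCore.Hpull g F q x) =
      Sheaf.H.map ((EtLimLib.comparePull g f m w).app F) q (EtCore.Hpull m F q x) :=
  (congrFun (AcycCompLib.Hpull_comp g f m w F q) x).symm

theorem bijective_map_comparePull {A B C : Scheme.{u}} (g : B ⟶ A) (f : C ⟶ B) (m : C ⟶ A) (w : f ≫ g = m)
    (F : EtCoh.Ab A) (q : ℕ) : Function.Bijective (Sheaf.H.map ((EtLimLib.comparePull g f m w).app F) q) := by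
  haveI := EtLimLib.isIso_comparePull g f m w F
  exact ConcreteCategory.bijective_of_isIso ((EtCoh.HF C q).map ((EtLimLib.comparePull g f m w).app F))

theorem surjective_Hpull_comp {A B C : Scheme.{u}} (g : B ⟶ A) (f : C ⟶ B) (m : C ⟶ A) (w : f ≫ g = m)
    (F : EtCoh.Ab A) (q : ℕ) (hm : Function.Surjective (EtCore.Hpull m F q))
    (y : EtCoh.H C ((EtCoh.pull f).obj ((EtCoh.pull g).obj F)) q) :
    ∃ x : EtCoh.H A F q, EtCore.Hpull f _ q (EtCore.Hpull g F q x) = y := by
  obtain ⟨y₁, rfl⟩ := (bijective_map_comparePull g f m w F q).2 y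
  obtain ⟨x, rfl⟩ := hm y₁
  exact ⟨x, Hpull_Hpull_eq g f m w F q x⟩

/-- Pullback along a composite of two morphisms followed by an isomorphism is surjective. -/
theorem surjective_Hpull_Hpull {A B C D : Scheme.{u}} (p : B ⟶ A) (t : C ⟶ B) (s : D ⟶ C)
    [IsIso ((s ≫ t) ≫ p)] (F : EtCoh.Ab A) (q : ℕ)
    (y : EtCoh.H D ((EtCoh.pull s).obj ((EtCoh.pull t).obj ((EtCoh.pull p).obj F))) q) :
    ∃ x : EtCoh.H A F q, EtCore.Hpull s _ q (EtCore.Hpull t _ q (EtCore.Hpull p F q x)) = y := by
  obtain ⟨y₁, rfl⟩ := (bijective_map_comparePull t s (s ≫ t) rfl ((EtCoh.pull p).obj F) q).2 y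
  obtain ⟨x, rfl⟩ := surjective_Hpull_comp p (s ≫ t) ((s ≫ t) ≫ p) rfl F q
    (bijective_Hpull_of_isIso ((s ≫ t) ≫ p) F q).2 y₁
  exact ⟨x, Hpull_Hpull_eq t s (s ≫ t) rfl _ q _⟩

/-- An étale morphism to an integral scheme with a point gives points over any dominant field valued point. -/
theorem exists_lift_of_dominant {A : CommRingCat.{u}} {Ω : Type u} [Field Ω] [IsSepClosed Ω]
    (φ : A ⟶ CommRingCat.of Ω) (hφ : Function.Injective φ.hom) {W : Scheme.{u}} (t : W ⟶ Spec A) [Etale t]
    [Nonempty ↥W] : ∃ w : Spec (CommRingCat.of Ω) ⟶ W, w ≫ t = Spec.map φ := by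
  let η := Spec.map φ
  obtain ⟨w₀⟩ := ‹Nonempty ↥W›
  have hgen : η default ∈ Set.range t := by
    refine Specializes.mem_open ?_ t.isOpenMap.isOpen_range ⟨w₀, rfl⟩
    refine (PrimeSpectrum.le_iff_specializes (η default) (t w₀)).1 ?_
    intro a (ha : φ.hom a ∈ (default : Spec (CommRingCat.of Ω)).asIdeal)
    have hmem : φ.hom a ∈ (default : Spec (CommRingCat.of Ω)).asIdeal := ha
    have h0 : (default : Spec (CommRingCat.of Ω)).asIdeal = ⊥ := (Ideal.eq_bot_or_top _).resolve_right Ideal.IsPrime.ne_top'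
    rw [h0, Ideal.mem_bot] at hmem
    rw [hφ (hmem.trans (map_zero φ.hom).symm)]
    exact zero_mem _
  obtain ⟨w₁, hw₁⟩ := hgen
  let W' : (Spec A).Etale := MorphismProperty.Over.mk ⊤ t (‹Etale t› : Etale t)
  let l : (Scheme.pointSmallEtale η).fiber.obj (EtCoh.top (Spec A)) := Over.homMk η (Category.comp_id _)
  obtain ⟨y, -⟩ := exists_fiber_map_eq η ((EtCore.topIsTerminal (Spec A)).from W') l w₁ (by
    have e : ((EtCore.topIsTerminal (Spec A)).from W').left = t :=
      (Category.comp_id _).symm.trans (MorphismProperty.Over.w ((EtCore.topIsTerminal (Spec A)).from W'))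
    rw [e]
    exact hw₁)
  exact ⟨liftHom η y, liftHom_comp η y⟩

/-- Vanishing on a fibre does not depend on the choice of the base change. -/
theorem subsingleton_H_fibre_of_iso {XW P W : Scheme.{u}} {Ω : Type u} [Field Ω] [IsSepClosed Ω] (fW : XW ⟶ W)
    (f : P ⟶ W) (e : P ≅ XW) (he : e.hom ≫ fW = f) (v : Spec (CommRingCat.of Ω) ⟶ W) (T : EtCoh.Ab XW) (j : ℕ)
    (hbc : IsIso (EtBC.bcQ f v (pullback.snd f v) (pullback.fst f v) pullback.condition j ((EtCoh.pull e.hom).obj T)))
    (hR : IsZero ((EtCoh.Rpush fW j).obj T)) :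
    Subsingleton (EtCoh.H (pullback fW v) ((EtCoh.pull (pullback.fst fW v)).obj T) j) := by
  have hR' : IsZero ((EtCoh.Rpush f j).obj ((EtCoh.pull e.hom).obj T)) := by
    have hsq : IsPullback e.hom f fW (𝟙 W) := IsPullback.of_horiz_isIso ⟨he.trans (Category.comp_id f).symm⟩
    haveI := BCVertLib.isIso_bcQ_etale fW (𝟙 W) f e.hom hsq j T
    haveI : (EtCoh.pull (𝟙 W)).Additive := (EtCoh.pullPushAdj (𝟙 W)).left_adjoint_additive
    exact ((EtCoh.pull (𝟙 W)).map_isZero hR).of_iso (asIso (EtBC.bcQ fW (𝟙 W) f e.hom hsq.w j T)).symm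
  haveI := subsingleton_H_fibre f v _ _ pullback.condition ((EtCoh.pull e.hom).obj T) j hbc hR'
  let k : pullback fW v ⟶ pullback f v :=
    pullback.map fW v f v e.inv (𝟙 _) (𝟙 _) (by simp [← he]) (by simp)
  haveI : IsIso k := inferInstance
  have hk : k ≫ pullback.fst f v ≫ e.hom = pullback.fst fW v := by simp [k]
  have h1 : Subsingleton (EtCoh.H (pullback fW v)
      ((EtCoh.pull k).obj ((EtCoh.pull (pullback.fst f v)).obj ((EtCoh.pull e.hom).obj T))) j) :=
    (bijective_Hpull_of_isIso k _ j).2.subsingleton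
  have h2 : Subsingleton (EtCoh.H (pullback fW v) ((EtCoh.pull k).obj ((EtCoh.pull (pullback.fst f v ≫ e.hom)).obj T)) j) := by
    haveI := EtLimLib.isIso_comparePull e.hom (pullback.fst f v) (pullback.fst f v ≫ e.hom) rfl T
    refine @Function.Injective.subsingleton _ _ _ (ConcreteCategory.bijective_of_isIso ((EtCoh.HF (pullback fW v) j).map ((EtCoh.pull k).map
      ((EtLimLib.comparePull e.hom (pullback.fst f v) (pullback.fst f v ≫ e.hom) rfl).app T)))).1 h1
  exact @Function.Injective.subsingleton _ _ _ (bijective_map_comparePull (pullback.fst f v ≫ e.hom) k (pullback.fst fW v) hk T j).1 h2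

/-- **Proper base change at points gives invariance under extensions of algebraically closed fields.** -/
theorem fieldExtSurj_of_bcAtPts {k : Type u} [Field k] [IsAlgClosed k] {X : Scheme.{u}}
    (a : X ⟶ Spec (CommRingCat.of k)) [IsProper a]
    (h : ∀ (U : Scheme.{u}) (u₀ : U ⟶ Spec (CommRingCat.of k)) [IsAffine U] [LocallyOfFiniteType u₀],
      BCAtPts (pullback.snd a u₀)) :
    FieldExtSurj a := by
  intro n hn Ω _ _ i _ F hF q c
  letI := i.toAlgebra
  let D := PropPi1.fgSys k Ω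
  let t := PropPi1.fgToBase k Ω
  let g := Spec.map (CommRingCat.ofHom i)
  let Xs := PropPi1.bcDiag t a
  let cn := PropPi1.bcCone t a (PropPi1.fgCone k Ω) g (PropPi1.fgCone_toBase k Ω)
  have hlim : IsLimit cn :=
    (PropPi1.nonempty_isLimit_bcCone t a (PropPi1.fgCone k Ω) g (PropPi1.fgCone_toBase k Ω)
      (PropPi1.isLimitFgCone k Ω)).some
  have hqc : ∀ j, CompactSpace ↥(Xs.obj j) := fun j => by
    show CompactSpace ↥(pullback a (t.app j))
    haveI : IsAffine ((PropPi1.fgSys k Ω).obj j) := inferInstance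
    exact QuasiCompact.compactSpace_of_compactSpace (pullback.snd a (t.app j))
  have hqs : ∀ j, QuasiSeparatedSpace ↥(Xs.obj j) := fun j => by
    show QuasiSeparatedSpace ↥(pullback a (t.app j))
    haveI : IsAffine ((PropPi1.fgSys k Ω).obj j) := inferInstance
    exact quasiSeparatedSpace_of_quasiSeparated (pullback.snd a (t.app j))
  let i₀ : PropPi1.FgIdx k Ω := ⟨⊥, Subalgebra.fg_bot⟩
  let p₀ : Xs.obj (op i₀) ⟶ X := pullback.fst a (t.app (op i₀))
  let F₀ := (EtCoh.pull p₀).obj F
  have hπ₀ : cn.π.app (op i₀) ≫ p₀ = pullback.fst a g := by simp [cn, p₀]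
  haveI := EtLimLib.isIso_comparePull p₀ (cn.π.app (op i₀)) (pullback.fst a g) hπ₀ F
  let c' : EtCoh.H cn.pt ((EtCoh.pull (cn.π.app (op i₀))).obj F₀) q :=
    Sheaf.H.map ((EtLimLib.comparePull p₀ (cn.π.app (op i₀)) (pullback.fst a g) hπ₀).app F) q c
  obtain ⟨j, hj, ξ, hξ⟩ := (Groth.Agent.S0646.result Xs
    (fun _ _ φ => PropPi1.isAffineHom_bcDiag t a φ) hqc hqs cn hlim i₀ F₀ q).1 c'
  let tj := Xs.map (homOfLE hj).op
  let A := CommRingCat.of j.1
  let b : Spec A ⟶ Spec (CommRingCat.of k) := Spec.map (CommRingCat.ofHom (algebraMap k j.1))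
  haveI : Algebra.FiniteType k j.1 := (Subalgebra.fg_iff_finiteType j.1).1 j.2
  haveI : LocallyOfFiniteType b := by
    refine (HasRingHomProperty.Spec_iff (P := @LocallyOfFiniteType)).2 ?_
    exact RingHom.finiteType_algebraMap.2 inferInstance
  haveI : IsDomain j.1 := inferInstance
  obtain ⟨m, hm⟩ := Ideal.exists_maximal j.1
  letI : Field (j.1 ⧸ m) := Ideal.Quotient.field m
  haveI : Module.Finite k (j.1 ⧸ m) := finite_of_finite_type_of_isJacobsonRing k (j.1 ⧸ m)
  let e : k ≃ₐ[k] j.1 ⧸ m :=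
    AlgEquiv.ofBijective (Algebra.ofId k (j.1 ⧸ m)) IsAlgClosed.algebraMap_bijective_of_isIntegral
  let ev : j.1 →ₐ[k] k := e.symm.toAlgHom.comp (Ideal.Quotient.mkₐ k m)
  let u : Spec (CommRingCat.of k) ⟶ Spec A := Spec.map (CommRingCat.ofHom ev.toRingHom)
  have hu : u ≫ b = 𝟙 _ := by
    rw [← Spec.map_comp, ← Spec.map_id]
    congr 1
    ext r
    exact ev.commutes r
  let fU : Xs.obj (op j) ⟶ Spec A := pullback.snd a (t.app (op j))
  let pj : Xs.obj (op j) ⟶ X := pullback.fst a (t.app (op j))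
  have hsq : IsPullback pj fU a b := IsPullback.of_hasPullback a (t.app (op j))
  haveI : IsProper fU := MorphismProperty.of_isPullback (P := @IsProper) hsq ‹_›
  have htj : tj ≫ p₀ = pj := by simp [tj, p₀, pj, Xs]
  let s := pullback.fst fU u
  haveI : IsIso ((s ≫ tj) ≫ p₀) := by
    have hP : IsPullback (s ≫ pj) (pullback.snd fU u) a (u ≫ b) :=
      (IsPullback.of_hasPullback fU u).paste_horiz hsq
    rw [hu] at hP
    rw [Category.assoc, htj]
    exact hP.isIso_fst_of_isIso
  obtain ⟨x, hx⟩ := surjective_Hpull_Hpull p₀ tj s F q (EtCore.Hpull s _ q ξ)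
  let G := (EtCoh.pull tj).obj F₀
  have hG : EtCoh.KilledBy n G := killedBy_pullback_nhd tj (killedBy_pullback_nhd p₀ hF)
  let d : EtCoh.H (Xs.obj (op j)) G q := ξ - EtCore.Hpull tj F₀ q (EtCore.Hpull p₀ F q x)
  have hd : EtCore.Hpull s G q d = 0 := by
    rw [map_sub, sub_eq_zero]
    exact hx.symm
  have hP : PtVanish k n fU u := by
    intro XW W tW fW tW' het haff hsqW v hv T hT r hR
    haveI : IsAffine W := haff
    haveI : Etale tW := het
    let e₀ := (hsqW.paste_horiz hsq).isoPullback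
    have hbc := h W (tW ≫ b) n hn k v ?_ ((EtCoh.pull e₀.inv).obj T) (killedBy_pullback_nhd _ hT) (r + 1)
    · exact subsingleton_H_fibre_of_iso fW (pullback.snd a (tW ≫ b)) e₀.symm
        ((hsqW.paste_horiz hsq).isoPullback_inv_snd) v T (r + 1) hbc hR
    · exact RingHom.IsIntegral.of_finite (RingHom.Finite.of_surjective _
        (surjective_residueFieldMap_of_comp_eq_id v (tW ≫ b) (by rw [← Category.assoc, hv, hu]) default))
  obtain ⟨XW, W, tW, fW, tW', het, haff, hsqW, v, hv, h0⟩ := exists_nbhd_Hpull_eq_zero q fU u hP G hG d hd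
  haveI : Etale tW := het
  haveI : Nonempty ↥W := ⟨v default⟩
  obtain ⟨w, hw⟩ := exists_lift_of_dominant (CommRingCat.ofHom j.1.val.toRingHom) Subtype.val_injective tW
  let π := cn.π.app (op j)
  have hπ : π ≫ fU = pullback.snd a g ≫ w ≫ tW := by
    rw [hw]
    exact pullback.lift_snd _ _ _
  let l := hsqW.lift π (pullback.snd a g ≫ w) (by rw [hπ, Category.assoc])
  have h1 : EtCore.Hpull π G q d = 0 := by
    refine (KPi1Lib.Hpull_comp_eq_zero tW' l π (hsqW.lift_fst _ _ _) G q d).2 ?_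
    rw [h0, map_zero]
  have h2 : EtCore.HpullVia π tj (cn.π.app (op i₀)) (cn.w (homOfLE hj).op) F₀ q d = 0 := by
    rw [CompBCLib.HpullVia_eq, h1, map_zero]
  rw [map_sub, hξ, sub_eq_zero, CompBCLib.HpullVia_Hpull] at h2
  refine ⟨x, ?_⟩
  apply (ConcreteCategory.bijective_of_isIso ((EtCoh.HF cn.pt q).map
    ((EtLimLib.comparePull p₀ (cn.π.app (op i₀)) (pullback.fst a g) hπ₀).app F))).1
  exact ((congrFun (AcycCompLib.Hpull_comp p₀ (cn.π.app (op i₀)) (pullback.fst a g) hπ₀ F q) x).trans h2.symm)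

end Groth.Agent.PBCLib
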