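import Groth.Agent.PBCLib.PointH
import Groth.Agent.CompBCLib.Killed
import Groth.Agent.StrictLocLib.Sections
import Groth.Agent.EtPtsLib.Agree

/-!
# Classes near a geometric point
-/

set_option autoImplicit false
set_option linter.style.haveILetI false
set_option backward.isDefEq.respectTransparency false
set_option backward.isDefEq.respectTransparency.types false
set_option maxHeartbeats 1000000

universe u

open CategoryTheory CategoryTheory.Limits AlgebraicGeometry Opposite CategoryTheory.Abelian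
open Groth.Agent.EtPtsLib Groth.Agent.StrictLocLib

noncomputable section

namespace Groth.Agent.PBCLib

/-- Degree zero of pullback, on sections. -/
theorem equiv₀_Hpull {U V : Scheme.{u}} (t : V ⟶ U) [PreservesFiniteLimits (EtCoh.pull t)] (H : EtCoh.Ab U)
    (x : EtCoh.H U H 0) :
    Sheaf.H.equiv₀ ((EtCoh.pull t).obj H) (EtCore.topIsTerminal V) (EtCore.Hpull t H 0 x) =
      restrSec (W := EtCoh.top U) t (Category.comp_id t) H (Sheaf.H.equiv₀ H (EtCore.topIsTerminal U) x) := by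
  rw [← KPi1Lib.HpullThen_id']
  refine (EtLimLib.equiv₀_HpullThen t (𝟙 _) x).trans ?_
  rw [Adjunction.homEquiv_id, show (EtCore.bcTopIso t).inv = secMor (W := EtCoh.top U) t (Category.comp_id t) from
    (EtCore.bcTopIsTerminal t).hom_ext _ _]
  rfl

theorem restrSec_congr {X Y : Scheme.{u}} {g : Y ⟶ X} {W : X.Etale} {m m' : Y ⟶ W.left} (w : m ≫ W.hom = g)
    (w' : m' ≫ W.hom = g) (e : m = m') (F : EtCoh.Ab X) : restrSec m w F = restrSec m' w' F := by
  subst e
  rfl

variable {U : Scheme.{u}} {Ω : Type u} [Field Ω] [IsSepClosed Ω] (u : Spec (CommRingCat.of Ω) ⟶ U)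

theorem liftHom_id_comp {W : U.Etale} (l : (Scheme.pointSmallEtale (𝟙 _ ≫ u)).fiber.obj W) :
    liftHom (𝟙 _ ≫ u) l ≫ W.hom = u :=
  (liftHom_comp _ l).trans (Category.id_comp u)

/-- The stalk of an inverse image at a point, on germs. -/
theorem unitStalk_germ_top (H : EtCoh.Ab U) (W : U.Etale)
    (l : (Scheme.pointSmallEtale (𝟙 _ ≫ u)).fiber.obj W) (x : EtCoh.sect H W) :
    unitStalk u (𝟙 (Spec (CommRingCat.of Ω))) H
        ((Scheme.pointSmallEtale (𝟙 _ ≫ u)).toPresheafFiber W l H.obj x) =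
      (Scheme.pointSmallEtale (𝟙 (Spec (CommRingCat.of Ω)))).toPresheafFiber (EtCoh.top _) (topPt Ω (𝟙 _))
        ((EtCoh.pull u).obj H).obj (restrSec (liftHom (𝟙 _ ≫ u) l) (liftHom_id_comp u l) H x) := by
  refine (ConcreteCategory.comp_apply _ _ _).symm.trans
    ((congrArg (fun m => (ConcreteCategory.hom (C := AddCommGrpCat.{u + 1}) m) x)
      (toPresheafFiber_unitStalk u (𝟙 _) H W l)).trans ?_)
  refine (ConcreteCategory.comp_apply _ _ _).trans ?_
  refine Eq.trans ?_ ((Scheme.pointSmallEtale (𝟙 (Spec (CommRingCat.of Ω)))).toPresheafFiber_w_apply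
    (secMor (liftHom (𝟙 _ ≫ u) l) (liftHom_id_comp u l)) (topPt Ω (𝟙 _)) _ _).symm
  have e : (Scheme.pointSmallEtale (𝟙 (Spec (CommRingCat.of Ω)))).fiber.map
      (secMor (liftHom (𝟙 _ ≫ u) l) (liftHom_id_comp u l)) (topPt Ω (𝟙 _)) = liftBc u (𝟙 _) W l := by
    refine fiber_bc_ext u (𝟙 _) ?_
    rw [liftHom_map, Category.assoc, liftHom_liftBc_fst]
    refine Eq.trans ?_ (Category.id_comp (liftHom (𝟙 _ ≫ u) l))
    exact congrArg (_ ≫ ·) (secMor_fst _ _)
  exact congrArg (fun k => (Scheme.pointSmallEtale (𝟙 (Spec (CommRingCat.of Ω)))).toPresheafFiber _ k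
    ((EtCoh.pull u).obj H).obj (((EtCoh.pullPushAdj u).unit.app H).hom.app (op W) x)) e.symm

/-- A section which at a point comes from another sheaf does so on an affine étale neighbourhood. -/
theorem exists_local_lift [PreservesFiniteLimits (EtCoh.pull u)] {H H' : EtCoh.Ab U} (a : H ⟶ H')
    (e : EtCoh.H U H' 0) (z : EtCoh.H (Spec (CommRingCat.of Ω)) ((EtCoh.pull u).obj H) 0)
    (hz : Sheaf.H.map ((EtCoh.pull u).map a) 0 z = EtCore.Hpull u H' 0 e) :
    ∃ (W : U.Etale) (_ : IsAffine W.left) (v : Spec (CommRingCat.of Ω) ⟶ W.left) (_ : v ≫ W.hom = u),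
      ∀ [PreservesFiniteLimits (EtCoh.pull W.hom)],
        ∃ w : EtCoh.H W.left ((EtCoh.pull W.hom).obj H) 0,
          Sheaf.H.map ((EtCoh.pull W.hom).map a) 0 w = EtCore.Hpull W.hom H' 0 e := by
  let P := Spec (CommRingCat.of Ω)
  let ξ := 𝟙 P ≫ u
  let Φ := Scheme.pointSmallEtale (𝟙 P)
  let s := Sheaf.H.equiv₀ ((EtCoh.pull u).obj H) (EtCore.topIsTerminal P) z
  let r := Sheaf.H.equiv₀ H' (EtCore.topIsTerminal U) e
  obtain ⟨c, hc⟩ := (bijective_unitStalk u (𝟙 P) H).2 (Φ.toPresheafFiber (EtCoh.top _) (topPt Ω (𝟙 _)) ((EtCoh.pull u).obj H).obj s)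
  obtain ⟨W₀, l₀, x, rfl⟩ := (Scheme.pointSmallEtale ξ).toPresheafFiber_jointly_surjective (P := H.obj) c
  rw [unitStalk_germ_top] at hc
  have hs : restrSec (liftHom ξ l₀) (liftHom_id_comp u l₀) H x = s :=
    (germ_top_bijective (𝟙 P) (topPt Ω (𝟙 _)) (exists_top_hom_field Ω (𝟙 _)) _).1 hc
  let t₀ : (Scheme.pointSmallEtale ξ).fiber.obj (EtCoh.top U) := Over.homMk ξ (Category.comp_id _)
  have hr : restrSec (liftHom ξ l₀) (liftHom_id_comp u l₀) H' (a.hom.app (op W₀) x) =
      restrSec (liftHom ξ t₀) (liftHom_id_comp u t₀) H' r := by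
    refine (congr($(restrSec_natural (liftHom ξ l₀) (liftHom_id_comp u l₀) a) x)).trans ?_
    refine (congrArg (((EtCoh.pull u).map a).hom.app (op (EtCoh.top P))) hs).trans ?_
    refine (Sheaf.H.equiv₀_naturality (EtCore.topIsTerminal P) ((EtCoh.pull u).map a) z).trans ?_
    rw [hz, equiv₀_Hpull]
    exact congr($(restrSec_congr (W := EtCoh.top U) (Category.comp_id u) (liftHom_id_comp u t₀)
      (Category.id_comp u).symm H') r)
  have hgerm : (Scheme.pointSmallEtale ξ).toPresheafFiber W₀ l₀ H'.obj (a.hom.app (op W₀) x) =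
      (Scheme.pointSmallEtale ξ).toPresheafFiber (EtCoh.top U) t₀ H'.obj r :=
    (bijective_unitStalk u (𝟙 P) H').1 ((unitStalk_germ_top u H' W₀ l₀ _).trans
      ((congrArg _ hr).trans (unitStalk_germ_top u H' (EtCoh.top U) t₀ r).symm))
  let k₀ : W₀ ⟶ EtCoh.top U := (EtCore.topIsTerminal U).from W₀
  have ht : (Scheme.pointSmallEtale ξ).fiber.map k₀ l₀ = t₀ :=
    haveI := subsingleton_fiber_top ξ
    Subsingleton.elim _ _
  rw [← ht, ← (Scheme.pointSmallEtale ξ).toPresheafFiber_w_apply] at hgerm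
  obtain ⟨W₁, g, l₁, hl₁, hg⟩ := ((Scheme.pointSmallEtale ξ).toPresheafFiber_eq_iff' _ _ _ _).1 hgerm
  obtain ⟨O, hO, hmem, -⟩ := exists_isAffineOpen_mem_and_subset
    (show liftHom ξ l₁ default ∈ (⊤ : W₁.left.Opens) from trivial)
  obtain ⟨l₂, -⟩ := exists_fiber_map_eq ξ (EtPointClass.incl W₁ O) l₁ ⟨_, hmem⟩ rfl
  let W := EtPointClass.sub W₁ O
  haveI : IsAffine W.left := hO
  refine ⟨W, inferInstance, liftHom ξ l₂, liftHom_id_comp u l₂, ?_⟩
  intro _
  let r' : W ⟶ W₀ := EtPointClass.incl W₁ O ≫ g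
  refine ⟨(Sheaf.H.equiv₀ _ (EtCore.topIsTerminal W.left)).symm
    (restrSec (g := W.hom) (𝟙 W.left) (Category.id_comp _) H (H.obj.map r'.op x)), ?_⟩
  apply (Sheaf.H.equiv₀ _ (EtCore.topIsTerminal W.left)).injective
  rw [← Sheaf.H.equiv₀_naturality]
  refine (congrArg _ (AddEquiv.apply_symm_apply _ _)).trans ?_
  refine Eq.trans ?_ (equiv₀_Hpull W.hom H' e).symm
  refine (congr($(restrSec_natural (g := W.hom) (𝟙 W.left) (Category.id_comp _) a) (H.obj.map r'.op x))).symm.trans ?_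
  have h1 : a.hom.app (op W) (H.obj.map r'.op x) = H'.obj.map (r' ≫ k₀).op r := by
    refine (NatTrans.naturality_apply a.hom r'.op x).trans ?_
    simp only [r', op_comp, Functor.map_comp_apply]
    exact congrArg _ hg
  refine (congrArg (restrSec (g := W.hom) (𝟙 W.left) (Category.id_comp _) H') h1).trans ?_
  refine congr($(restrSec_map (r' ≫ k₀) (𝟙 W.left) (Category.id_comp _) W.hom (Category.comp_id W.hom) ?_ H') r)
  exact (Category.id_comp _).trans ((Category.comp_id _).symm.trans (MorphismProperty.Over.w (r' ≫ k₀)))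

/-- A section vanishing at a point vanishes on an affine étale neighbourhood. -/
theorem exists_local_zero₀ [PreservesFiniteLimits (EtCoh.pull u)] {H : EtCoh.Ab U} (e : EtCoh.H U H 0)
    (he : EtCore.Hpull u H 0 e = 0) :
    ∃ (W : U.Etale) (_ : IsAffine W.left) (v : Spec (CommRingCat.of Ω) ⟶ W.left) (_ : v ≫ W.hom = u),
      ∀ [PreservesFiniteLimits (EtCoh.pull W.hom)], EtCore.Hpull W.hom H 0 e = 0 := by
  obtain ⟨W, hW, v, hv, hw⟩ := exists_local_lift u (0 : H ⟶ H) e 0 ((map_zero _).trans he.symm)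
  refine ⟨W, hW, v, hv, ?_⟩
  intro _
  obtain ⟨w, hw⟩ := hw
  rw [← hw]
  show Ext.comp w (Ext.mk₀ ((EtCoh.pull W.hom).map (0 : H ⟶ H))) (add_zero 0) = 0
  rw [Functor.map_zero, Ext.mk₀_zero, Ext.comp_zero]

/-- Sections of an epimorphism on a separably closed point lift. -/
theorem surjective_H0_of_epi {A B : EtCoh.Ab (Spec (CommRingCat.of Ω))} (b : A ⟶ B) [Epi b] :
    Function.Surjective (Sheaf.H.map b 0) := by
  intro y
  let T := EtCore.topIsTerminal (Spec (CommRingCat.of Ω))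
  haveI : Epi ((StrictLocLib.gsecF (Spec (CommRingCat.of Ω))).map b) := by
    have e := (gsecStalkIso Ω (𝟙 _)).hom.naturality b
    haveI : Epi ((EtCoh.stalk (𝟙 (Spec (CommRingCat.of Ω)))).map b) :=
      (AddCommGrpCat.epi_iff_surjective _).2 ((EtPtsLib.epi_iff_ab b).1 inferInstance Ω (𝟙 _))
    haveI : Epi ((StrictLocLib.gsecF (Spec (CommRingCat.of Ω))).map b ≫ (gsecStalkIso Ω (𝟙 _)).hom.app B) := by
      rw [e]; exact epi_comp _ _
    refine ⟨fun {Z} p q hpq => ?_⟩
    rw [← cancel_epi ((gsecStalkIso Ω (𝟙 _)).inv.app B)]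
    refine (cancel_epi ((StrictLocLib.gsecF _).map b ≫ (gsecStalkIso Ω (𝟙 _)).hom.app B)).1 ?_
    simp only [Category.assoc, Iso.hom_inv_id_app_assoc]
    exact hpq
  obtain ⟨x, hx⟩ := (AddCommGrpCat.epi_iff_surjective ((StrictLocLib.gsecF (Spec (CommRingCat.of Ω))).map b)).1
    inferInstance (Sheaf.H.equiv₀ B T y)
  refine ⟨(Sheaf.H.equiv₀ A T).symm x, (Sheaf.H.equiv₀ B T).injective ?_⟩
  rw [← Sheaf.H.equiv₀_naturality, AddEquiv.apply_symm_apply]
  exact hx

/-- Positive degree classes vanish locally. -/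
theorem exists_local_zero (r : ℕ) {H : EtCoh.Ab U} (w : EtCoh.H U H (r + 1)) :
    ∃ (W : U.Etale) (_ : IsAffine W.left) (v : Spec (CommRingCat.of Ω) ⟶ W.left) (_ : v ≫ W.hom = u),
      ∀ [PreservesFiniteLimits (EtCoh.pull W.hom)], EtCore.Hpull W.hom H (r + 1) w = 0 := by
  haveI := S0101.result u
  induction r generalizing H with
  | zero =>
    let S : ShortComplex (EtCoh.Ab U) :=
      ShortComplex.mk (Injective.ι H) (cokernel.π (Injective.ι H)) (cokernel.condition _)
    have hS : S.ShortExact := { exact := ShortComplex.exact_cokernel _ }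
    haveI : Injective S.X₂ := inferInstanceAs (Injective (Injective.under H))
    obtain ⟨e, rfl⟩ := Ext.covariant_sequence_exact₁ _ hS w (Ext.eq_zero_of_injective _) (rfl : 0 + 1 = 0 + 1)
    haveI := hS.epi_g
    haveI : PreservesColimitsOfSize.{0, 0} (EtCoh.pull u) := (EtCoh.pullPushAdj u).leftAdjoint_preservesColimits
    obtain ⟨z, hz⟩ := surjective_H0_of_epi ((EtCoh.pull u).map S.g) (EtCore.Hpull u S.X₃ 0 e)
    obtain ⟨W, hW, v, hv, hw⟩ := exists_local_lift u S.g e z hz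
    refine ⟨W, hW, v, hv, ?_⟩
    intro _
    obtain ⟨w, hw⟩ := hw
    refine (CompBCLib.Hpull_δ W.hom hS e).trans ?_
    rw [← hw]
    show (Ext.comp w (Ext.mk₀ ((EtCoh.pull W.hom).map S.g)) (add_zero 0)).comp _ _ = 0
    rw [Ext.comp_assoc_of_second_deg_zero]
    exact (congrArg (fun m => Ext.comp w m rfl) (hS.map_of_exact (EtCoh.pull W.hom)).comp_extClass).trans
      (Ext.comp_zero _ _ _ _ _)
  | succ r ih =>
    let S : ShortComplex (EtCoh.Ab U) :=
      ShortComplex.mk (Injective.ι H) (cokernel.π (Injective.ι H)) (cokernel.condition _)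
    have hS : S.ShortExact := { exact := ShortComplex.exact_cokernel _ }
    haveI : Injective S.X₂ := inferInstanceAs (Injective (Injective.under H))
    obtain ⟨e, rfl⟩ := Ext.covariant_sequence_exact₁ _ hS w (Ext.eq_zero_of_injective _) (rfl : r + 1 + 1 = r + 1 + 1)
    obtain ⟨W, hW, v, hv, he⟩ := ih e
    refine ⟨W, hW, v, hv, ?_⟩
    intro _
    rw [CompBCLib.Hpull_δ W.hom hS e, he, Ext.zero_comp]

end Groth.Agent.PBCLib
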