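import Groth.Agent.PBCLib.ConstPush
import Groth.Agent.EtPtsLib.IntegralBCIso
import Groth.Agent.CompBCLib.Killed
import Groth.Agent.S14451
import Groth.Agent.S0642

/-!
# Constant cohomology along fibrations of absolutely integrally closed schemes

If `W ⟶ V` is dominant between absolutely integrally closed schemes and factors as an integral morphism
followed by a morphism satisfying base change, then after any base change to a `V`-scheme `T` the
cohomology of constant sheaves is that of `T`.
-/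

set_option autoImplicit false
set_option backward.isDefEq.respectTransparency false
set_option backward.isDefEq.respectTransparency.types false
set_option linter.style.haveILetI false
set_option maxHeartbeats 1000000

universe u

open CategoryTheory CategoryTheory.Limits AlgebraicGeometry Opposite

noncomputable section

namespace Groth.Agent.PBCLib

theorem preservesFiniteColimits_push_integral {A B : Scheme.{u}} (φ : A ⟶ B) [IsIntegralHom φ] :
    PreservesFiniteColimits (EtCoh.push φ) := by
  haveI : (EtCoh.push φ).PreservesEpimorphisms := Groth.Agent.S6634.result φ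
  haveI : (EtCoh.push φ).IsRightAdjoint := (EtCoh.pullPushAdj φ).isRightAdjoint
  haveI : (EtCoh.push φ).PreservesHomology := Functor.preservesHomology_of_preservesEpis_and_kernels _
  exact Functor.preservesFiniteColimits_of_preservesHomology _

/-- Higher direct images after an exact direct image are those of the composite. -/
theorem nonempty_Rpush_push_iso {A B C : Scheme.{u}} (φ : A ⟶ B) [PreservesFiniteColimits (EtCoh.push φ)]
    (f : B ⟶ C) (G : EtCoh.Ab A) (q : ℕ) :
    Nonempty ((EtCoh.Rpush f q).obj ((EtCoh.push φ).obj G) ≅ (EtCoh.Rpush (φ ≫ f) q).obj G) := by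
  haveI : (EtCoh.push φ).IsRightAdjoint := (EtCoh.pullPushAdj φ).isRightAdjoint
  haveI : PreservesFiniteLimits (EtCoh.push φ) := inferInstance
  haveI : PreservesFiniteLimits (EtCoh.pull φ) := Groth.Agent.S0101.result φ
  let R := InjectiveResolution.of G
  let R' : InjectiveResolution ((EtCoh.push φ).obj G) :=
    { cocomplex := ((EtCoh.push φ).mapHomologicalComplex (ComplexShape.up ℕ)).obj R.cocomplex
      injective := fun n => Injective.injective_of_adjoint (EtCoh.pullPushAdj φ) (R.cocomplex.X n)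
      ι := (HomologicalComplex.singleMapHomologicalComplex (EtCoh.push φ) (ComplexShape.up ℕ) 0).inv.app G ≫
        ((EtCoh.push φ).mapHomologicalComplex (ComplexShape.up ℕ)).map R.ι
      quasiIso := inferInstance }
  exact ⟨R'.isoRightDerivedObj (EtCoh.push f) q ≪≫
    (HomologicalComplex.homologyFunctor _ _ q).mapIso
      ((NatIso.mapHomologicalComplex (EtCoh.pushComp f φ) (ComplexShape.up ℕ)).app R.cocomplex) ≪≫
    (R.isoRightDerivedObj (EtCoh.push (φ ≫ f)) q).symm⟩

theorem killedBy_const (X : Scheme.{u}) (d : ℕ) : EtCoh.KilledBy d (EtCoh.const X (ZMod d)) := by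
  rw [FLCLib.killedBy_iff]
  have hM : d • 𝟙 (AddCommGrpCat.of (ULift.{u + 1} (ZMod d))) = 0 := by
    ext x
    exact ZModModule.char_nsmul_eq_zero d (G := ZMod d) x.down
  have h1 := congrArg ((constantSheaf X.smallEtaleTopology AddCommGrpCat.{u + 1}).map) hM
  rw [Functor.map_nsmul, Functor.map_zero, CategoryTheory.Functor.map_id] at h1
  exact h1

theorem isTorsion_of_killedBy' {X : Scheme.{u}} {d : ℕ} (hd : 0 < d) {F : EtCoh.Ab X} (hF : EtCoh.KilledBy d F) :
    EtCoh.IsTorsion F := fun U s x =>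
  ⟨U, 𝟙 U, ⟨x, rfl⟩, isOfFinAddOrder_iff_nsmul_eq_zero.2 ⟨d, hd, hF U _⟩⟩

/-- Cohomology of constant sheaves is invariant under isomorphisms. -/
theorem nonempty_H_const_iso {A B : Scheme.{u}} (e : A ≅ B) (M : Type) [AddCommGroup M] (q : ℕ) :
    Nonempty (EtCoh.H A (EtCoh.const A M) q ≃+ EtCoh.H B (EtCoh.const B M) q) := by
  haveI : PreservesFiniteLimits (EtCoh.pull e.hom) := Groth.Agent.S0101.result e.hom
  exact ⟨((AddEquiv.ofBijective _ (Groth.Agent.S0642.result e.hom (EtCoh.const B M) q)).trans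
    ((EtCoh.HF A q).mapIso (EtCore.pullConst e.hom M)).addCommGroupIsoToAddEquiv).symm⟩

/-- Cohomology along an exact direct image followed by an acyclic one. -/
theorem nonempty_H_comp_equiv {C P T : Scheme.{u}} (φ : C ⟶ P) [PreservesFiniteColimits (EtCoh.push φ)]
    (pr : P ⟶ T) (G : EtCoh.Ab C) (F : EtCoh.Ab T) (e : (EtCoh.push pr).obj ((EtCoh.push φ).obj G) ≅ F)
    (hR : ∀ r : ℕ, 0 < r → IsZero ((EtCoh.Rpush pr r).obj ((EtCoh.push φ).obj G))) (q : ℕ) :
    Nonempty (EtCoh.H C G q ≃+ EtCoh.H T F q) := by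
  haveI : PreservesFiniteLimits (EtCoh.pull pr) := Groth.Agent.S0101.result pr
  obtain ⟨a⟩ := nonempty_H_push_equiv_of_exact φ G q
  have hb := Groth.Agent.S14451.result pr ((EtCoh.push φ).obj G) hR q
  exact ⟨(a.symm.trans (AddEquiv.ofBijective _ hb).symm).trans
    ((EtCoh.HF T q).mapIso e).addCommGroupIsoToAddEquiv⟩

section

variable {W V P T : Scheme.{u}} (φ : W ⟶ P) [IsIntegralHom φ] (pr : P ⟶ V) (t : T ⟶ V) (d : ℕ)

/-- The constant sheaf pushed to the base change of `P`. -/
abbrev pushConstT : EtCoh.Ab (pullback pr t) :=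
  (EtCoh.push (pullback.snd φ (pullback.fst pr t))).obj
    (EtCoh.const (pullback φ (pullback.fst pr t)) (ZMod d))

theorem nonempty_pull_pushConst_iso :
    Nonempty ((EtCoh.pull (pullback.fst pr t)).obj ((EtCoh.push φ).obj (EtCoh.const W (ZMod d))) ≅
      pushConstT φ pr t d) := by
  let gX := pullback.fst pr t
  haveI := EtPtsLib.isIso_baseChange0 φ gX (pullback.snd φ gX) (pullback.fst φ gX)
    (IsPullback.of_hasPullback φ gX) (EtCoh.const W (ZMod d))
  exact ⟨asIso (EtCoh.baseChange0 φ gX (pullback.snd φ gX) (pullback.fst φ gX) pullback.condition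
      (EtCoh.const W (ZMod d))) ≪≫ (EtCoh.push (pullback.snd φ gX)).mapIso (EtCore.pullConst _ (ZMod d))⟩

theorem nonempty_Rpush_pushConst_iso (hBC : BCAll pr) (hd : 0 < d) (r : ℕ) :
    Nonempty ((EtCoh.Rpush (pullback.snd pr t) r).obj (pushConstT φ pr t d) ≅
      (EtCoh.pull t).obj ((EtCoh.Rpush (φ ≫ pr) r).obj (EtCoh.const W (ZMod d)))) := by
  haveI : PreservesFiniteLimits (EtCoh.pull (pullback.fst pr t)) := Groth.Agent.S0101.result _
  haveI := preservesFiniteColimits_push_integral φ
  let G := (EtCoh.push φ).obj (EtCoh.const W (ZMod d))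
  have hG : EtCoh.IsTorsion G := isTorsion_of_killedBy' hd (CompBCLib.killedBy_push φ (killedBy_const W d))
  haveI := hBC t (pullback.snd pr t) (pullback.fst pr t) (IsPullback.of_hasPullback pr t) G hG r
  obtain ⟨eG⟩ := nonempty_pull_pushConst_iso φ pr t d
  obtain ⟨e₂⟩ := nonempty_Rpush_push_iso φ pr (EtCoh.const W (ZMod d)) r
  exact ⟨((EtCoh.Rpush (pullback.snd pr t) r).mapIso eG).symm ≪≫
    (asIso (EtBC.bcQ pr t (pullback.snd pr t) (pullback.fst pr t) pullback.condition r G)).symm ≪≫
    (EtCoh.pull t).mapIso e₂⟩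

variable [IsDominant (φ ≫ pr)]

theorem isZero_Rpush_pushConst (hW : IsAICScheme W) (hBC : BCAll pr) (hd : 0 < d) (r : ℕ) (hr : 0 < r) :
    IsZero ((EtCoh.Rpush (pullback.snd pr t) r).obj (pushConstT φ pr t d)) := by
  haveI := hW.isIntegral
  haveI := hW.isSepClosed_functionField
  obtain ⟨e⟩ := nonempty_Rpush_pushConst_iso φ pr t d hBC hd r
  refine IsZero.of_iso ?_ e
  exact (EtCoh.pull t).map_isZero
    (Groth.Agent.S0628.result (φ ≫ pr) (fun x => hW.isIntegrallyClosed_stalk x) (ZMod d) r hr)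

theorem nonempty_push_pushConst_iso (hW : IsAICScheme W) (hV : IsAICScheme V) (hBC : BCAll pr) (hd : 0 < d) :
    Nonempty ((EtCoh.push (pullback.snd pr t)).obj (pushConstT φ pr t d) ≅ EtCoh.const T (ZMod d)) := by
  haveI : PreservesFiniteLimits (EtCoh.push (pullback.snd pr t)) :=
    (EtCoh.pullPushAdj (pullback.snd pr t)).rightAdjoint_preservesLimits.{0, 0}.preservesFiniteLimits
  haveI : PreservesFiniteLimits (EtCoh.push (φ ≫ pr)) :=
    (EtCoh.pullPushAdj (φ ≫ pr)).rightAdjoint_preservesLimits.{0, 0}.preservesFiniteLimits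
  obtain ⟨e₀⟩ := nonempty_Rpush_pushConst_iso φ pr t d hBC hd 0
  obtain ⟨eV⟩ := nonempty_push_const_iso hW hV (φ ≫ pr) (ZMod d)
  exact ⟨((EtCoh.push (pullback.snd pr t)).rightDerivedZeroIsoSelf.app _).symm ≪≫ e₀ ≪≫
    (EtCoh.pull t).mapIso ((EtCoh.push (φ ≫ pr)).rightDerivedZeroIsoSelf.app _ ≪≫ eV) ≪≫
    EtCore.pullConst t (ZMod d)⟩

/-- After base change to any `T`, the total space has the constant cohomology of `T`. -/
theorem nonempty_H_fibre_equiv (hW : IsAICScheme W) (hV : IsAICScheme V) (hBC : BCAll pr) (hd : 0 < d) (q : ℕ) :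
    Nonempty (EtCoh.H (pullback (φ ≫ pr) t) (EtCoh.const (pullback (φ ≫ pr) t) (ZMod d)) q ≃+
      EtCoh.H T (EtCoh.const T (ZMod d)) q) := by
  haveI := preservesFiniteColimits_push_integral (pullback.snd φ (pullback.fst pr t))
  obtain ⟨i⟩ := nonempty_H_const_iso (pullbackRightPullbackFstIso pr t φ) (ZMod d) q
  obtain ⟨eT⟩ := nonempty_push_pushConst_iso φ pr t d hW hV hBC hd
  obtain ⟨a⟩ := nonempty_H_comp_equiv (pullback.snd φ (pullback.fst pr t)) (pullback.snd pr t)
    (EtCoh.const (pullback φ (pullback.fst pr t)) (ZMod d)) (EtCoh.const T (ZMod d)) eT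
    (isZero_Rpush_pushConst φ pr t d hW hBC hd) q
  exact ⟨i.symm.trans a⟩

end

end Groth.Agent.PBCLib
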