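import Groth.Agent.EtPtsLib.SepClosedField
import Groth.Agent.EtPtsLib.Criteria
import Groth.Agent.StrictLocLib.Derived

/-!
# Higher direct images to a separably closed point are cohomology
-/

set_option autoImplicit false
set_option linter.style.haveILetI false
set_option backward.isDefEq.respectTransparency false
set_option backward.isDefEq.respectTransparency.types false
set_option maxHeartbeats 1000000

universe u

open CategoryTheory CategoryTheory.Limits AlgebraicGeometry Opposite

noncomputable section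

namespace Groth.Agent.PBCLib

variable (k : Type u) [Field k] [IsSepClosed k]

/-- Global sections on a separably closed point are the stalk at any geometric point. -/
def gsecStalkIso {Ω : Type u} [Field Ω] [IsSepClosed Ω] (ξ : Spec (CommRingCat.of Ω) ⟶ Spec (CommRingCat.of k)) :
    StrictLocLib.gsecF (Spec (CommRingCat.of k)) ≅ EtCoh.stalk ξ :=
  haveI : ∀ F : EtCoh.Ab (Spec (CommRingCat.of k)),
      IsIso ((Scheme.pointSmallEtale ξ).toPresheafFiber (EtCoh.top _) (EtPtsLib.topPt k ξ) F.obj) := fun F =>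
    (ConcreteCategory.isIso_iff_bijective _).2
      (EtPtsLib.germ_top_bijective ξ (EtPtsLib.topPt k ξ) (EtPtsLib.exists_top_hom_field k ξ) F.obj)
  NatIso.ofComponents (fun F => asIso ((Scheme.pointSmallEtale ξ).toPresheafFiber (EtCoh.top _) (EtPtsLib.topPt k ξ) F.obj))
    fun {F G} a => ((Scheme.pointSmallEtale ξ).toPresheafFiber_naturality a.hom _ _).symm

/-- On a separably closed point isomorphisms are detected on global sections. -/
theorem isIso_of_bijective_gsec {A B : EtCoh.Ab (Spec (CommRingCat.of k))} (a : A ⟶ B)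
    (h : Function.Bijective ((StrictLocLib.gsecF (Spec (CommRingCat.of k))).map a)) : IsIso a := by
  have key : ∀ (Ω : Type u) [Field Ω] [IsSepClosed Ω] (ξ : Spec (CommRingCat.of Ω) ⟶ Spec (CommRingCat.of k)),
      Function.Bijective ((EtCoh.stalk ξ).map a) := fun Ω _ _ ξ => by
    haveI : IsIso ((StrictLocLib.gsecF (Spec (CommRingCat.of k))).map a) :=
      (ConcreteCategory.isIso_iff_bijective _).2 h
    haveI : IsIso ((EtCoh.stalk ξ).map a) := (NatIso.isIso_map_iff (gsecStalkIso k ξ) a).1 ‹_›
    exact ConcreteCategory.bijective_of_isIso _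
  haveI : Mono a := (EtPtsLib.mono_iff_ab a).2 fun Ω _ _ ξ => (key Ω ξ).1
  haveI : Epi a := (EtPtsLib.epi_iff_ab a).2 fun Ω _ _ ξ => (key Ω ξ).2
  exact isIso_of_mono_of_epi a

/-- Global sections on a separably closed point are exact. -/
theorem gsec_exact {S : ShortComplex (EtCoh.Ab (Spec (CommRingCat.of k)))} (hS : S.Exact) :
    (S.map (StrictLocLib.gsecF (Spec (CommRingCat.of k)))).Exact :=
  ShortComplex.exact_of_iso (S.mapNatIso (gsecStalkIso k (𝟙 _))).symm (hS.map (EtCoh.stalk (𝟙 _)))

variable {k}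

/-- Higher direct images to a separably closed point are cohomology, naturally in the sheaf. -/
theorem nonempty_Rpush_gsec_natIso {C : Scheme.{u}} (a : C ⟶ Spec (CommRingCat.of k)) (q : ℕ) :
    Nonempty (EtCoh.Rpush a q ⋙ StrictLocLib.gsecF (Spec (CommRingCat.of k)) ≅ EtCoh.HF C q) := by
  haveI : (EtCoh.push a).Additive := (EtCoh.pullPushAdj a).right_adjoint_additive
  haveI : (EtCoh.stalk (𝟙 (Spec (CommRingCat.of k)))).Additive := Functor.additive_of_preserves_binary_products _
  let e₀ : EtCoh.push a ⋙ EtCoh.stalk (𝟙 (Spec (CommRingCat.of k))) ≅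
      preadditiveCoyoneda.obj (op (StrictLocLib.cstZ C)) :=
    Functor.isoWhiskerLeft _ (gsecStalkIso k (𝟙 _)).symm ≪≫ EtCore.pushGsecIso a ≪≫
      StrictLocLib.gsecIsoCoyoneda C
  obtain ⟨eExt⟩ := SpSeqLib.nonempty_rightDerived_coyoneda_natIso (StrictLocLib.cstZ C) q
  exact ⟨Functor.isoWhiskerLeft _ (gsecStalkIso k (𝟙 _)) ≪≫
    (SpSeqLib.rightDerivedPostcompIso (EtCoh.push a) (EtCoh.stalk (𝟙 _)) q).symm ≪≫
    SpSeqLib.rightDerivedCongr e₀ q ≪≫ eExt ≪≫ StrictLocLib.extIsoHF C q⟩

end Groth.Agent.PBCLib
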