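import Groth.Agent.EtTraceLib.Coh
import Groth.Agent.EtPtsLib.Recollement
import Groth.Agent.FLCLib.Ops

/-!
# Cohomology classes and disjoint open coverings

A class which dies on every member of a finite covering by disjoint opens is zero: a sheaf is the sum of the direct
images of its restrictions.
-/

set_option autoImplicit false
set_option backward.isDefEq.respectTransparency false
set_option backward.isDefEq.respectTransparency.types false
set_option linter.style.haveILetI false
set_option maxHeartbeats 1000000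

universe u

open CategoryTheory CategoryTheory.Limits AlgebraicGeometry Opposite CategoryTheory.Abelian

noncomputable section

namespace Groth.Agent.PBCLib

variable {X : Scheme.{u}}

/-- A class killed by a finite morphism dies under the unit. -/
theorem comp_unit_eq_zero {Y : Scheme.{u}} (j : Y ⟶ X) [IsFinite j] {A F : EtCoh.Ab X} {n : ℕ} (α : Ext A F n)
    (h : α.mapExactFunctor (EtCoh.pull j) = 0) :
    α.comp (Ext.mk₀ ((EtCoh.pullPushAdj j).unit.app F)) (add_zero n) = 0 := by
  have hac : SpSeqLib.IsAcyclicFor (EtCoh.push j) ((EtCoh.pull j).obj F) :=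
    fun p => Groth.Agent.S0071.result j _ (p + 1) (Nat.succ_pos p)
  let adj := EtCoh.pullPushAdj j
  refine (ExtAdj.transpose_bijective adj A _ hac n).1 ?_
  have h1 : ExtAdj.transpose adj A _ n (α.comp (Ext.mk₀ (adj.unit.app F)) (add_zero n)) = 0 := by
    rw [ExtAdj.transpose, Ext.mapExactFunctor_comp, Ext.mapExactFunctor_mk₀, h, Ext.zero_comp, Ext.zero_comp]
  have h2 : ExtAdj.transpose adj A ((EtCoh.pull j).obj F) n (0 : Ext A _ n) = 0 := by
    rw [ExtAdj.transpose, Ext.mapExactFunctor_zero, Ext.zero_comp]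
  exact h1.trans h2.symm

theorem eq_zero_of_disjoint_open {ι : Type} [Fintype ι] (U : ι → X.Opens)
    (hd : ∀ a b, a ≠ b → Disjoint (U a) (U b)) (hcov : ∀ x, ∃ a, x ∈ U a) {A F : EtCoh.Ab X} {n : ℕ}
    (α : Ext A F n) (h : ∀ a, α.mapExactFunctor (EtCoh.pull (U a).ι) = 0) : α = 0 := by
  classical
  have hcl : ∀ a, IsClosed (U a : Set X) := fun a => by
    have e : (U a : Set X)ᶜ = ⋃ b : {b // b ≠ a}, (U b.1 : Set X) := by
      ext x
      simp only [Set.mem_compl_iff, Set.mem_iUnion, SetLike.mem_coe]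
      refine ⟨fun hx => ?_, fun ⟨b, hb⟩ hx => ?_⟩
      · obtain ⟨b, hb⟩ := hcov x
        exact ⟨⟨b, fun e => hx (e ▸ hb)⟩, hb⟩
      · exact Set.disjoint_left.1 (TopologicalSpace.Opens.coe_disjoint.2 (hd b.1 a b.2)) hb hx
    exact ⟨e ▸ isOpen_iUnion fun b => (U b.1).isOpen⟩
  have hci : ∀ a, IsClosedImmersion (U a).ι := fun a =>
    IsClosedImmersion.of_isPreimmersion _ (by rw [Scheme.Opens.range_ι]; exact hcl a)
  let G : ι → EtCoh.Ab X := fun a => (EtCoh.push (U a).ι).obj ((EtCoh.pull (U a).ι).obj F)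
  let η : ∀ a, F ⟶ G a := fun a => (EtCoh.pullPushAdj (U a).ι).unit.app F
  let Φ : F ⟶ ⨁ G := biproduct.lift η
  have hΦ : ∀ (Ω : Type u) [Field Ω] [IsSepClosed Ω] (ξ : Spec (CommRingCat.of Ω) ⟶ X),
      IsIso ((EtCoh.stalk ξ).map Φ) := by
    intro Ω _ _ ξ
    obtain ⟨a, ha⟩ := hcov (ξ default)
    haveI := hci a
    haveI : (EtCoh.stalk (X := X) ξ).Additive := by
      haveI : PreservesColimitsOfSize.{0, 0} (EtCoh.stalk (X := X) ξ) :=
        ((Scheme.pointSmallEtale ξ).skyscraperSheafAdjunction (A := AddCommGrpCat.{u + 1})).leftAdjoint_preservesColimits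
      haveI := preservesBinaryBiproducts_of_preservesBinaryCoproducts (EtCoh.stalk (X := X) ξ)
      exact Functor.additive_of_preservesBinaryBiproducts _
    have hrange : ξ default ∈ Set.range (U a).ι := by rw [Scheme.Opens.range_ι]; exact ha
    obtain ⟨ζ, rfl⟩ := EtPtsLib.exists_comp_eq (U a).ι ξ hrange
    have h1 : IsIso ((EtCoh.stalk (ζ ≫ (U a).ι)).map (η a)) :=
      EtPtsLib.isIso_stalk_unit (A := AddCommGrpCat.{u + 1}) (U a).ι ζ
        (EtPtsLib.liftsLocally_of_isImmersion _) (EtPtsLib.bcInducing_of_isImmersion _) F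
    set ξ := ζ ≫ (U a).ι
    let S := EtCoh.stalk ξ
    have h0 : ∀ b, b ≠ a → IsZero (S.obj (G b)) := fun b hb => by
      refine EtPtsLib.isZero_stalk_push_ab (U b).ι ξ (by rw [Scheme.Opens.range_ι]; exact hcl b) (fun hm => ?_) _
      rw [Scheme.Opens.range_ι] at hm
      exact Set.disjoint_left.1 (TopologicalSpace.Opens.coe_disjoint.2 (hd b a hb)) hm ha
    have hp : IsIso (S.map (biproduct.π G a)) := by
      refine ⟨S.map (biproduct.ι G a), ?_, ?_⟩
      · have ht : S.map (∑ b, biproduct.π G b ≫ biproduct.ι G b) = 𝟙 _ := by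
          rw [biproduct.total, S.map_id]
        rw [S.map_sum, Finset.sum_eq_single a (fun b _ hb => by
          rw [S.map_comp, (h0 b hb).eq_zero_of_tgt (S.map (biproduct.π G b)), zero_comp]) (by simp)] at ht
        rw [← S.map_comp]; exact ht
      · rw [← S.map_comp, biproduct.ι_π_self, S.map_id]
    have e : S.map Φ ≫ S.map (biproduct.π G a) = S.map (η a) := by rw [← S.map_comp, biproduct.lift_π]
    haveI := h1
    haveI : IsIso (S.map Φ ≫ S.map (biproduct.π G a)) := e ▸ h1
    exact IsIso.of_isIso_comp_right (S.map Φ) (S.map (biproduct.π G a))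
  haveI : Mono Φ := (EtPtsLib.mono_iff_ab Φ).2 fun Ω _ _ ξ =>
    haveI := hΦ Ω ξ
    (ConcreteCategory.bijective_of_isIso ((EtCoh.stalk ξ).map Φ)).1
  haveI : Epi Φ := (EtPtsLib.epi_iff_ab Φ).2 fun Ω _ _ ξ =>
    haveI := hΦ Ω ξ
    (ConcreteCategory.bijective_of_isIso ((EtCoh.stalk ξ).map Φ)).2
  haveI : IsIso Φ := isIso_of_mono_of_epi Φ
  have hz : α.comp (Ext.mk₀ Φ) (add_zero n) = 0 := by
    have e : Φ = ∑ b, η b ≫ biproduct.ι G b := by
      simp [Φ, biproduct.lift_eq]
    let L : (F ⟶ ⨁ G) →+ Ext A (⨁ G) n := AddMonoidHom.mk' (fun g => α.comp (Ext.mk₀ g) (add_zero n))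
      (fun g g' => by rw [Ext.mk₀_add, Ext.comp_add])
    show L Φ = 0
    rw [e, map_sum]
    refine Finset.sum_eq_zero fun b _ => ?_
    haveI := hci b
    show α.comp (Ext.mk₀ (η b ≫ biproduct.ι G b)) (add_zero n) = 0
    rw [← Ext.mk₀_comp_mk₀, ← Ext.comp_assoc_of_second_deg_zero, comp_unit_eq_zero (U b).ι α (h b), Ext.zero_comp]
  have := congrArg (fun z => Ext.comp z (Ext.mk₀ (inv Φ)) (add_zero n)) hz
  simpa using this

end Groth.Agent.PBCLib
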