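import Groth.Agent.PBCLib.Fibre
import Groth.Agent.PBCLib.ClopenCover
import Groth.Agent.SubmEtSpread.NhdLim
import Groth.Agent.FpqcDesc.ZeroDim
import Groth.Agent.EtPtsLib.Parts
import Groth.Agent.QuotLib.GeomLift
import Groth.Agent.S10829
import Groth.Agent.ProjOverLib.Affine

/-!
# Geometric fibres of relative curves of AIC schemes

Constant sheaves are acyclic on the geometric fibres of absolutely integrally closed integral schemes which are
integral over a proper relative curve; in particular over the projective line.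
-/

set_option autoImplicit false
set_option linter.style.haveILetI false
set_option backward.isDefEq.respectTransparency false
set_option backward.isDefEq.respectTransparency.types false
set_option maxHeartbeats 1000000

universe u

open CategoryTheory CategoryTheory.Limits AlgebraicGeometry Opposite TopologicalSpace CategoryTheory.Abelian

noncomputable section

namespace Groth.Agent.PBCLib

section Localize

variable {C D : Scheme.{u}} (a : C ⟶ D)

theorem mapPull_eq_zero_of_universalHomeomorph {X₀ X Y : Scheme.{u}} (i : X₀ ⟶ X) [IsIntegralHom i]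
    [UniversallyInjective i] [Surjective i] (f : X ⟶ Y) {F : EtCoh.Ab Y} {n : ℕ} (x : EtCoh.H Y F n)
    (h : x.mapExactFunctor (EtCoh.pull (i ≫ f)) = 0) : x.mapExactFunctor (EtCoh.pull f) = 0 := by
  rw [← Hpull_eq_zero_iff]
  apply (Groth.Agent.S0642.result i ((EtCoh.pull f).obj F) n).1
  rw [map_zero, Hpull_eq_zero_iff]
  show ((Ext.mk₀ (EtCore.pullConst f ℤ).inv).comp (Ext.mapExactFunctor (EtCoh.pull f) x) (zero_add n)).mapExactFunctor
    (EtCoh.pull i) = 0
  rw [Ext.mapExactFunctor_comp, (mapPull_comp_eq_zero_iff i f _ rfl x).1 h, Ext.comp_zero]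

/-- A class killed on a local scheme of the base is killed on a neighbourhood. -/
theorem exists_open_killed [QuasiCompact a] [QuasiSeparated a] (d : D) (M : Type) [AddCommGroup M] (q : ℕ)
    (x : EtCoh.H C (EtCoh.const C M) q)
    (h : x.mapExactFunctor (EtCoh.pull (pullback.fst a (D.fromSpecStalk d))) = 0) :
    ∃ U : D.Opens, d ∈ U ∧ x.mapExactFunctor (EtCoh.pull (a ⁻¹ᵁ U).ι) = 0 := by
  let N := SubmEtSpread.Nhd D d
  haveI : IsDirected Nᵒᵈ (· ≤ ·) := ⟨fun j k => by
    obtain ⟨l, hl⟩ := SubmEtSpread.Nhd.exists_le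
      (W := (OrderDual.ofDual j).V ⊓ (OrderDual.ofDual k).V) ⟨(OrderDual.ofDual j).mem, (OrderDual.ofDual k).mem⟩
    exact ⟨OrderDual.toDual l, hl.trans inf_le_left, hl.trans inf_le_right⟩⟩
  let E : (Nᵒᵈ)ᵒᵖ ⥤ N :=
    { obj := fun k => OrderDual.ofDual k.unop
      map := fun {j k} h => homOfLE (show OrderDual.ofDual j.unop ≤ OrderDual.ofDual k.unop from leOfHom h.unop) }
  haveI : E.IsEquivalence :=
    { full := ⟨fun {j k} g => ⟨(homOfLE (show k.unop ≤ j.unop from leOfHom g)).op, Subsingleton.elim _ _⟩⟩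
      faithful := ⟨fun {j k} _ _ _ => Quiver.Hom.unop_inj (Subsingleton.elim _ _)⟩
      essSurj := ⟨fun k => ⟨op (OrderDual.toDual k), ⟨Iso.refl _⟩⟩⟩ }
  obtain ⟨hl⟩ := SubmEtSpread.Nhd.nonempty_isLimit_bcone D d a
  let c : Cone (E ⋙ SubmEtSpread.Nhd.bsys D d a) := (SubmEtSpread.Nhd.bcone D d a).whisker E
  have hc : IsLimit c := (Functor.Initial.isLimitWhiskerEquiv E _).symm hl
  let k₀ : Nᵒᵈ := OrderDual.toDual (Classical.arbitrary N)
  let f₀ : (E ⋙ SubmEtSpread.Nhd.bsys D d a).obj (op k₀) ⟶ C := pullback.fst _ _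
  let F₀ := (EtCoh.pull f₀).obj (EtCoh.const C M)
  let t := (E ⋙ SubmEtSpread.Nhd.bsys D d a).map (homOfLE (le_refl k₀)).op
  let x₀ : EtCoh.H _ F₀ q := EtCore.Hpull f₀ _ q x
  let ξ := EtCore.Hpull t F₀ q x₀
  have key : ∀ {Z : Scheme.{u}} (g : Z ⟶ (E ⋙ SubmEtSpread.Nhd.bsys D d a).obj (op k₀)),
      EtCore.Hpull g _ q ξ = 0 ↔ x.mapExactFunctor (EtCoh.pull ((g ≫ t) ≫ f₀)) = 0 := by
    intro Z g
    rw [Hpull_eq_zero_iff, mapPull_comp_eq_zero_iff (g ≫ t) f₀ _ rfl x]
    show ((Ext.mk₀ (EtCore.pullConst t ℤ).inv).comp (Ext.mapExactFunctor (EtCoh.pull t) x₀) (zero_add q)).mapExactFunctor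
      (EtCoh.pull g) = 0 ↔ _
    rw [Ext.mapExactFunctor_comp, ← mapPull_sandwich, ← mapPull_comp_eq_zero_iff g t _ rfl]
    show ((Ext.mk₀ (EtCore.pullConst f₀ ℤ).inv).comp (Ext.mapExactFunctor (EtCoh.pull f₀) x) (zero_add q)).mapExactFunctor
      (EtCoh.pull (g ≫ t)) = 0 ↔ _
    rw [Ext.mapExactFunctor_comp, ← mapPull_sandwich]
  have hz : EtCore.HpullVia (c.π.app (op k₀)) t (c.π.app (op k₀)) (c.w (homOfLE (le_refl k₀)).op) F₀ q ξ = 0 := by
    have e : (c.π.app (op k₀) ≫ t) ≫ f₀ = pullback.fst a (D.fromSpecStalk d) := by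
      rw [show c.π.app (op k₀) ≫ t = c.π.app (op k₀) from c.w (homOfLE (le_refl k₀)).op]
      exact pullback.lift_fst _ _ _
    show ((EtCoh.HF _ q).map _).hom (EtCore.Hpull (c.π.app (op k₀)) _ q ξ) = 0
    rw [(key _).2 (by rw [e]; exact h)]
    exact map_zero _
  obtain ⟨k, hk, hkz⟩ := (Groth.Agent.S0646.result (E ⋙ SubmEtSpread.Nhd.bsys D d a)
    (fun _ _ _ => SubmEtSpread.Nhd.isAffineHom_bsys D d a _) (fun k => inferInstanceAs (CompactSpace ((SubmEtSpread.Nhd.bsys D d a).obj _)))
    (fun k => inferInstanceAs (QuasiSeparatedSpace ((SubmEtSpread.Nhd.bsys D d a).obj _))) c hc k₀ F₀ q).2 k₀ le_rfl ξ hz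
  let V := (OrderDual.ofDual k).V
  refine ⟨V, (OrderDual.ofDual k).mem, ?_⟩
  let fk : pullback a ((SubmEtSpread.Nhd.toBase D d).app (OrderDual.ofDual k)) ⟶ C := pullback.fst _ _
  have hfk : x.mapExactFunctor (EtCoh.pull fk) = 0 := by
    have e : ((E ⋙ SubmEtSpread.Nhd.bsys D d a).map (homOfLE hk).op ≫ t) ≫ f₀ = fk := by
      rw [← Functor.map_comp]
      exact pullback.lift_fst _ _ _
    rw [← e]
    exact (key _).1 hkz
  haveI : IsOpenImmersion fk := MorphismProperty.pullback_fst (P := @IsOpenImmersion) _ _ inferInstance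
  have hr : Set.range (a ⁻¹ᵁ V).ι = Set.range fk := by
    rw [Scheme.Opens.range_ι, Scheme.Pullback.range_fst]
    exact congrArg (a ⁻¹' ·) (OrderDual.ofDual k).isAffine.range_fromSpec.symm
  let e := IsOpenImmersion.isoOfRangeEq (a ⁻¹ᵁ V).ι fk hr
  refine (mapPull_comp_eq_zero_iff e.hom fk _ (IsOpenImmersion.isoOfRangeEq_hom_fac _ _ hr) x).2 ?_
  rw [hfk, Ext.mapExactFunctor_zero]

/-- The vanishing of classes with constant coefficients is local on a zero-dimensional affine base. -/
theorem subsingleton_H_const_of_fibres [QuasiCompact a] [QuasiSeparated a] [IsAffine D]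
    (hd : topologicalKrullDim D ≤ 0) (M : Type) [AddCommGroup M] (q : ℕ)
    (h : ∀ d : D, Subsingleton (EtCoh.H (pullback a (D.fromSpecResidueField d))
      (EtCoh.const (pullback a (D.fromSpecResidueField d)) M) q)) :
    Subsingleton (EtCoh.H C (EtCoh.const C M) q) := by
  haveI : T2Space D := ZeroDimSch.t2Space hd
  haveI : TotallyDisconnectedSpace D := ZeroDimSch.totallyDisconnected hd
  refine subsingleton_of_forall_eq 0 fun x => ?_
  have hloc : ∀ d : D, ∃ U : D.Opens, d ∈ U ∧ IsClosed (U : Set D) ∧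
      x.mapExactFunctor (EtCoh.pull (a ⁻¹ᵁ U).ι) = 0 := by
    intro d
    let r : Spec (D.residueField d) ⟶ Spec (D.presheaf.stalk d) := Spec.map (D.residue d)
    haveI : Surjective r := ⟨fun t => by
      refine ⟨(default : PrimeSpectrum (D.residueField d)), (D.fromSpecStalk d).isEmbedding.injective ?_⟩
      have e : ∀ s, D.fromSpecStalk d s = d := fun s => by
        have hs : D.fromSpecStalk d s ⤳ d := Scheme.range_fromSpecStalk.subset (Set.mem_range_self s)
        exact specializes_iff_eq.1 hs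
      rw [e, e]⟩
    let i := pullback.fst a (D.fromSpecStalk d)
    let j : pullback a (D.fromSpecResidueField d) ⟶ pullback a (D.fromSpecStalk d) :=
      pullback.lift (pullback.fst _ _) (pullback.snd _ _ ≫ r) (by rw [Category.assoc]; exact pullback.condition)
    have sq : IsPullback j (pullback.snd a (D.fromSpecResidueField d)) (pullback.snd a (D.fromSpecStalk d)) r :=
      (IsPullback.of_bot (by simpa [j, r, Scheme.fromSpecResidueField] using
        (IsPullback.of_hasPullback a (D.fromSpecResidueField d)).flip) (by simp [j])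
        (IsPullback.of_hasPullback a (D.fromSpecStalk d)).flip).flip
    haveI : IsClosedImmersion r := IsClosedImmersion.SpecMap_residue d
    haveI : IsClosedImmersion j := MorphismProperty.of_isPullback (P := @IsClosedImmersion) sq.flip inferInstance
    haveI : Surjective j := MorphismProperty.of_isPullback (P := @Surjective) sq.flip inferInstance
    have h0 : x.mapExactFunctor (EtCoh.pull i) = 0 := by
      refine mapPull_eq_zero_of_universalHomeomorph j i x ?_
      rw [show j ≫ i = pullback.fst a (D.fromSpecResidueField d) from pullback.lift_fst _ _ _]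
      exact mapPull_eq_zero_of_subsingleton _ M q (h d) x
    obtain ⟨U, hdU, hU⟩ := exists_open_killed a d M q x h0
    obtain ⟨O, hO, hdO, hOU⟩ := compact_exists_isClopen_in_isOpen U.isOpen hdU
    refine ⟨⟨O, hO.isOpen⟩, hdO, hO.isClosed, ?_⟩
    have hle : a ⁻¹ᵁ (⟨O, hO.isOpen⟩ : D.Opens) ≤ a ⁻¹ᵁ U := fun z hz => hOU hz
    refine (mapPull_comp_eq_zero_iff (C.homOfLE hle) (a ⁻¹ᵁ U).ι _ (C.homOfLE_ι hle) x).2 ?_
    rw [hU, Ext.mapExactFunctor_zero]
  choose U hdU hUc hU using hloc
  obtain ⟨t, ht⟩ := isCompact_univ.elim_finite_subcover (fun d => (U d : Set D)) (fun d => (U d).isOpen)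
    (fun d _ => Set.mem_iUnion.2 ⟨d, hdU d⟩)
  let A : ULift.{u} (Fin t.card) → Opens D := fun m => U (t.equivFin.symm m.down).1
  obtain ⟨W, hW, hWA, hWc⟩ := EtPtsLib.exists_disjointify A (fun m => hUc _)
  refine eq_zero_of_disjoint_open (fun m : Fin t.card => a ⁻¹ᵁ W ⟨m⟩) (fun m m' hm => ?_) (fun z => ?_) x (fun m => ?_)
  · rw [← Opens.coe_disjoint]
    exact (Opens.coe_disjoint.2 (hW ⟨m⟩ ⟨m'⟩ fun e => hm (congrArg ULift.down e))).preimage a
  · obtain ⟨d, hd', hz⟩ := Set.mem_iUnion₂.1 (ht (Set.mem_univ (a z)))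
    obtain ⟨b, hb⟩ := hWc (a z) ⟨t.equivFin ⟨d, hd'⟩⟩ (by simpa [A] using hz)
    exact ⟨b.down, hb⟩
  · have hle : a ⁻¹ᵁ W ⟨m⟩ ≤ a ⁻¹ᵁ U (t.equivFin.symm m).1 := fun z hz => hWA ⟨m⟩ hz
    refine (mapPull_comp_eq_zero_iff (C.homOfLE hle) _ _ (C.homOfLE_ι hle) x).2 ?_
    rw [hU, Ext.mapExactFunctor_zero]

end Localize

theorem isIntegral_residueFieldMap_of_eq {X Y : Scheme.{u}} {f g : X ⟶ Y} (e : f = g) (x : X)
    (h : (f.residueFieldMap x).hom.IsIntegral) : (g.residueFieldMap x).hom.IsIntegral := by subst e; exact h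

/-- Relative curves are fibrewise acyclic for constant sheaves on AIC schemes integral over them. -/
theorem fibreAcyclic_of_dim_le_one {Y S : Scheme.{u}} (f : Y ⟶ S) [IsProper f]
    (hdim : ∀ (L : Type u) [Field L] (x : Spec (CommRingCat.of L) ⟶ S), topologicalKrullDim ↥(pullback f x) ≤ 1) :
    FibreAcyclic f := by
  intro W π hπ hW Ω _ _ ξ hξ
  haveI := hπ
  let g := π ≫ f
  let α : g.normalization ⟶ S := g.fromNormalization
  let b : W ⟶ g.normalization := g.toNormalization
  have hba : b ≫ α = g := g.toNormalization_fromNormalization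
  have hV : IsAICScheme g.normalization := isAICScheme_normalization g hW
  let π' : W ⟶ pullback f α := pullback.lift π b hba.symm
  haveI : IsIntegralHom π' := by
    haveI : IsIntegralHom (π' ≫ pullback.fst f α) := by rw [pullback.lift_fst]; infer_instance
    exact IsIntegralHom.of_comp π' (pullback.fst f α)
  let p : pullback f α ⟶ g.normalization := pullback.snd f α
  haveI : IsProper p := MorphismProperty.pullback_snd (P := @IsProper) _ _ inferInstance
  have hπp : π' ≫ p = b := pullback.lift_snd _ _ _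
  intro n hn q hq
  let D := pullback α ξ
  let a₁ : D ⟶ g.normalization := pullback.fst α ξ
  let s : D ⟶ Spec (CommRingCat.of Ω) := pullback.snd α ξ
  haveI : IsAffine D := isAffine_of_isAffineHom s
  have hD : topologicalKrullDim D ≤ 0 := by
    refine (Groth.Agent.S9683.result s).1.trans ?_
    exact ((PrimeSpectrum.topologicalKrullDim_eq_ringKrullDim Ω).trans (ringKrullDim_eq_zero_of_field Ω)).le
  have sq : IsPullback (pullback.fst b a₁) (pullback.snd b a₁ ≫ s) g ξ := by
    have h := (IsPullback.of_hasPullback b a₁).paste_vert (IsPullback.of_hasPullback α ξ)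
    rwa [hba] at h
  refine (subsingleton_H_const_iff_of_universalHomeomorph sq.isoPullback.hom (ZMod n) q).1 ?_
  refine subsingleton_H_const_of_fibres (pullback.snd b a₁) hD (ZMod n) q fun d => ?_
  let v := a₁ d
  have hbij : Function.Bijective (a₁.residueFieldMap d).hom := by
    haveI := hV.isAlgClosed_residueField v
    refine IsAlgClosed.ringHom_bijective_of_isIntegral _ ?_
    have h2 : ((s ≫ ξ).residueFieldMap d).hom.IsIntegral := by
      rw [Scheme.residueFieldMap_comp, CommRingCat.hom_comp]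
      refine RingHom.IsIntegral.trans _ _ ?_ (QuotLib.isIntegral_residueFieldMap' s d)
      have hpt : ∀ y : Spec (CommRingCat.of Ω), (ξ.residueFieldMap y).hom.IsIntegral := fun y => by
        unfold IsAlgPt at hξ
        have hsub : ∀ y z : Spec (CommRingCat.of Ω), (ξ.residueFieldMap z).hom.IsIntegral →
            (ξ.residueFieldMap y).hom.IsIntegral := fun y z hz => by
          obtain rfl : y = z := Subsingleton.elim (α := PrimeSpectrum Ω) _ _
          exact hz
        exact hsub _ _ hξ
      exact hpt _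
    have h3 : ((a₁ ≫ α).residueFieldMap d).hom.IsIntegral :=
      isIntegral_residueFieldMap_of_eq (pullback.condition).symm d h2
    rw [Scheme.residueFieldMap_comp, CommRingCat.hom_comp] at h3
    exact RingHom.IsIntegral.tower_top _ _ h3
  haveI : IsIso (a₁.residueFieldMap d) := (ConcreteCategory.isIso_iff_bijective _).2 hbij
  have sq1 : IsPullback (pullback.fst (pullback.snd b a₁) (D.fromSpecResidueField d) ≫ pullback.fst b a₁)
      (pullback.snd (pullback.snd b a₁) (D.fromSpecResidueField d)) b (D.fromSpecResidueField d ≫ a₁) :=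
    (IsPullback.of_hasPullback (pullback.snd b a₁) (D.fromSpecResidueField d)).paste_horiz
      (IsPullback.of_hasPullback b a₁)
  have sq2 : IsPullback (pullback.fst (pullback.snd b a₁) (D.fromSpecResidueField d) ≫ pullback.fst b a₁)
      (pullback.snd (pullback.snd b a₁) (D.fromSpecResidueField d) ≫ Spec.map (a₁.residueFieldMap d))
      (π' ≫ p) (g.normalization.fromSpecResidueField v) :=
    sq1.of_iso (Iso.refl _) (Iso.refl _) (asIso (Spec.map (a₁.residueFieldMap d))) (Iso.refl _)
      (by simp) (by simp) (by simp [hπp]) (by simp [Scheme.Hom.SpecMap_residueFieldMap_fromSpecResidueField, v])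
  refine (subsingleton_H_const_iff_of_universalHomeomorph sq2.isoPullback.hom (ZMod n) q).2 ?_
  refine constAcyclic_fibre hW π' p v (hV.isStrictlyHenselian_stalk v).1 ?_ n hn q hq
  let e := pullbackLeftPullbackSndIso f α (g.normalization.fromSpecResidueField v)
  rw [IsHomeomorph.topologicalKrullDim_eq _ e.hom.homeomorph.isHomeomorph]
  exact hdim _ _

/-- The projective line is fibrewise acyclic. -/
theorem fibreAcyclic_P1 : ∀ S : Scheme.{u}, FibreAcyclic (P1Pow.toBase 1 S) := by
  intro S
  let f := CohB1.ProjSpaceOver.toBase 1 S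
  haveI : IsProper f := by
    show IsProper (pullback.snd (CohB1.ProjSpace.toSpec 1 (ULift.{u} ℤ)) (specULiftZIsTerminal.from S))
    exact MorphismProperty.pullback_snd (P := @IsProper) _ _ inferInstance
  have hdim : ∀ (L : Type u) [Field L] (x : Spec (CommRingCat.of L) ⟶ S), topologicalKrullDim ↥(pullback f x) ≤ 1 := by
    intro L _ x
    let e := pullbackLeftPullbackSndIso (CohB1.ProjSpace.toSpec 1 (ULift.{u} ℤ)) (specULiftZIsTerminal.from S) x ≪≫
      pullback.congrHom rfl (specULiftZIsTerminal.hom_ext (x ≫ specULiftZIsTerminal.from S) (specULiftZIsTerminal.from _))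
    obtain ⟨e', -⟩ := ProjOverLib.exists_iso_polyProj 1 L
    refine (IsHomeomorph.topologicalKrullDim_eq _ (e ≪≫ e').hom.homeomorph.isHomeomorph).le.trans ?_
    exact (Groth.Agent.S10829.result L 1).le
  show FibreAcyclic (f ≫ 𝟙 S)
  rw [Category.comp_id]
  exact fibreAcyclic_of_dim_le_one f hdim

end Groth.Agent.PBCLib
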