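import Groth.Agent.PBCLib.Glue
import Groth.Agent.PBCLib.P1

/-!
# Proper base change for torsion sheaves
-/

set_option autoImplicit false
set_option backward.isDefEq.respectTransparency false
set_option backward.isDefEq.respectTransparency.types false

universe u

open CategoryTheory CategoryTheory.Limits AlgebraicGeometry Opposite

noncomputable section

namespace Groth.Agent.PBCLib

/-- Proper base change: for a proper morphism the base change maps of torsion sheaves are isomorphisms, for every
cartesian square. -/
theorem bcAll_of_proper {X S : Scheme.{u}} (f : X ⟶ S) [IsProper f] : BCAll f :=
  bcAll_of_P1 fibreAcyclic_P1 f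

end Groth.Agent.PBCLib
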