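import Groth.Agent.PBCLib.LocalSections
import Groth.Agent.PBCLib.Defs
import Groth.Agent.BCVertLib.KilledEfface
import Groth.Agent.S0073
import Groth.Agent.S3073
import Groth.Agent.S8537
import Groth.Prelude.Def_PBC

/-!
# Consequences of proper base change for torsion sheaves
-/

set_option autoImplicit false
set_option linter.style.haveILetI false
set_option backward.isDefEq.respectTransparency false
set_option backward.isDefEq.respectTransparency.types false
set_option maxHeartbeats 1000000

universe u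

open CategoryTheory CategoryTheory.Limits AlgebraicGeometry Opposite
open Groth.Agent.EtPtsLib Groth.Agent.StrictLocLib

noncomputable section

namespace Groth.Agent.PBCLib

attribute [local instance] Groth.Agent.S0101.result

theorem isSepClosed_residueField_self (k : Type u) [Field k] [IsSepClosed k] :
    IsSepClosed (IsLocalRing.ResidueField k) := by
  let e : k ≃+* IsLocalRing.ResidueField k :=
    RingEquiv.ofBijective (IsLocalRing.residue k) ⟨(IsLocalRing.residue k).injective, IsLocalRing.residue_surjective⟩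
  refine IsSepClosed.of_exists_root _ fun p hp hi hs => ?_
  obtain ⟨x, hx⟩ := IsSepClosed.exists_root (p.map e.symm.toRingHom)
    (by rw [Polynomial.degree_map]; exact (Polynomial.degree_pos_of_irreducible hi).ne') (hs.map)
  refine ⟨e x, ?_⟩
  have h := congrArg e.toRingHom hx
  rw [Polynomial.eval_map, Polynomial.hom_eval₂, map_zero] at h
  rwa [show e.toRingHom.comp e.symm.toRingHom = RingHom.id _ from RingHom.ext fun y => e.apply_symm_apply y] at h

/-- Pullback between separably closed points is bijective on cohomology. -/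
theorem bijective_Hpull_sepClosed_point {k K : Type u} [Field k] [IsSepClosed k] [Field K] [IsSepClosed K]
    (v : Spec (CommRingCat.of K) ⟶ Spec (CommRingCat.of k)) [PreservesFiniteLimits (EtCoh.pull v)]
    (F : EtCoh.Ab (Spec (CommRingCat.of k))) (q : ℕ) : Function.Bijective (EtCore.Hpull v F q) := by
  haveI := isSepClosed_residueField_self k
  haveI := isSepClosed_residueField_self K
  rcases q with _ | q
  · let ξ := 𝟙 (Spec (CommRingCat.of K)) ≫ v
    let t₀ := topPt k ξ
    have hk := germ_top_bijective ξ t₀ (exists_top_hom_field k ξ) F.obj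
    have hK := germ_top_bijective (𝟙 (Spec (CommRingCat.of K))) (topPt K (𝟙 _))
      (exists_top_hom_field K (𝟙 _)) ((EtCoh.pull v).obj F).obj
    have e : ∀ x, unitStalk v (𝟙 _) F ((Scheme.pointSmallEtale ξ).toPresheafFiber _ t₀ F.obj x) = _ :=
      fun x => unitStalk_germ_top v F (EtCoh.top _) t₀ x
    have hr : Function.Bijective
        (restrSec (W := EtCoh.top (Spec (CommRingCat.of k))) v (Category.comp_id v) F) := by
      rw [restrSec_congr (W := EtCoh.top _) (Category.comp_id v) (liftHom_id_comp v t₀) (Category.id_comp v).symm F]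
      refine (Function.Bijective.of_comp_iff' hK _).1 ?_
      rw [show (_ ∘ _) = _ from (funext e).symm]
      exact (bijective_unitStalk v (𝟙 _) F).comp hk
    constructor
    · intro x y hxy
      have h := congrArg (Sheaf.H.equiv₀ ((EtCoh.pull v).obj F) (EtCore.topIsTerminal _)) hxy
      rw [equiv₀_Hpull, equiv₀_Hpull] at h
      exact (Sheaf.H.equiv₀ F (EtCore.topIsTerminal _)).injective (hr.1 h)
    · intro y
      obtain ⟨x, hx⟩ := hr.2 (Sheaf.H.equiv₀ ((EtCoh.pull v).obj F) (EtCore.topIsTerminal _) y)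
      refine ⟨(Sheaf.H.equiv₀ F (EtCore.topIsTerminal _)).symm x,
        (Sheaf.H.equiv₀ ((EtCoh.pull v).obj F) (EtCore.topIsTerminal _)).injective ?_⟩
      rw [equiv₀_Hpull, AddEquiv.apply_symm_apply]
      exact hx
  · haveI := Groth.Agent.S0073.result k F (q + 1) (Nat.le_add_left 1 q)
    haveI := Groth.Agent.S0073.result K ((EtCoh.pull v).obj F) (q + 1) (Nat.le_add_left 1 q)
    exact ⟨fun a b _ => Subsingleton.elim a b, fun b => ⟨0, Subsingleton.elim _ b⟩⟩

variable (hbc : ∀ {X S : Scheme.{u}} (f : X ⟶ S) [IsProper f], BCAll f)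

include hbc

/-- Cohomology of a proper scheme over the spectrum of a ring which has the same cohomology as a base. -/
theorem bijective_Hpull_of_compN {S S' X X' : Scheme.{u}} [CompactSpace S] [QuasiSeparatedSpace S] [CompactSpace S']
    [QuasiSeparatedSpace S'] (v : S' ⟶ S) (hv : ∀ n, EtAcyc.CompN v Set.univ n) (f : X ⟶ S) [IsProper f]
    (f' : X' ⟶ S') (g' : X' ⟶ X) (h : IsPullback g' f' f v) [PreservesFiniteLimits (EtCoh.pull g')]
    (F : EtCoh.Ab X) (hF : EtCoh.IsTorsion F) (q : ℕ) : Function.Bijective (EtCore.Hpull g' F q) := by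
  haveI : CompactSpace X := QuasiCompact.compactSpace_of_compactSpace f
  haveI : QuasiSeparatedSpace X := quasiSeparatedSpace_of_quasiSeparated f
  refine (Groth.Agent.S8537.result v f g' f' h Set.univ q (hv q)
    (fun Fb hFb => ?_) F (RpushTorsLib.isLTorsion_univ hF)).1 q le_rfl
  have ht := RpushTorsLib.isTorsion_of_isLTorsion hFb
  refine ⟨fun i _ => hbc f v f' g' h Fb ht i, ?_⟩
  haveI := hbc f v f' g' h Fb ht (q + 1)
  infer_instance

/-- Extensions of separably closed fields. -/
theorem bijective_Hpull_sepClosed_ext {k K : Type u} [Field k] [IsSepClosed k] [Field K] [IsSepClosed K]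
    (i : k →+* K) {X : Scheme.{u}} (a : X ⟶ Spec (CommRingCat.of k)) [IsProper a] (F : EtCoh.Ab X)
    (hF : EtCoh.IsTorsion F) [PreservesFiniteLimits (EtCoh.pull (pullback.fst a (Spec.map (CommRingCat.ofHom i))))]
    (q : ℕ) : Function.Bijective (EtCore.Hpull (pullback.fst a (Spec.map (CommRingCat.ofHom i))) F q) :=
  bijective_Hpull_of_compN hbc (Spec.map (CommRingCat.ofHom i))
    (fun n G _ _ => ⟨fun q _ => bijective_Hpull_sepClosed_point _ G q,
      (bijective_Hpull_sepClosed_point _ G (n + 1)).1⟩)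
    a _ _ (IsPullback.of_hasPullback a _) F hF q

/-- The closed fibre of a proper scheme over a henselian local ring. -/
theorem bijective_Hpull_closedFibre (A : Type u) [CommRing A] [HenselianLocalRing A] {X : Scheme.{u}}
    (f : X ⟶ Spec (CommRingCat.of A)) [IsProper f]
    [PreservesFiniteLimits (EtCoh.pull (pullback.fst f (Spec.map (CommRingCat.ofHom (IsLocalRing.residue A)))))]
    (F : EtCoh.Ab X) (hF : EtCoh.IsTorsion F) (q : ℕ) :
    Function.Bijective
      (EtCore.Hpull (pullback.fst f (Spec.map (CommRingCat.ofHom (IsLocalRing.residue A)))) F q) :=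
  bijective_Hpull_of_compN hbc (Spec.map (CommRingCat.ofHom (IsLocalRing.residue A)))
    (fun n G _ _ => ⟨fun q _ => Groth.Agent.S3073.result A G q, (Groth.Agent.S3073.result A G (n + 1)).1⟩)
    f _ _ (IsPullback.of_hasPullback f _) F hF q

/-- The stalk of a higher direct image is the cohomology of the geometric fibre. -/
theorem nonempty_stalk_Rpush_iso {X S : Scheme.{u}} (f : X ⟶ S) [IsProper f] {Ω : Type u} [Field Ω] [IsSepClosed Ω]
    (ξ : Spec (CommRingCat.of Ω) ⟶ S) (F : EtCoh.Ab X) (hF : EtCoh.IsTorsion F) (n : ℕ) :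
    Nonempty ((EtCoh.stalk ξ).obj ((EtCoh.Rpush f n).obj F) ≅
      AddCommGrpCat.of (EtCoh.H (pullback f ξ) ((EtCoh.pull (pullback.fst f ξ)).obj F) n)) := by
  haveI := hbc f ξ _ _ (IsPullback.of_hasPullback f ξ) F hF n
  obtain ⟨ε⟩ := nonempty_Rpush_gsec_natIso (pullback.snd f ξ) n
  exact ⟨eqToIso (by rw [Category.id_comp]) ≪≫ ((FLCLib.stalkPullIso ξ (𝟙 _)).app _).symm ≪≫
    ((gsecStalkIso Ω (𝟙 _)).app _).symm ≪≫
    (StrictLocLib.gsecF _).mapIso (asIso (EtBC.bcQ f ξ _ _ (IsPullback.of_hasPullback f ξ).w n F)) ≪≫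
    ε.app ((EtCoh.pull (pullback.fst f ξ)).obj F)⟩

/-- Cohomology commutes with base change for proper morphisms. -/
theorem cohCommutesWithBC {X S : Scheme.{u}} (f : X ⟶ S) [IsProper f] [EtCoh.BCCont f] :
    EtPBC.CohCommutesWithBC f := fun X' S' f' g' g _ _ _ h F hF q => by
  haveI : PreservesFiniteLimits (EtCoh.pull g') := Groth.Agent.S0101.result g'
  haveI := hbc f g f' g' h F hF q
  exact ⟨asIso (EtBC.bcQ f g f' g' h.w q F)⟩

omit hbc in
/-- Injective sheaves of `ℤ/l`-modules are acyclic. -/
theorem isZero_Rpush_of_killed_injective {X S : Scheme.{u}} (f : X ⟶ S) {l : ℕ} {I : EtCoh.Ab X}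
    (hI : EtCoh.KilledBy l I)
    (hinj : ∀ (G : EtCoh.Ab X), EtCoh.KilledBy l G → ∀ (a : G ⟶ I) {G' : EtCoh.Ab X} (m : G ⟶ G'),
      EtCoh.KilledBy l G' → Mono m → ∃ b : G' ⟶ I, m ≫ b = a) (q : ℕ) :
    IsZero ((EtCoh.Rpush f (q + 1)).obj I) := by
  obtain ⟨K, u, hu, hK, hR⟩ := BCVertLib.exists_killed_acyclic f hI
  obtain ⟨b, hb⟩ := hinj I hI (𝟙 I) u hK hu
  rw [IsZero.iff_id_eq_zero, ← CategoryTheory.Functor.map_id, ← hb, Functor.map_comp,
    (hR q).eq_of_tgt ((EtCoh.Rpush f (q + 1)).map u) 0, zero_comp]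

end Groth.Agent.PBCLib
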