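import Groth.Agent.PBCLib.TorsBC
import Groth.Agent.PBCLib.Defs
import Groth.Agent.BCDLib.Basic
import Groth.Agent.SpSeqLib.Acyclic
import Groth.Agent.StrictLocLib.ProperBC
import Mathlib.Algebra.Homology.DerivedCategory.DerivabilityStructureInjectives
import Mathlib.Algebra.Homology.HomologySequence

/-!
# Proper base change for bounded below complexes with torsion cohomology

The torsion part of a bounded below complex of injective sheaves with torsion cohomology is quasi-isomorphic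
to it, and consists of sheaves which are acyclic for proper morphisms, also after base change. On such a
complex the base change morphism is computed termwise.
-/

set_option autoImplicit false
set_option linter.style.haveILetI false
set_option backward.isDefEq.respectTransparency false
set_option backward.isDefEq.respectTransparency.types false
set_option maxHeartbeats 1000000

universe u

open CategoryTheory CategoryTheory.Limits AlgebraicGeometry Opposite

attribute [local instance] HasDerivedCategory.standard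

noncomputable section

namespace Groth.Agent.PBCLib

attribute [local instance] Groth.Agent.S0101.result

section TorsPart

variable {X : Scheme.{u}}

theorem stalk_map_zero {A B : EtCoh.Ab X} {Ω : Type u} [Field Ω] [IsSepClosed Ω]
    (ξ : Spec (CommRingCat.of Ω) ⟶ X) (x : (EtCoh.stalk ξ).obj A) : (EtCoh.stalk ξ).map (0 : A ⟶ B) x = 0 := by
  haveI : (EtCoh.stalk ξ).Additive := Functor.additive_of_preserves_binary_products _
  rw [Functor.map_zero]
  rfl

theorem stalk_comp_apply {A B C : EtCoh.Ab X} (a : A ⟶ B) (b : B ⟶ C) {Ω : Type u} [Field Ω] [IsSepClosed Ω]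
    (ξ : Spec (CommRingCat.of Ω) ⟶ X) (x : (EtCoh.stalk ξ).obj A) :
    (EtCoh.stalk ξ).map (a ≫ b) x = (EtCoh.stalk ξ).map b ((EtCoh.stalk ξ).map a x) := by
  rw [Functor.map_comp]
  rfl

/-- Torsion is inherited by the middle term of an exact sequence. -/
theorem isTorsion_of_exact (S : ShortComplex (EtCoh.Ab X)) (hS : S.Exact) (h₁ : EtCoh.IsTorsion S.X₁)
    (h₃ : EtCoh.IsTorsion S.X₃) : EtCoh.IsTorsion S.X₂ := by
  refine EtClosedPts.isTorsion_of_stalks fun Ω _ _ ξ b => ?_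
  obtain ⟨n, hn, hb⟩ := isOfFinAddOrder_iff_nsmul_eq_zero.1
    (EtClosedPts.isOfFinAddOrder_of_isTorsion ξ h₃ ((EtCoh.stalk ξ).map S.g b))
  obtain ⟨y, hy⟩ := (ShortComplex.ab_exact_iff _).1 ((EtPtsLib.exact_iff_ab S).1 hS Ω ξ) (n • b)
    ((map_nsmul _ n b).trans hb)
  obtain ⟨m, hm, hy0⟩ := isOfFinAddOrder_iff_nsmul_eq_zero.1 (EtClosedPts.isOfFinAddOrder_of_isTorsion ξ h₁ y)
  refine isOfFinAddOrder_iff_nsmul_eq_zero.2 ⟨m * n, Nat.mul_pos hm hn, ?_⟩
  rw [mul_nsmul', ← hy]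
  exact ((map_nsmul _ m y).symm.trans (congrArg _ hy0)).trans (map_zero _)

theorem isTorsion_of_mono {A B : EtCoh.Ab X} (a : A ⟶ B) [Mono a] (hB : EtCoh.IsTorsion B) :
    EtCoh.IsTorsion A := by
  refine EtClosedPts.isTorsion_of_stalks fun Ω _ _ ξ b => ?_
  obtain ⟨n, hn, hb⟩ := isOfFinAddOrder_iff_nsmul_eq_zero.1
    (EtClosedPts.isOfFinAddOrder_of_isTorsion ξ hB ((EtCoh.stalk ξ).map a b))
  exact isOfFinAddOrder_iff_nsmul_eq_zero.2
    ⟨n, hn, (EtPtsLib.mono_iff_ab a).1 ‹_› Ω ξ (by rw [map_nsmul, hb, map_zero])⟩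

theorem isTorsion_of_epi {A B : EtCoh.Ab X} (a : A ⟶ B) [Epi a] (hA : EtCoh.IsTorsion A) :
    EtCoh.IsTorsion B := by
  refine EtClosedPts.isTorsion_of_stalks fun Ω _ _ ξ b => ?_
  obtain ⟨y, rfl⟩ := (EtPtsLib.epi_iff_ab a).1 ‹_› Ω ξ b
  exact ((EtCoh.stalk ξ).map a).hom.isOfFinAddOrder (EtClosedPts.isOfFinAddOrder_of_isTorsion ξ hA y)

variable (I : EtCoh.Ab X)

/-- The sum of the kernels of the multiplications. -/
def torsDesc : (∐ fun m : ℕ => kernel ((m + 1) • 𝟙 I : I ⟶ I)) ⟶ I :=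
  Sigma.desc fun m => kernel.ι ((m + 1) • 𝟙 I : I ⟶ I)

/-- The torsion part of a sheaf. -/
def torsPart : EtCoh.Ab X := kernel (cokernel.π (torsDesc I))

/-- The inclusion of the torsion part. -/
def torsι : torsPart I ⟶ I := kernel.ι (cokernel.π (torsDesc I))

instance : Mono (torsι I) := inferInstanceAs (Mono (kernel.ι _))

theorem exists_torsι_eq {Ω : Type u} [Field Ω] [IsSepClosed Ω] (ξ : Spec (CommRingCat.of Ω) ⟶ X)
    (y : (EtCoh.stalk ξ).obj I) (hy : IsOfFinAddOrder y) : ∃ z, (EtCoh.stalk ξ).map (torsι I) z = y := by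
  obtain ⟨n, hn, hy⟩ := isOfFinAddOrder_iff_nsmul_eq_zero.1 hy
  obtain ⟨m, rfl⟩ := Nat.exists_eq_succ_of_ne_zero hn.ne'
  obtain ⟨w, hw⟩ := (ShortComplex.ab_exact_iff _).1 ((EtPtsLib.exact_iff_ab
    (ShortComplex.mk _ _ (kernel.condition ((m + 1) • 𝟙 I : I ⟶ I)))).1
    (ShortComplex.exact_of_f_is_kernel _ (kernelIsKernel _)) Ω ξ) y ((stalk_nsmul_id I (m + 1) ξ y).trans hy)
  have h0 : kernel.ι ((m + 1) • 𝟙 I : I ⟶ I) ≫ cokernel.π (torsDesc I) = 0 := by
    rw [show kernel.ι ((m + 1) • 𝟙 I : I ⟶ I) = Sigma.ι _ m ≫ torsDesc I from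
      (Sigma.ι_desc (fun j => kernel.ι ((j + 1) • 𝟙 I : I ⟶ I)) m).symm, Category.assoc, cokernel.condition,
      comp_zero]
  refine ⟨(EtCoh.stalk ξ).map (kernel.lift _ _ h0) w, ?_⟩
  refine (stalk_comp_apply _ _ ξ w).symm.trans ?_
  rw [torsι, kernel.lift_ι]
  exact hw

theorem injective_stalk_torsι {Ω : Type u} [Field Ω] [IsSepClosed Ω] (ξ : Spec (CommRingCat.of Ω) ⟶ X) :
    Function.Injective ((EtCoh.stalk ξ).map (torsι I)) := (EtPtsLib.mono_iff_ab (torsι I)).1 inferInstance Ω ξ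

theorem isOfFinAddOrder_torsι {Ω : Type u} [Field Ω] [IsSepClosed Ω] (ξ : Spec (CommRingCat.of Ω) ⟶ X)
    (z : (EtCoh.stalk ξ).obj (torsPart I)) : IsOfFinAddOrder ((EtCoh.stalk ξ).map (torsι I) z) := by
  obtain ⟨w, hw⟩ := (ShortComplex.ab_exact_iff _).1 ((EtPtsLib.exact_iff_ab
    (ShortComplex.mk (torsDesc I) _ (cokernel.condition (torsDesc I)))).1
      (ShortComplex.exact_cokernel (torsDesc I)) Ω ξ)
    ((EtCoh.stalk ξ).map (torsι I) z)
    (((stalk_comp_apply (torsι I) _ ξ z).symm.trans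
      (congrArg (fun k => (EtCoh.stalk ξ).map k z) (kernel.condition _))).trans (stalk_map_zero ξ z))
  rw [← hw]
  let G := (EtCoh.stalk ξ).obj I
  let q : G ⟶ AddCommGrpCat.of (↑G ⧸ AddCommGroup.torsion ↑G) := AddCommGrpCat.ofHom (QuotientAddGroup.mk' _)
  have h0 : (EtCoh.stalk ξ).map (torsDesc I) ≫ q = 0 := by
    refine (isColimitOfPreserves (EtCoh.stalk ξ) (colimit.isColimit
      (Discrete.functor fun m : ℕ => kernel ((m + 1) • 𝟙 I : I ⟶ I)))).hom_ext fun ⟨m⟩ => ?_
    refine AddCommGrpCat.hom_ext (AddMonoidHom.ext fun x => ?_)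
    show q ((EtCoh.stalk ξ).map (torsDesc I) ((EtCoh.stalk ξ).map (Sigma.ι _ m) x)) = 0
    rw [← stalk_comp_apply, torsDesc, Sigma.ι_desc]
    refine (QuotientAddGroup.eq_zero_iff _).2 (isOfFinAddOrder_iff_nsmul_eq_zero.2 ⟨m + 1, m.succ_pos, ?_⟩)
    rw [← stalk_nsmul_id, ← stalk_comp_apply, kernel.condition, stalk_map_zero]
  exact (QuotientAddGroup.eq_zero_iff _).1 (ConcreteCategory.congr_hom h0 w)

theorem isTorsion_torsPart : EtCoh.IsTorsion (torsPart I) := by
  refine EtClosedPts.isTorsion_of_stalks fun Ω _ _ ξ z => ?_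
  obtain ⟨n, hn, hn0⟩ := isOfFinAddOrder_iff_nsmul_eq_zero.1 (isOfFinAddOrder_torsι I ξ z)
  exact isOfFinAddOrder_iff_nsmul_eq_zero.2
    ⟨n, hn, injective_stalk_torsι I ξ (by rw [map_nsmul, hn0, map_zero])⟩

variable {I}

theorem torsι_comp_π_eq_zero {J : EtCoh.Ab X} (a : I ⟶ J) :
    (torsι I ≫ a) ≫ cokernel.π (torsDesc J) = 0 := by
  refine eq_zero_of_stalk _ fun Ω _ _ ξ z => ?_
  rw [stalk_comp_apply, stalk_comp_apply]
  obtain ⟨y, hy⟩ := exists_torsι_eq J ξ _ (((EtCoh.stalk ξ).map a).hom.isOfFinAddOrder (isOfFinAddOrder_torsι I ξ z))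
  rw [← hy, ← stalk_comp_apply, torsι, kernel.condition, stalk_map_zero]

/-- The torsion part of a morphism. -/
def torsMap {J : EtCoh.Ab X} (a : I ⟶ J) : torsPart I ⟶ torsPart J :=
  kernel.lift _ (torsι I ≫ a) (torsι_comp_π_eq_zero a)

theorem torsMap_ι {J : EtCoh.Ab X} (a : I ⟶ J) : torsMap a ≫ torsι J = torsι I ≫ a := kernel.lift_ι _ _ _

/-- The kernels of the multiplications on the torsion part of an injective sheaf. -/
theorem exists_seq_torsPart [Injective I] {n : ℕ} (hn : 0 < n) :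
    ∃ (i : kernel (n • 𝟙 I : I ⟶ I) ⟶ torsPart I) (w : i ≫ (n • 𝟙 (torsPart I)) = 0),
      (ShortComplex.mk i (n • 𝟙 (torsPart I)) w).ShortExact := by
  obtain ⟨m, rfl⟩ := Nat.exists_eq_succ_of_ne_zero hn.ne'
  have h0 : kernel.ι ((m + 1) • 𝟙 I : I ⟶ I) ≫ cokernel.π (torsDesc I) = 0 := by
    rw [show kernel.ι ((m + 1) • 𝟙 I : I ⟶ I) = Sigma.ι _ m ≫ torsDesc I from
      (Sigma.ι_desc (fun j => kernel.ι ((j + 1) • 𝟙 I : I ⟶ I)) m).symm, Category.assoc, cokernel.condition,
      comp_zero]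
  let i : kernel ((m + 1) • 𝟙 I : I ⟶ I) ⟶ torsPart I := kernel.lift _ _ h0
  have hi : i ≫ torsι I = kernel.ι ((m + 1) • 𝟙 I : I ⟶ I) := kernel.lift_ι _ _ _
  have hw : i ≫ ((m + 1) • 𝟙 (torsPart I)) = 0 := by
    rw [← cancel_mono (torsι I), zero_comp, Category.assoc, Preadditive.nsmul_comp, Category.id_comp,
      ← Category.comp_id (torsι I), ← Preadditive.comp_nsmul, ← Category.assoc, hi, kernel.condition]
  haveI : Mono i := mono_of_mono_fac hi
  refine ⟨i, hw, ?_⟩
  haveI : Epi ((m + 1) • 𝟙 (torsPart I)) := (EtPtsLib.epi_iff_ab _).2 fun Ω _ _ ξ z => by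
    obtain ⟨x, hx⟩ := (EtPtsLib.epi_iff_ab ((m + 1) • 𝟙 I : I ⟶ I)).1 (epi_nsmul_injective I hn) Ω ξ
      ((EtCoh.stalk ξ).map (torsι I) z)
    rw [stalk_nsmul_id] at hx
    obtain ⟨k, hk, hk0⟩ := isOfFinAddOrder_iff_nsmul_eq_zero.1 (isOfFinAddOrder_torsι I ξ z)
    obtain ⟨z', hz'⟩ := exists_torsι_eq I ξ x (isOfFinAddOrder_iff_nsmul_eq_zero.2 ⟨k * (m + 1),
      Nat.mul_pos hk hn, by rw [mul_nsmul', hx]; exact hk0⟩)
    refine ⟨z', injective_stalk_torsι I ξ ?_⟩
    rw [stalk_nsmul_id, map_nsmul, hz', hx]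
  refine { exact := ?_ }
  refine ShortComplex.exact_of_f_is_kernel _ (KernelFork.IsLimit.ofι' i hw fun {W} k hk => ?_)
  have hk' : (k ≫ torsι I) ≫ ((m + 1) • 𝟙 I : I ⟶ I) = 0 := by
    rw [Preadditive.comp_nsmul, Category.comp_id, ← Preadditive.nsmul_comp, ← Category.comp_id k,
      ← Preadditive.comp_nsmul, hk, zero_comp]
  refine ⟨kernel.lift _ (k ≫ torsι I) hk', ?_⟩
  rw [← cancel_mono (torsι I), Category.assoc, hi, kernel.lift_ι]

/-- Multiplications are bijective on the quotient of an injective sheaf by its torsion part. -/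
theorem isIso_nsmul_cokernel [Injective I] {n : ℕ} (hn : 0 < n) : IsIso (n • 𝟙 (cokernel (torsι I))) := by
  haveI := epi_nsmul_injective I hn
  haveI : Epi (n • 𝟙 (cokernel (torsι I))) := by
    haveI : Epi (cokernel.π (torsι I) ≫ (n • 𝟙 (cokernel (torsι I)))) := by
      rw [Preadditive.comp_nsmul, Category.comp_id, ← Category.id_comp (cokernel.π (torsι I)),
        ← Preadditive.nsmul_comp]
      exact epi_comp _ _
    exact epi_of_epi (cokernel.π (torsι I)) _
  haveI : Mono (n • 𝟙 (cokernel (torsι I))) := (EtPtsLib.mono_iff_ab _).2 fun Ω _ _ ξ => by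
    refine (injective_iff_map_eq_zero _).2 fun a ha => ?_
    obtain ⟨y, rfl⟩ := (EtPtsLib.epi_iff_ab (cokernel.π (torsι I))).1 inferInstance Ω ξ a
    rw [stalk_nsmul_id, ← map_nsmul] at ha
    obtain ⟨z, hz⟩ := (ShortComplex.ab_exact_iff _).1 ((EtPtsLib.exact_iff_ab
      (ShortComplex.mk (torsι I) _ (cokernel.condition (torsι I)))).1 (ShortComplex.exact_cokernel (torsι I)) Ω ξ)
      (n • y) ha
    obtain ⟨k, hk, hk0⟩ := isOfFinAddOrder_iff_nsmul_eq_zero.1 (isOfFinAddOrder_torsι I ξ z)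
    obtain ⟨z', rfl⟩ := exists_torsι_eq I ξ y (isOfFinAddOrder_iff_nsmul_eq_zero.2 ⟨k * n, Nat.mul_pos hk hn, by
      rw [mul_nsmul', ← hz]; exact hk0⟩)
    rw [← stalk_comp_apply, cokernel.condition, stalk_map_zero]
  exact isIso_of_mono_of_epi _

/-- The torsion part of a complex. -/
def torsComplex (C : CochainComplex (EtCoh.Ab X) ℤ) : CochainComplex (EtCoh.Ab X) ℤ where
  X i := torsPart (C.X i)
  d i j := torsMap (C.d i j)
  shape i j h := by rw [← cancel_mono (torsι (C.X j)), torsMap_ι, C.shape i j h, comp_zero, zero_comp]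
  d_comp_d' i j k _ _ := by
    rw [← cancel_mono (torsι (C.X k)), Category.assoc, torsMap_ι, ← Category.assoc, torsMap_ι, Category.assoc,
      C.d_comp_d, comp_zero, zero_comp]

/-- The inclusion of the torsion part of a complex. -/
def torsComplexι (C : CochainComplex (EtCoh.Ab X) ℤ) : torsComplex C ⟶ C where
  f i := torsι (C.X i)
  comm' i j _ := (torsMap_ι (C.d i j)).symm

/-- A complex of injectives with torsion cohomology is quasi-isomorphic to its torsion part. -/
theorem quasiIso_torsComplexι (C : CochainComplex (EtCoh.Ab X) ℤ) [∀ i, Injective (C.X i)]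
    (hC : ∀ i, EtCoh.IsTorsion (C.homology i)) : QuasiIso (torsComplexι C) := by
  let ι := torsComplexι C
  haveI : ∀ i, Mono (ι.f i) := fun i => inferInstanceAs (Mono (torsι (C.X i)))
  haveI : Mono ι := HomologicalComplex.mono_of_mono_f ι inferInstance
  let S : ShortComplex (CochainComplex (EtCoh.Ab X) ℤ) := ShortComplex.mk ι (cokernel.π ι) (cokernel.condition ι)
  have hS : S.ShortExact := { exact := ShortComplex.exact_cokernel ι }
  have hT : ∀ i, EtCoh.IsTorsion ((torsComplex C).homology i) := fun i =>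
    isTorsion_of_epi ((torsComplex C).homologyπ i)
      (isTorsion_of_mono ((torsComplex C).iCycles i) (isTorsion_torsPart (C.X i)))
  have hQX : ∀ (n : ℕ), 0 < n → ∀ i, IsIso (n • 𝟙 (S.X₃.X i)) := fun n hn i => by
    let e : cokernel (torsι (C.X i)) ≅ S.X₃.X i :=
      ((PreservesCokernel.iso (HomologicalComplex.eval (EtCoh.Ab X) (ComplexShape.up ℤ) i) ι)).symm
    haveI := isIso_nsmul_cokernel (I := C.X i) hn
    have : n • 𝟙 (S.X₃.X i) = e.inv ≫ (n • 𝟙 (cokernel (torsι (C.X i)))) ≫ e.hom := by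
      simp [Preadditive.comp_nsmul, Preadditive.nsmul_comp]
    rw [this]
    infer_instance
  have hQ : ∀ i, IsZero (S.X₃.homology i) := fun i => by
    refine isZero_of_torsion_of_mono_nsmul
      (isTorsion_of_exact _ (hS.homology_exact₃ i (i + 1) rfl) (hC i) (hT (i + 1))) fun n hn => ?_
    haveI : ∀ j, IsIso ((n • 𝟙 S.X₃ : S.X₃ ⟶ S.X₃).f j) := fun j => by
      rw [show (n • 𝟙 S.X₃ : S.X₃ ⟶ S.X₃).f j = n • 𝟙 (S.X₃.X j) by simp]
      exact hQX n hn j
    haveI : IsIso (n • 𝟙 S.X₃ : S.X₃ ⟶ S.X₃) := HomologicalComplex.Hom.isIso_of_components _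
    have e : HomologicalComplex.homologyMap (n • 𝟙 S.X₃ : S.X₃ ⟶ S.X₃) i = n • 𝟙 (S.X₃.homology i) := by
      show (HomologicalComplex.homologyFunctor (EtCoh.Ab X) (ComplexShape.up ℤ) i).map _ = _
      rw [Functor.map_nsmul, CategoryTheory.Functor.map_id]
      rfl
    rw [← e]
    infer_instance
  refine ⟨fun i => ?_⟩
  rw [quasiIsoAt_iff_isIso_homologyMap]
  haveI : Mono (HomologicalComplex.homologyMap ι i) :=
    (hS.homology_exact₁ (i - 1) i (by simp)).mono_g ((hQ (i - 1)).eq_of_src _ _)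
  haveI : Epi (HomologicalComplex.homologyMap ι i) :=
    (hS.homology_exact₂ i).epi_f ((hQ i).eq_of_tgt _ _)
  exact isIso_of_mono_of_epi _

end TorsPart

/-- Bounded below complexes of acyclic sheaves compute the derived direct image. -/
theorem isIso_unitR_of_acyclic {X S : Scheme.{u}} (f : X ⟶ S) [DCoh.HasRpushEt X f]
    (C : CochainComplex (EtCoh.Ab X) ℤ) (a : ℤ) [C.IsStrictlyGE a]
    (hac : ∀ (n : ℤ) (p : ℕ), IsZero ((EtCoh.Rpush f (p + 1)).obj (C.X n))) :
    IsIso ((BCDLib.unitR f).app ((HomotopyCategory.quotient _ (ComplexShape.up ℤ)).obj C)) := by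
  obtain ⟨J, i, hi, hJ, hJa⟩ := CochainComplex.Plus.modelCategoryQuillen.exists_quasiIso_injective C a
  haveI := hi
  haveI := hJa
  haveI : ∀ n, Injective (J.X n) := hJ
  haveI := CochainComplex.isKInjective_of_injective J a
  haveI h1 : QuasiIso (((EtCoh.push f).mapHomologicalComplex (ComplexShape.up ℤ)).map i) :=
    SpSeqLib.quasiIso_map _ i a hac fun n => SpSeqLib.isAcyclicFor_of_injective _ _
  let q := HomotopyCategory.quotient (EtCoh.Ab X) (ComplexShape.up ℤ)
  haveI h2 : IsIso ((DCoh.pushEtKh X f).map (q.map i)) := by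
    show IsIso (DerivedCategory.Qh.map (((EtCoh.push f).mapHomotopyCategory _).map (q.map i)))
    rw [DerivedCategory.isIso_Qh_map_iff]
    exact (HomotopyCategory.quotient_map_mem_quasiIso_iff (((EtCoh.push f).mapHomologicalComplex _).map i)).2 h1
  haveI h3 := BCDLib.isIso_unitR f J
  haveI h4 : IsIso ((DerivedCategory.Qh ⋙ DCoh.RpushEt X f).map (q.map i)) := by
    haveI : IsIso (DerivedCategory.Qh.map (q.map i)) := by
      rw [DerivedCategory.isIso_Qh_map_iff]
      exact (HomotopyCategory.quotient_map_mem_quasiIso_iff i).2 hi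
    exact inferInstanceAs (IsIso ((DCoh.RpushEt X f).map (DerivedCategory.Qh.map (q.map i))))
  have nat := (BCDLib.unitR f).naturality (q.map i)
  haveI : IsIso ((BCDLib.unitR f).app (q.obj C) ≫ (DerivedCategory.Qh ⋙ DCoh.RpushEt X f).map (q.map i)) := by
    rw [← nat]
    infer_instance
  exact IsIso.of_isIso_comp_right _ ((DerivedCategory.Qh ⋙ DCoh.RpushEt X f).map (q.map i))

/-- **Proper base change for bounded below complexes with torsion cohomology.** -/
theorem isIso_bcMap_of_torsion {X S X' S' : Scheme.{u}} (f : X ⟶ S) (g : S' ⟶ S) (f' : X' ⟶ S') (g' : X' ⟶ X)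
    (h : IsPullback g' f' f g) [IsProper f] (hbc : BCAll f)
    [PreservesFiniteLimits (EtCoh.pull g)] [PreservesFiniteLimits (EtCoh.pull g')]
    [DCoh.HasRpushEt X f] [DCoh.HasRpushEt X' f'] [DCoh.HasRpushEt S' g]
    (adj : EtBC.pullD g ⊣ DCoh.RpushEt S' g) (E : DCoh.DEt X) (n : ℤ) [E.IsGE n]
    (hE : ∀ i : ℤ, EtCoh.IsTorsion (DCoh.HDEt E i)) :
    IsIso (EtBC.bcMap f g f' g' h.w adj E) := by
  obtain ⟨L, hL, ⟨eL⟩⟩ := DerivedCategory.exists_iso_Q_obj_of_isGE E n
  haveI := hL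
  obtain ⟨C, i, hi, hJ, hCn⟩ := CochainComplex.Plus.modelCategoryQuillen.exists_quasiIso_injective L n
  haveI := hi
  haveI := hCn
  haveI : ∀ j, Injective (C.X j) := hJ
  let eC : DerivedCategory.Q.obj C ≅ E := (asIso (DerivedCategory.Q.map i)).symm ≪≫ eL.symm
  have hC : ∀ j, EtCoh.IsTorsion (C.homology j) := fun j =>
    isTorsion_of_epi ((DerivedCategory.homologyFunctor _ j).map eC.inv ≫
      (DerivedCategory.homologyFunctorFactors _ j).hom.app C) (hE j)
  let T := torsComplex C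
  haveI := quasiIso_torsComplexι C hC
  haveI hTn : T.IsStrictlyGE n := (CochainComplex.isStrictlyGE_iff T n).2 fun j hj =>
    IsZero.of_mono (torsι (C.X j)) (CochainComplex.isZero_of_isStrictlyGE C n j hj)
  haveI : CochainComplex.IsStrictlyGE (((EtCoh.pull g').mapHomologicalComplex (ComplexShape.up ℤ)).obj T) n :=
    (CochainComplex.isStrictlyGE_iff _ n).2 fun j hj =>
      (EtCoh.pull g').map_isZero (CochainComplex.isZero_of_isStrictlyGE T n j hj)
  have hac : ∀ (j : ℤ) (p : ℕ), IsZero ((EtCoh.Rpush f (p + 1)).obj (T.X j)) := fun j p =>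
    isZero_Rpush_of_divisible f (isTorsion_torsPart (C.X j)) (p + 1) fun m hm => by
      obtain ⟨k, hw, hS⟩ := exists_seq_torsPart (I := C.X j) hm
      exact ⟨_, k, hw, hS, BCVertLib.isZero_Rpush_kernel_nsmul f (C.X j) hm p⟩
  have hac' : ∀ (j : ℤ) (p : ℕ), IsZero ((EtCoh.Rpush f' (p + 1)).obj ((EtCoh.pull g').obj (T.X j))) := fun j p => by
    haveI := hbc g f' g' h (T.X j) (isTorsion_torsPart (C.X j)) (p + 1)
    haveI : (EtCoh.pull g).Additive := (EtCoh.pullPushAdj g).left_adjoint_additive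
    exact ((EtCoh.pull g).map_isZero (hac j p)).of_iso (asIso (EtBC.bcQ f g f' g' h.w (p + 1) (T.X j))).symm
  let K := (HomotopyCategory.quotient _ (ComplexShape.up ℤ)).obj T
  let e : DerivedCategory.Qh.obj K ≅ E :=
    (DerivedCategory.quotientCompQhIso _).app T ≪≫ asIso (DerivedCategory.Q.map (torsComplexι C)) ≪≫ eC
  obtain ⟨a', ha'⟩ := BCDLib.exists_adj f g f' g' h.w
  rw [BCDLib.isIso_bcMap_congr f g f' g' h.w adj a' e.symm]
  haveI := isIso_unitR_of_acyclic f T n hac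
  haveI := isIso_unitR_of_acyclic f' (((EtCoh.pull g').mapHomologicalComplex (ComplexShape.up ℤ)).obj T) n hac'
  let ψ := (NatTrans.mapHomologicalComplex (BCDLib.bc0N f g f' g' h.w) (ComplexShape.up ℤ)).app T
  haveI : ∀ j, IsIso (ψ.f j) := fun j => StrictLocLib.isIso_baseChange0_proper f g f' g' h (T.X j)
  haveI : IsIso ψ := HomologicalComplex.Hom.isIso_of_components ψ
  haveI : IsIso (BCDLib.bc0H f g f' g' h.w K) :=
    inferInstanceAs (IsIso ((HomotopyCategory.quotient _ (ComplexShape.up ℤ)).map ψ))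
  haveI : IsIso ((BCDLib.unitR f').app ((BCDLib.pullH g').obj K)) :=
    inferInstanceAs (IsIso ((BCDLib.unitR f').app ((HomotopyCategory.quotient _ (ComplexShape.up ℤ)).obj
      (((EtCoh.pull g').mapHomologicalComplex (ComplexShape.up ℤ)).obj T))))
  haveI : IsIso (BCDLib.θ f g f' g' h.w K) := IsIso.comp_isIso
  rw [← isIso_comp_left_iff ((EtBC.pullD g).map ((BCDLib.unitR f).app K)), ha' K]
  infer_instance

end Groth.Agent.PBCLib

namespace Groth.Agent.PBCLib

attribute [local instance] Groth.Agent.S0101.result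

/-- **Proper base change for a torsion sheaf, derived form.** -/
theorem isIso_bcMap_single {X S X' S' : Scheme.{u}} (f : X ⟶ S) (g : S' ⟶ S) (f' : X' ⟶ S') (g' : X' ⟶ X)
    (h : IsPullback g' f' f g) [IsProper f] (hbc : BCAll f)
    [PreservesFiniteLimits (EtCoh.pull g)] [PreservesFiniteLimits (EtCoh.pull g')]
    [DCoh.HasRpushEt X f] [DCoh.HasRpushEt X' f'] [DCoh.HasRpushEt S' g]
    (adj : EtBC.pullD g ⊣ DCoh.RpushEt S' g) (F : EtCoh.Ab X) (hF : EtCoh.IsTorsion F) :
    IsIso (EtBC.bcMap f g f' g' h.w adj (EtBC.single X F)) := by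
  haveI : DerivedCategory.IsGE (EtBC.single X F) 0 :=
    inferInstanceAs (DerivedCategory.IsGE ((DerivedCategory.singleFunctor (EtCoh.Ab X) 0).obj F) 0)
  refine isIso_bcMap_of_torsion f g f' g' h hbc adj _ 0 fun i => ?_
  rcases eq_or_ne i 0 with rfl | hi
  · exact isTorsion_of_epi ((DerivedCategory.singleFunctorCompHomologyFunctorIso (EtCoh.Ab X) 0).inv.app F) hF
  · have hz : IsZero (DCoh.HDEt (EtBC.single X F) i) := by
      haveI : DerivedCategory.IsLE (EtBC.single X F) 0 :=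
        inferInstanceAs (DerivedCategory.IsLE ((DerivedCategory.singleFunctor (EtCoh.Ab X) 0).obj F) 0)
      rcases lt_or_gt_of_ne hi with hi | hi
      · exact DerivedCategory.isZero_of_isGE _ 0 i hi
      · exact DerivedCategory.isZero_of_isLE _ 0 i hi
    haveI : Mono (0 : DCoh.HDEt (EtBC.single X F) i ⟶ F) := ⟨fun a b _ => hz.eq_of_tgt a b⟩
    exact isTorsion_of_mono (0 : DCoh.HDEt (EtBC.single X F) i ⟶ F) hF

end Groth.Agent.PBCLib
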