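import Groth.Agent.PBCLib.Defs
import Groth.Agent.AICVanishLib.Local
import Mathlib.AlgebraicGeometry.FunctionField
import Mathlib.AlgebraicGeometry.Normalization

/-!
# Absolutely integrally closed integral schemes

Local rings, residue fields, sections over opens, and relative normalizations.
-/

set_option autoImplicit false
set_option backward.isDefEq.respectTransparency false
set_option linter.style.haveILetI false

universe u

open CategoryTheory CategoryTheory.Limits AlgebraicGeometry Opposite Polynomial TopologicalSpace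

noncomputable section

namespace Groth.Agent.PBCLib

open AICCover (MonicRoot)

/-- A monic polynomial over an integrally-rooted domain has its roots in that domain. -/
theorem monicRoot_integralClosure {A B : Type u} [CommRing A] [CommRing B] [Algebra A B] (h : MonicRoot B) :
    MonicRoot (integralClosure A B) := by
  intro p hp hdeg
  rcases subsingleton_or_nontrivial B with _ | _
  · exact ⟨0, Subtype.ext (Subsingleton.elim _ _)⟩
  obtain ⟨z, hz⟩ := h (p.map (algebraMap (integralClosure A B) B)) (hp.map _) (by rwa [hp.natDegree_map])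
  have hz' : eval₂ (algebraMap (integralClosure A B) B) z p = 0 := by rwa [Polynomial.IsRoot, Polynomial.eval_map] at hz
  refine ⟨⟨z, isIntegral_trans z ⟨p, hp, hz'⟩⟩, Subtype.ext ?_⟩
  exact (eval₂_at_apply (algebraMap (integralClosure A B) B) ⟨z, isIntegral_trans z ⟨p, hp, hz'⟩⟩).symm.trans hz'

theorem monicRoot_of_ringEquiv {A B : Type u} [CommRing A] [CommRing B] (e : A ≃+* B) (h : MonicRoot A) :
    MonicRoot B :=
  AICVanishLib.monicRoot_of_surjective e.toRingHom e.surjective h

namespace IsAICScheme

variable {X : Scheme.{u}} (hX : IsAICScheme X)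

include hX

theorem isStrictlyHenselian_stalk (x : X) : EtCoh.IsStrictlyHenselianLocalRing (X.presheaf.stalk x) :=
  AICVanishLib.isStrictlyHenselian_of_monicRoot (hX.monicRoot x)

theorem isAlgClosed_residueField (x : X) : IsAlgClosed (X.residueField x) :=
  (AICVanishLib.monicRoot_of_surjective (IsLocalRing.residue (X.presheaf.stalk x))
    IsLocalRing.residue_surjective (hX.monicRoot x)).isAlgClosed

theorem isAlgClosed_functionField : letI := hX.isIntegral; IsAlgClosed X.functionField := by
  letI := hX.isIntegral
  exact MonicRoot.isAlgClosed (k := X.functionField) (hX.monicRoot (genericPoint X))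

theorem isIntegrallyClosed_stalk (x : X) : letI := hX.isIntegral; IsIntegrallyClosed (X.presheaf.stalk x) := by
  letI := hX.isIntegral
  exact (isIntegrallyClosed_iff X.functionField).2 fun {z} hz => (hX.monicRoot x).mem_range hz

/-- Monic polynomials split over the sections on any open. -/
theorem monicRoot_sections (V : X.Opens) : MonicRoot Γ(X, V) := by
  letI := hX.isIntegral
  intro p hp hdeg
  rcases isEmpty_or_nonempty V with hV | hV
  · have : V = ⊥ := by
      ext x
      exact ⟨fun hx => (hV.false ⟨x, hx⟩).elim, fun h => h.elim⟩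
    subst this
    exact ⟨0, Subsingleton.elim _ _⟩
  haveI := hX.isAlgClosed_functionField
  obtain ⟨z, hz⟩ := IsAlgClosed.exists_root (p.map (X.germToFunctionField V).hom) (by
    rw [degree_eq_natDegree (hp.map _).ne_zero, hp.natDegree_map, Ne, Nat.cast_eq_zero]; omega)
  rw [Polynomial.IsRoot, Polynomial.eval_map] at hz
  have hloc : ∀ x : V, ∃ (W : X.Opens) (_ : x.1 ∈ W) (_ : W ≤ V) (_ : Nonempty W) (t : Γ(X, W)),
      X.germToFunctionField W t = z := fun x => by
    have hint : IsIntegral (X.presheaf.stalk x.1) z := by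
      refine ⟨p.map (X.presheaf.germ V x.1 x.2).hom, hp.map _, ?_⟩
      rw [Polynomial.eval₂_map]
      have he : (algebraMap (X.presheaf.stalk x.1) X.functionField).comp (X.presheaf.germ V x.1 x.2).hom =
          (X.germToFunctionField V).hom := RingHom.ext fun a => X.algebraMap_germ_eq_germToFunctionField x.2 a
      rwa [he]
    obtain ⟨r, hr⟩ := (hX.monicRoot x.1).mem_range hint
    obtain ⟨W, hxW, t, rfl⟩ := X.presheaf.exists_germ_eq r
    haveI : Nonempty W := ⟨⟨x.1, hxW⟩⟩
    refine ⟨W ⊓ V, ⟨hxW, x.2⟩, inf_le_right, ⟨⟨x.1, hxW, x.2⟩⟩, X.presheaf.map (homOfLE inf_le_left).op t, ?_⟩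
    rw [← hr, X.algebraMap_germ_eq_germToFunctionField]
    exact X.presheaf.germ_res_apply (homOfLE inf_le_left) _ _ t
  choose W hxW hWV hne t ht using hloc
  have hcompat : TopCat.Presheaf.IsCompatible X.sheaf.obj W t := fun i j => by
    haveI := hne i
    haveI := hne j
    rcases isEmpty_or_nonempty (W i ⊓ W j : X.Opens).toScheme with hE | hN
    · have : W i ⊓ W j = ⊥ := by
        ext x
        exact ⟨fun hx => (hE.false ⟨x, hx⟩).elim, fun h => h.elim⟩
      exact (this ▸ (inferInstance : Subsingleton Γ(X, ⊥))).elim _ _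
    refine Scheme.germToFunctionField_injective X (W i ⊓ W j) ?_
    exact ((X.presheaf.germ_res_apply _ _ _ (t i)).trans (ht i)).trans
      ((X.presheaf.germ_res_apply _ _ _ (t j)).trans (ht j)).symm
  obtain ⟨s, hs, -⟩ := X.sheaf.existsUnique_gluing' W V (fun x => homOfLE (hWV x))
    (fun y hy => Opens.mem_iSup.2 ⟨⟨y, hy⟩, hxW ⟨y, hy⟩⟩) t hcompat
  refine ⟨s, Scheme.germToFunctionField_injective X V ?_⟩
  have hsz : X.germToFunctionField V s = z := by
    obtain ⟨x⟩ := hV
    haveI := hne x
    exact ((X.presheaf.germ_res_apply (homOfLE (hWV x)) _ _ s).symm.trans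
      (congrArg (X.germToFunctionField (W x)) (hs x))).trans (ht x)
  rw [map_zero, ← hz, ← hsz]
  exact (eval₂_at_apply (X.germToFunctionField V).hom s).symm

end IsAICScheme

theorem isAICScheme_spec_field (K : Type u) [Field K] [IsAlgClosed K] :
    IsAICScheme (Spec (CommRingCat.of K)) := by
  refine ⟨inferInstance, fun x => ?_⟩
  have hK : MonicRoot K := fun p hp hdeg => IsAlgClosed.exists_root p (by
    rw [degree_eq_natDegree hp.ne_zero, Ne, Nat.cast_eq_zero]; omega)
  haveI : IsLocalRing ((Spec.structureSheaf K).presheaf.stalk x) :=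
    (inferInstance : IsLocalRing ((Spec (CommRingCat.of K)).presheaf.stalk (show ↥(Spec (CommRingCat.of K)) from x)))
  exact hK.of_isLocalization (R := K) (S := (Spec.structureSheaf K).presheaf.stalk x)
    (show PrimeSpectrum K from x).asIdeal.primeCompl

theorem IsAICScheme.of_iso {X Y : Scheme.{u}} (e : X ≅ Y) (hX : IsAICScheme X) : IsAICScheme Y := by
  haveI := hX.isIntegral
  haveI : Nonempty Y := ⟨e.hom (Classical.arbitrary X)⟩
  refine ⟨isIntegral_of_isOpenImmersion e.inv, fun y => ?_⟩
  exact monicRoot_of_ringEquiv (asIso (e.inv.stalkMap y)).commRingCatIsoToRingEquiv (hX.monicRoot (e.inv y))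

/-- The relative normalization in an absolutely integrally closed integral scheme is one again. -/
theorem isAICScheme_normalization {X Y : Scheme.{u}} (h : X ⟶ Y) [QuasiCompact h] [QuasiSeparated h]
    (hX : IsAICScheme X) : IsAICScheme h.normalization := by
  haveI := hX.isIntegral
  refine ⟨inferInstance, fun z => ?_⟩
  obtain ⟨U, w, rfl⟩ := h.normalizationOpenCover.exists_eq z
  let j := h.normalizationOpenCover.f U
  refine monicRoot_of_ringEquiv (asIso (j.stalkMap w)).commRingCatIsoToRingEquiv.symm ?_
  letI := (h.app U.1).hom.toAlgebra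
  let C : CommRingCat.{u} := CommRingCat.of (integralClosure Γ(Y, U.1) Γ(X, h ⁻¹ᵁ U.1))
  have hC : MonicRoot C := monicRoot_integralClosure (hX.monicRoot_sections _)
  haveI : IsLocalRing ((Spec.structureSheaf C).presheaf.stalk w) :=
    (inferInstance : IsLocalRing ((Spec C).presheaf.stalk (show ↥(Spec C) from w)))
  exact hC.of_isLocalization (R := C) (S := (Spec.structureSheaf C).presheaf.stalk w)
    (show PrimeSpectrum C from w).asIdeal.primeCompl

end Groth.Agent.PBCLib
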