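import Groth.Agent.PBCLib.Defs
import Groth.Agent.BCLib.DVR

/-!
# Fibre powers of the projective line

Base change, coordinates, and the standard chart `T₀ ≠ 0` in one coordinate.
-/

set_option autoImplicit false
set_option backward.isDefEq.respectTransparency false
set_option linter.style.haveILetI false

universe u

open CategoryTheory CategoryTheory.Limits AlgebraicGeometry Opposite

noncomputable section

namespace Groth.Agent.PBCLib

/-- The projective line over the integers. -/
abbrev P1Z : Scheme.{u} := CohB1.ProjSpace 1 P1.R0.{u}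

namespace P1Pow

/-- Functoriality in the base. -/
def map : ∀ (N : ℕ) {T S : Scheme.{u}} (_ : T ⟶ S), P1Pow N T ⟶ P1Pow N S
  | 0, _, _, g => g
  | N + 1, _, _, g => P1.toP1 (map N g)

theorem toP1_fst {T S : Scheme.{u}} (g : T ⟶ S) :
    P1.toP1 g ≫ pullback.fst _ _ = pullback.fst _ _ :=
  (pullback.lift_fst _ _ _).trans (Category.comp_id _)

theorem toP1_toBase {T S : Scheme.{u}} (g : T ⟶ S) :
    P1.toP1 g ≫ CohB1.ProjSpaceOver.toBase 1 S = CohB1.ProjSpaceOver.toBase 1 T ≫ g :=
  pullback.lift_snd _ _ _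

theorem isPullback_toP1 {T S : Scheme.{u}} (g : T ⟶ S) :
    IsPullback (P1.toP1 g) (CohB1.ProjSpaceOver.toBase 1 T) (CohB1.ProjSpaceOver.toBase 1 S) g := by
  refine IsPullback.of_right ?_ (toP1_toBase g) (IsPullback.of_hasPullback _ _)
  have h : g ≫ specULiftZIsTerminal.from S = specULiftZIsTerminal.from T := specULiftZIsTerminal.hom_ext _ _
  rw [toP1_fst, h]
  exact IsPullback.of_hasPullback _ _

theorem isPullback_map : ∀ (N : ℕ) {T S : Scheme.{u}} (g : T ⟶ S),
    IsPullback (map N g) (toBase N T) (toBase N S) g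
  | 0, T, S, _ =>
    haveI : IsIso (toBase 0 T) := inferInstanceAs (IsIso (𝟙 T))
    haveI : IsIso (toBase 0 S) := inferInstanceAs (IsIso (𝟙 S))
    IsPullback.of_vert_isIso ⟨(Category.comp_id _).trans (Category.id_comp _).symm⟩
  | N + 1, _, _, g => (isPullback_toP1 (map N g)).paste_vert (isPullback_map N g)

theorem isProper_toBase : ∀ (N : ℕ) (S : Scheme.{u}), IsProper (toBase N S)
  | 0, S => inferInstanceAs (IsProper (𝟙 S))
  | N + 1, S => by
    haveI := isProper_toBase N S
    haveI := BCLib.isProper_toBase 1 (P1Pow N S)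
    exact inferInstanceAs (IsProper (CohB1.ProjSpaceOver.toBase 1 (P1Pow N S) ≫ toBase N S))

/-- The coordinates. -/
def proj : ∀ (N : ℕ) (S : Scheme.{u}), Fin N → (P1Pow N S ⟶ P1Z)
  | 0, _, i => i.elim0
  | N + 1, S, i => Fin.cases (pullback.fst _ _) (fun j => CohB1.ProjSpaceOver.toBase 1 (P1Pow N S) ≫ proj N S j) i

theorem map_proj : ∀ (N : ℕ) {T S : Scheme.{u}} (g : T ⟶ S) (i : Fin N), map N g ≫ proj N S i = proj N T i
  | 0, _, _, _, i => i.elim0
  | N + 1, _, _, g, i => by
    refine Fin.cases ?_ (fun j => ?_) i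
    · exact toP1_fst _
    · show P1.toP1 (map N g) ≫ CohB1.ProjSpaceOver.toBase 1 _ ≫ proj N _ j = _
      rw [reassoc_of% (toP1_toBase (map N g)), map_proj N g j]
      rfl

/-- A point with given coordinates. -/
theorem exists_mk : ∀ (N : ℕ) {T S : Scheme.{u}} (z : T ⟶ S) (a : Fin N → (T ⟶ P1Z)),
    ∃ p : T ⟶ P1Pow N S, p ≫ toBase N S = z ∧ ∀ i, p ≫ proj N S i = a i
  | 0, _, _, z, _ => ⟨z, Category.comp_id _, fun i => i.elim0⟩
  | N + 1, _, S, z, a => by
    obtain ⟨q, hq, hqa⟩ := exists_mk N z (fun j => a j.succ)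
    let p : _ ⟶ P1Pow (N + 1) S := pullback.lift (a 0) q (specULiftZIsTerminal.hom_ext _ _)
    have hp : p ≫ CohB1.ProjSpaceOver.toBase 1 (P1Pow N S) = q := pullback.lift_snd _ _ _
    refine ⟨p, ?_, fun i => ?_⟩
    · show p ≫ CohB1.ProjSpaceOver.toBase 1 _ ≫ toBase N S = z
      rw [reassoc_of% hp, hq]
    · refine Fin.cases ?_ (fun j => ?_) i
      · exact pullback.lift_fst _ _ _
      · show p ≫ CohB1.ProjSpaceOver.toBase 1 _ ≫ proj N S j = _
        rw [reassoc_of% hp, hqa j]

end P1Pow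

/-- The ring of the chart `T₀ ≠ 0`. -/
abbrev ChartRing : Type u := HomogeneousLocalization.Away P1.grading.{u} (P1.T 0)

/-- The chart `T₀ ≠ 0`. -/
abbrev chartι : Spec (CommRingCat.of ChartRing.{u}) ⟶ P1Z.{u} :=
  Proj.awayι P1.grading (P1.T 0) (P1.X_mem 0) one_pos

/-- The coordinate `T₁/T₀`. -/
def chartCoord : ChartRing.{u} :=
  HomogeneousLocalization.Away.mk P1.grading (P1.X_mem 0) 1 (P1.T 1) (by rw [smul_eq_mul, one_mul]; exact P1.X_mem 1)

theorem chartMap_chartCoord (B : Type u) [CommRing B] (b : B) : P1.chartMap 0 B b chartCoord = b := by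
  rw [P1.chartMap, RingHom.comp_apply]
  show IsLocalization.Away.lift _ _ (chartCoord.val) = b
  rw [chartCoord, HomogeneousLocalization.Away.val_mk, Localization.mk_eq_mk', IsLocalization.Away.lift,
    IsLocalization.lift_mk'_spec]
  simp [P1.T]

theorem comp_chartMap {B B' : Type u} [CommRing B] [CommRing B'] (φ : B →+* B') (b : B) :
    φ.comp (P1.chartMap 0 B b) = P1.chartMap 0 B' (φ b) := by
  rw [P1.chartMap, P1.chartMap, ← RingHom.comp_assoc]
  congr 1
  refine IsLocalization.ringHom_ext (Submonoid.powers (P1.T.{u} 0)) ?_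
  rw [RingHom.comp_assoc, IsLocalization.Away.lift, IsLocalization.Away.lift, IsLocalization.lift_comp,
    IsLocalization.lift_comp]
  refine MvPolynomial.ringHom_ext (fun r => ?_) fun i => ?_
  · simp
  · fin_cases i <;> simp

/-- The point of the chart with a given coordinate. -/
def coordSpec (B : Type u) [CommRing B] (b : B) : Spec (CommRingCat.of B) ⟶ P1Z.{u} :=
  Spec.map (CommRingCat.ofHom (P1.chartMap 0 B b)) ≫ chartι

theorem specMap_coordSpec {B B' : Type u} [CommRing B] [CommRing B'] (φ : B →+* B') (b : B) :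
    Spec.map (CommRingCat.ofHom φ) ≫ coordSpec B b = coordSpec B' (φ b) := by
  rw [coordSpec, coordSpec, ← Spec.map_comp_assoc, ← CommRingCat.ofHom_comp, comp_chartMap]

end Groth.Agent.PBCLib
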