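import Groth.Agent.ZarEtLib.Basic
import Groth.Agent.CohColim.Transfer
import Groth.Prelude.Def_CohTop

/-!
# Étale cohomology of schemes with strictly henselian local rings as cohomology of spaces

For such a scheme the small etale site has the same sheaves as the underlying space.
-/

set_option autoImplicit false
set_option linter.style.haveILetI false
set_option backward.isDefEq.respectTransparency false
set_option backward.isDefEq.respectTransparency.types false

universe w v u v' u'

open CategoryTheory CategoryTheory.Limits AlgebraicGeometry Opposite TopologicalSpace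

noncomputable section

namespace Groth.Agent.PBCLib

section Transfer

variable {C : Type u} [Category.{v} C] {D : Type u'} [Category.{v'} D]
  {J : GrothendieckTopology C} {K : GrothendieckTopology D}
  [HasSheafify J AddCommGrpCat.{w}] [HasSheafify K AddCommGrpCat.{w}]
  (R : Sheaf J AddCommGrpCat.{w} ⥤ Sheaf K AddCommGrpCat.{w}) [R.IsEquivalence]

/-- An equivalence compatible with global sections preserves constant sheaves. -/
def constIso {gJ : Sheaf J AddCommGrpCat.{w} ⥤ AddCommGrpCat.{w}} {gK : Sheaf K AddCommGrpCat.{w} ⥤ AddCommGrpCat.{w}}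
    (aJ : constantSheaf J AddCommGrpCat.{w} ⊣ gJ) (aK : constantSheaf K AddCommGrpCat.{w} ⊣ gK)
    (α : R ⋙ gK ≅ gJ) :
    constantSheaf J AddCommGrpCat.{w} ⋙ R ≅ constantSheaf K AddCommGrpCat.{w} :=
  Adjunction.leftAdjointUniq ((aJ.comp R.asEquivalence.toAdjunction).ofNatIsoRight
    (Functor.isoWhiskerLeft R.asEquivalence.inverse α.symm ≪≫ (Functor.associator _ _ _).symm ≪≫
      Functor.isoWhiskerRight R.asEquivalence.counitIso gK ≪≫ gK.leftUnitor)) aK

/-- An equivalence preserving constant sheaves preserves cohomology. -/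
theorem nonempty_sheafH_equiv [HasExt.{w} (Sheaf J AddCommGrpCat.{w})] [HasExt.{w} (Sheaf K AddCommGrpCat.{w})]
    (c : constantSheaf J AddCommGrpCat.{w} ⋙ R ≅ constantSheaf K AddCommGrpCat.{w})
    (F : Sheaf J AddCommGrpCat.{w}) (i : ℕ) :
    Nonempty (Sheaf.H.{w} F i ≃+ Sheaf.H.{w} (R.obj F) i) := by
  haveI : R.Additive := Functor.additive_of_preserves_binary_products R
  let cZ := c.app (AddCommGrpCat.of (ULift.{w} ℤ))
  let φ : Sheaf.H.{w} F i →+ Sheaf.H.{w} (R.obj F) i :=
    AddMonoidHom.comp
      (AddMonoidHom.mk' (fun x => (Abelian.Ext.mk₀ cZ.inv).comp x (zero_add i))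
        (fun _ _ => Abelian.Ext.comp_add _ _ _ _))
      (R.mapExtAddHom _ _ i)
  refine ⟨AddEquiv.ofBijective φ ?_⟩
  show Function.Bijective ((fun x => (Abelian.Ext.mk₀ cZ.inv).comp x (zero_add i)) ∘ R.mapExtAddHom _ _ i)
  refine Function.Bijective.comp ?_ (CohColim.bijective_mapExt_of_isEquivalence R _ _ i)
  refine Function.bijective_iff_has_inverse.2
    ⟨fun x => (Abelian.Ext.mk₀ cZ.hom).comp x (zero_add i), fun x => ?_, fun x => ?_⟩
  · simp
  · simp

end Transfer

variable (X : Scheme.{u})

/-- The underlying space of a scheme, one universe up. -/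
abbrev topU : TopCat.{u + 1} := TopCat.of (ULift.{u + 1} X)

/-- Opens of the lifted space as opens of the scheme. -/
abbrev opensFun : Opens (topU X) ⥤ X.Opens :=
  (Homeomorph.ulift.{u + 1, u} (X := X)).opensCongr.equivalence.functor

instance isDenseSubsite_opensFun :
    (opensFun X).IsDenseSubsite (Opens.grothendieckTopology (topU X)) (Opens.grothendieckTopology X) where
  isCoverDense' := ⟨fun U => fun x hx =>
    ⟨U, 𝟙 U, ⟨⟨(Homeomorph.ulift.{u + 1, u} (X := X)).opensCongr.symm U,
      eqToHom ((Homeomorph.ulift.{u + 1, u} (X := X)).opensCongr.apply_symm_apply U).symm,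
      eqToHom ((Homeomorph.ulift.{u + 1, u} (X := X)).opensCongr.apply_symm_apply U), by simp⟩⟩, hx⟩⟩
  functorPushforward_mem_iff {V R} := by
    constructor
    · intro h x hx
      obtain ⟨W, g, ⟨V', k, a, hk, -⟩, hxW⟩ := h x.down hx
      exact ⟨V', k, hk, leOfHom a hxW⟩
    · intro h x hx
      obtain ⟨W, k, hk, hxW⟩ := h ⟨x⟩ hx
      exact ⟨(opensFun X).obj W, (opensFun X).map k, Sieve.image_mem_functorPushforward _ _ hk, hxW⟩

/-- Abelian sheaves on the scheme as sheaves on the lifted space. -/
abbrev toTop : EtZar.Ab X ⥤ CohTop.Ab (topU X) :=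
  (opensFun X).sheafPushforwardContinuous AddCommGrpCat.{u + 1}
    (Opens.grothendieckTopology (topU X)) (Opens.grothendieckTopology X)

theorem isEquivalence_toTop : (toTop X).IsEquivalence := by
  haveI : ∀ U : X.Opens, HasLimitsOfShape (StructuredArrow (op U) (opensFun X).op) AddCommGrpCat.{u + 1} :=
    fun U => inferInstance
  infer_instance

variable {X} in
theorem zarCont (hS : ∀ s : X, EtCoh.IsStrictlyHenselianLocalRing (X.presheaf.stalk s)) : EtZar.ZarCont X :=
  haveI := ZarEtLib.isDenseSubsite hS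
  inferInstance

variable {X} in
/-- The passage to the space is an equivalence which preserves cohomology and constant sheaves. -/
theorem exists_toTop (hS : ∀ s : X, EtCoh.IsStrictlyHenselianLocalRing (X.presheaf.stalk s)) :
    ∃ R : EtCoh.Ab X ⥤ CohTop.Ab (topU X),
      (∀ F i, Nonempty (EtCoh.H X F i ≃+ CohTop.H (R.obj F) i)) ∧
      ∀ (M : Type) [AddCommGroup M],
        Nonempty (R.obj (EtCoh.const X M) ≅ CohTop.const (topU X) (ULift.{u + 1} M)) := by
  haveI := zarCont hS
  haveI := ZarEtLib.isEquivalence_resZar hS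
  haveI := isEquivalence_toTop X
  let R := EtZar.resZar X ⋙ toTop X
  let gz : CohTop.Ab (topU X) ⥤ AddCommGrpCat.{u + 1} :=
    (sheafSections (Opens.grothendieckTopology (topU X)) AddCommGrpCat.{u + 1}).obj (op ⊤)
  let az : constantSheaf (Opens.grothendieckTopology (topU X)) AddCommGrpCat.{u + 1} ⊣ gz :=
    constantSheafAdj (Opens.grothendieckTopology (topU X)) AddCommGrpCat.{u + 1} (T := ⊤) isTerminalTop
  let e : (opensFun X ⋙ EtZar.zarToEt X).obj ⊤ ≅ EtCoh.top X :=
    (EtZar.zarToEt X).mapIso (eqToIso (map_top (Homeomorph.ulift.{u + 1, u} (X := X)).opensCongr)) ≪≫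
      ZarEtLib.topIso
  let α : R ⋙ gz ≅ EtCore.gsec X :=
    NatIso.ofComponents (fun G => G.obj.mapIso e.op.symm) (fun {G G'} φ => (φ.hom.naturality _).symm)
  let c := constIso R (EtCore.constAdj X) az α
  exact ⟨R, fun F i => nonempty_sheafH_equiv R c F i,
    fun M _ => ⟨c.app (AddCommGrpCat.of (ULift.{u + 1} M))⟩⟩

variable {X} in
/-- A property of the cohomology of sheaves on the space gives it for the étale site. -/
theorem subsingleton_H_const (hS : ∀ s : X, EtCoh.IsStrictlyHenselianLocalRing (X.presheaf.stalk s))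
    (M : Type) [AddCommGroup M] (q : ℕ)
    (h : Subsingleton (CohTop.H (CohTop.const (topU X) (ULift.{u + 1} M)) q)) :
    Subsingleton (EtCoh.H X (EtCoh.const X M) q) := by
  obtain ⟨R, h1, h2⟩ := exists_toTop hS
  obtain ⟨e⟩ := h1 (EtCoh.const X M) q
  obtain ⟨c⟩ := h2 M
  have hc : Function.Injective (Sheaf.H.map c.hom q) := fun a b hab => by
    simpa [← Sheaf.H.map_comp_apply, Sheaf.H.map_id_apply] using congrArg (Sheaf.H.map c.inv q) hab
  haveI := h
  exact (hc.comp e.injective).subsingleton

end Groth.Agent.PBCLib
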