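import Groth.Agent.PBCLib.AIC
import Groth.Agent.PBCLib.ZarTop
import Groth.Agent.CechOpenLib.ConstIrred

/-!
# Constant sheaves on absolutely integrally closed integral schemes

Such a scheme is irreducible and has strictly henselian local rings, so constant sheaves are acyclic.
-/

set_option autoImplicit false
set_option linter.style.haveILetI false

universe u

open CategoryTheory CategoryTheory.Limits AlgebraicGeometry

noncomputable section

namespace Groth.Agent.PBCLib

/-- Constant sheaves are acyclic on an irreducible scheme with strictly henselian local rings. -/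
theorem subsingleton_H_const_of_irreducible {X : Scheme.{u}} [IrreducibleSpace X]
    (hS : ∀ s : X, EtCoh.IsStrictlyHenselianLocalRing (X.presheaf.stalk s))
    (M : Type) [AddCommGroup M] (q : ℕ) (hq : 0 < q) :
    Subsingleton (EtCoh.H X (EtCoh.const X M) q) := by
  haveI : IrreducibleSpace (topU X) :=
    (Homeomorph.ulift.{u + 1, u} (X := X)).symm.surjective.irreducibleSpace
      (Homeomorph.ulift.{u + 1, u} (X := X)).symm.continuous
  obtain ⟨p, rfl⟩ : ∃ p, q = p + 1 := ⟨q - 1, by omega⟩
  exact subsingleton_H_const hS M _ (CechOpenLib.subsingleton_H_const _ p)

/-- Constant sheaves are acyclic on absolutely integrally closed integral schemes. -/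
theorem constAcyclic_of_aicScheme {X : Scheme.{u}} (hX : IsAICScheme X) : ConstAcyclic X := by
  haveI := hX.isIntegral
  exact fun _ _ q hq => subsingleton_H_const_of_irreducible hX.isStrictlyHenselian_stalk _ q hq

end Groth.Agent.PBCLib
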