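import Groth.Agent.BCVertLib.Connecting
import Groth.Agent.BCVertLib.KilledEfface
import Groth.Agent.EtClosedPts.PointStalk
import Groth.Agent.RpushTorsLib.Basic
import Groth.Agent.S0101

/-!
# Base change for torsion sheaves from base change for sheaves killed by an integer

A torsion sheaf embeds in the torsion part `T` of an injective sheaf. The kernels of multiplication on `T` are
acyclic, so the higher direct images of `T` are torsion sheaves on which multiplication is injective, hence zero.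
-/

set_option autoImplicit false
set_option linter.style.haveILetI false
set_option backward.isDefEq.respectTransparency false
set_option backward.isDefEq.respectTransparency.types false
set_option maxHeartbeats 1000000

universe u

open CategoryTheory CategoryTheory.Limits AlgebraicGeometry Opposite

noncomputable section

namespace Groth.Agent.PBCLib

attribute [local instance] Groth.Agent.S0101.result

section Stalks

variable {X : Scheme.{u}}

theorem stalk_nsmul_id (A : EtCoh.Ab X) (n : ℕ) {Ω : Type u} [Field Ω] [IsSepClosed Ω]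
    (ξ : Spec (CommRingCat.of Ω) ⟶ X) (x : (EtCoh.stalk ξ).obj A) : (EtCoh.stalk ξ).map (n • 𝟙 A) x = n • x := by
  haveI : (EtCoh.stalk ξ).Additive := Functor.additive_of_preserves_binary_products _
  rw [Functor.map_nsmul, CategoryTheory.Functor.map_id]
  rfl

/-- A morphism which is zero on all stalks is zero. -/
theorem eq_zero_of_stalk {A B : EtCoh.Ab X} (a : A ⟶ B)
    (h : ∀ (Ω : Type u) [Field Ω] [IsSepClosed Ω] (ξ : Spec (CommRingCat.of Ω) ⟶ X) (x : (EtCoh.stalk ξ).obj A),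
      (EtCoh.stalk ξ).map a x = 0) : a = 0 := by
  haveI : Epi (kernel.ι a) := (EtPtsLib.epi_iff_ab _).2 fun Ω _ _ ξ x =>
    (ShortComplex.ab_exact_iff _).1 ((EtPtsLib.exact_iff_ab (ShortComplex.mk (kernel.ι a) a (kernel.condition a))).1
      (ShortComplex.exact_of_f_is_kernel _ (kernelIsKernel a)) Ω ξ) x (h Ω ξ x)
  rw [← cancel_epi (kernel.ι a), kernel.condition, comp_zero]

/-- A torsion sheaf on which every positive integer is injective is zero. -/
theorem isZero_of_torsion_of_mono_nsmul {A : EtCoh.Ab X} (hA : EtCoh.IsTorsion A)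
    (h : ∀ n : ℕ, 0 < n → Mono (n • 𝟙 A)) : IsZero A := by
  rw [EtPtsLib.isZero_iff_ab]
  intro Ω _ _ ξ
  haveI : Subsingleton ↑((EtCoh.stalk ξ).obj A) := subsingleton_of_forall_eq 0 fun b => by
    obtain ⟨n, hn, hb⟩ := isOfFinAddOrder_iff_nsmul_eq_zero.1 (EtClosedPts.isOfFinAddOrder_of_isTorsion ξ hA b)
    apply (EtPtsLib.mono_iff_ab (n • 𝟙 A)).1 (h n hn) Ω ξ
    rw [stalk_nsmul_id, hb, map_zero]
  exact AddCommGrpCat.isZero_of_subsingleton _

theorem epi_nsmul_injective (I : EtCoh.Ab X) [Injective I] {n : ℕ} (hn : 0 < n) : Epi (n • 𝟙 I : I ⟶ I) :=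
  (EtPtsLib.epi_iff_ab (n • 𝟙 I : I ⟶ I)).2 fun Ω _ _ ξ b => by
    obtain ⟨U, l, s, rfl⟩ := (Scheme.pointSmallEtale ξ).toPresheafFiber_jointly_surjective b
    obtain ⟨t, ht⟩ := FLCLib.exists_nsmul_eq_sect hn U s
    refine ⟨EtPtsLib.germ ξ I l t, ?_⟩
    rw [FLCLib.germ_app]
    exact congrArg (EtPtsLib.germ ξ I l) ht

/-- A torsion sheaf embeds in a torsion divisible sheaf whose kernels of multiplication are those of an injective
sheaf. -/
theorem exists_torsion_divisible {F : EtCoh.Ab X} (hF : EtCoh.IsTorsion F) :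
    ∃ (I T : EtCoh.Ab X) (_ : Injective I) (a : F ⟶ T), Mono a ∧ EtCoh.IsTorsion T ∧
      ∀ n : ℕ, 0 < n → ∃ (i : kernel (n • 𝟙 I : I ⟶ I) ⟶ T) (w : i ≫ (n • 𝟙 T) = 0),
        (ShortComplex.mk i (n • 𝟙 T) w).ShortExact := by
  let I := Injective.under F
  haveI : Injective I := inferInstanceAs (Injective (Injective.under F))
  let K : ℕ → EtCoh.Ab X := fun m => kernel ((m + 1) • 𝟙 I : I ⟶ I)
  let φ : ∐ K ⟶ I := Sigma.desc fun m => kernel.ι ((m + 1) • 𝟙 I : I ⟶ I)
  let π := cokernel.π φ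
  let T := kernel π
  let t : T ⟶ I := kernel.ι π
  have hι : ∀ n : ℕ, 0 < n → kernel.ι (n • 𝟙 I : I ⟶ I) ≫ π = 0 := fun n hn => by
    obtain ⟨m, rfl⟩ := Nat.exists_eq_succ_of_ne_zero hn.ne'
    rw [show kernel.ι ((m + 1) • 𝟙 I : I ⟶ I) = Sigma.ι K m ≫ φ from (Sigma.ι_desc (fun j => kernel.ι ((j + 1) • 𝟙 I : I ⟶ I)) m).symm, Category.assoc,
      cokernel.condition, comp_zero]
  have hmem : ∀ (Ω : Type u) [Field Ω] [IsSepClosed Ω] (ξ : Spec (CommRingCat.of Ω) ⟶ X)
      (y : (EtCoh.stalk ξ).obj I), IsOfFinAddOrder y → ∃ z, (EtCoh.stalk ξ).map t z = y := by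
    intro Ω _ _ ξ y hy
    obtain ⟨n, hn, hy⟩ := isOfFinAddOrder_iff_nsmul_eq_zero.1 hy
    obtain ⟨w, hw⟩ := (ShortComplex.ab_exact_iff _).1 ((EtPtsLib.exact_iff_ab
      (ShortComplex.mk _ _ (kernel.condition (n • 𝟙 I : I ⟶ I)))).1
      (ShortComplex.exact_of_f_is_kernel _ (kernelIsKernel _)) Ω ξ) y ((stalk_nsmul_id I n ξ y).trans hy)
    refine ⟨(EtCoh.stalk ξ).map (kernel.lift π _ (hι n hn)) w, ?_⟩
    rw [← ConcreteCategory.comp_apply, ← Functor.map_comp, kernel.lift_ι]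
    exact hw
  have hinj : ∀ (Ω : Type u) [Field Ω] [IsSepClosed Ω] (ξ : Spec (CommRingCat.of Ω) ⟶ X),
      Function.Injective ((EtCoh.stalk ξ).map t) := fun Ω _ _ ξ => (EtPtsLib.mono_iff_ab t).1 inferInstance Ω ξ
  have hφ : ∀ (Ω : Type u) [Field Ω] [IsSepClosed Ω] (ξ : Spec (CommRingCat.of Ω) ⟶ X)
      (w : (EtCoh.stalk ξ).obj (∐ K)), IsOfFinAddOrder ((EtCoh.stalk ξ).map φ w) := by
    intro Ω _ _ ξ w
    let G := (EtCoh.stalk ξ).obj I
    let q : G ⟶ AddCommGrpCat.of (↑G ⧸ AddCommGroup.torsion ↑G) := AddCommGrpCat.ofHom (QuotientAddGroup.mk' _)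
    have h0 : (EtCoh.stalk ξ).map φ ≫ q = 0 := by
      refine (isColimitOfPreserves (EtCoh.stalk ξ) (colimit.isColimit (Discrete.functor K))).hom_ext fun ⟨m⟩ => ?_
      refine AddCommGrpCat.hom_ext (AddMonoidHom.ext fun x => ?_)
      show q ((EtCoh.stalk ξ).map φ ((EtCoh.stalk ξ).map (Sigma.ι K m) x)) = 0
      rw [← ConcreteCategory.comp_apply ((EtCoh.stalk ξ).map (Sigma.ι K m)), ← Functor.map_comp, Sigma.ι_desc]
      refine (QuotientAddGroup.eq_zero_iff _).2 (isOfFinAddOrder_iff_nsmul_eq_zero.2 ⟨m + 1, m.succ_pos, ?_⟩)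
      rw [← stalk_nsmul_id, ← ConcreteCategory.comp_apply, ← Functor.map_comp, kernel.condition]
      haveI : (EtCoh.stalk ξ).Additive := Functor.additive_of_preserves_binary_products _
      rw [Functor.map_zero]
      rfl
    exact (QuotientAddGroup.eq_zero_iff _).1 (ConcreteCategory.congr_hom h0 w)
  have ht : ∀ (Ω : Type u) [Field Ω] [IsSepClosed Ω] (ξ : Spec (CommRingCat.of Ω) ⟶ X)
      (z : (EtCoh.stalk ξ).obj T), IsOfFinAddOrder z := by
    intro Ω _ _ ξ z
    obtain ⟨w, hw⟩ := (ShortComplex.ab_exact_iff _).1 ((EtPtsLib.exact_iff_ab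
      (ShortComplex.mk φ π (cokernel.condition φ))).1 (ShortComplex.exact_cokernel φ) Ω ξ)
      ((EtCoh.stalk ξ).map t z) (by
        refine (ConcreteCategory.comp_apply _ _ _).symm.trans ?_
        haveI : (EtCoh.stalk ξ).Additive := Functor.additive_of_preserves_binary_products _
        erw [← Functor.map_comp, kernel.condition, Functor.map_zero]
        rfl)
    have h1 : IsOfFinAddOrder ((EtCoh.stalk ξ).map t z) := hw ▸ hφ Ω ξ w
    obtain ⟨n, hn, hn0⟩ := isOfFinAddOrder_iff_nsmul_eq_zero.1 h1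
    exact isOfFinAddOrder_iff_nsmul_eq_zero.2 ⟨n, hn, hinj Ω ξ (by rw [map_nsmul, hn0, map_zero])⟩
  have ha : Injective.ι F ≫ π = 0 := eq_zero_of_stalk _ fun Ω _ _ ξ x => by
    obtain ⟨z, hz⟩ := hmem Ω ξ ((EtCoh.stalk ξ).map (Injective.ι F) x)
      (((EtCoh.stalk ξ).map (Injective.ι F)).hom.isOfFinAddOrder (EtClosedPts.isOfFinAddOrder_of_isTorsion ξ hF x))
    haveI : (EtCoh.stalk ξ).Additive := Functor.additive_of_preserves_binary_products _
    rw [Functor.map_comp, ConcreteCategory.comp_apply, ← hz, ← ConcreteCategory.comp_apply, ← Functor.map_comp,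
      kernel.condition, Functor.map_zero]
    rfl
  refine ⟨I, T, inferInstance, kernel.lift π _ ha, mono_of_mono_fac (kernel.lift_ι π _ ha),
    EtClosedPts.isTorsion_of_stalks ht, fun n hn => ?_⟩
  let i := kernel.lift π _ (hι n hn)
  have hi : i ≫ t = kernel.ι (n • 𝟙 I : I ⟶ I) := kernel.lift_ι _ _ _
  have hw : i ≫ (n • 𝟙 T) = 0 := by
    rw [← cancel_mono t, zero_comp, Category.assoc, Preadditive.nsmul_comp, Category.id_comp,
      ← Category.comp_id t, ← Preadditive.comp_nsmul, ← Category.assoc, hi, kernel.condition]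
  haveI : Mono i := mono_of_mono_fac hi
  refine ⟨i, hw, ?_⟩
  haveI : Epi (n • 𝟙 T : T ⟶ T) := (EtPtsLib.epi_iff_ab (n • 𝟙 T : T ⟶ T)).2 fun Ω _ _ ξ z => by
    obtain ⟨x, hx⟩ := (EtPtsLib.epi_iff_ab (n • 𝟙 I : I ⟶ I)).1 (epi_nsmul_injective I hn) Ω ξ
      ((EtCoh.stalk ξ).map t z)
    rw [stalk_nsmul_id] at hx
    obtain ⟨k, hk, hk0⟩ := isOfFinAddOrder_iff_nsmul_eq_zero.1
      (((EtCoh.stalk ξ).map t).hom.isOfFinAddOrder (ht Ω ξ z))
    obtain ⟨z', hz'⟩ := hmem Ω ξ x (isOfFinAddOrder_iff_nsmul_eq_zero.2 ⟨k * n, Nat.mul_pos hk hn, by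
      rw [mul_nsmul', hx]; exact hk0⟩)
    refine ⟨z', hinj Ω ξ ?_⟩
    rw [stalk_nsmul_id, map_nsmul, hz', hx]
  refine { exact := ?_ }
  refine ShortComplex.exact_of_f_is_kernel _ (KernelFork.IsLimit.ofι' i hw fun {W} k hk => ?_)
  have hk' : (k ≫ t) ≫ (n • 𝟙 I : I ⟶ I) = 0 := by
    rw [Preadditive.comp_nsmul, Category.comp_id, ← Preadditive.nsmul_comp, ← Category.comp_id k,
      ← Preadditive.comp_nsmul, hk, zero_comp]
  refine ⟨kernel.lift _ (k ≫ t) hk', ?_⟩
  rw [← cancel_mono t, Category.assoc, hi, kernel.lift_ι]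

/-- Inverse images of torsion sheaves are torsion. -/
theorem isTorsion_pullback {Y : Scheme.{u}} (g : Y ⟶ X) {F : EtCoh.Ab X} (hF : EtCoh.IsTorsion F) :
    EtCoh.IsTorsion ((EtCoh.pull g).obj F) := EtClosedPts.isTorsion_of_stalks fun Ω _ _ ζ b => by
  let e := (EtPtsLib.pullStalkIso g ζ AddCommGrpCat.{u + 1}).app F
  exact Iso.hom_inv_id_apply e b ▸
    e.inv.hom.isOfFinAddOrder (EtClosedPts.isOfFinAddOrder_of_isTorsion (ζ ≫ g) hF (e.hom b))

end Stalks

/-- Higher direct images of a torsion sheaf with acyclic kernels of multiplication vanish. -/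
theorem isZero_Rpush_of_divisible {X S : Scheme.{u}} (f : X ⟶ S) [QuasiCompact f] [QuasiSeparated f]
    {T : EtCoh.Ab X} (hT : EtCoh.IsTorsion T) (j : ℕ)
    (h : ∀ n : ℕ, 0 < n → ∃ (K : EtCoh.Ab X) (i : K ⟶ T) (w : i ≫ (n • 𝟙 T) = 0),
      (ShortComplex.mk i (n • 𝟙 T) w).ShortExact ∧ IsZero ((EtCoh.Rpush f j).obj K)) :
    IsZero ((EtCoh.Rpush f j).obj T) := by
  refine isZero_of_torsion_of_mono_nsmul (RpushTorsLib.isTorsion_of_isLTorsion
    (RpushTorsLib.isLTorsion_Rpush f T (RpushTorsLib.isLTorsion_univ hT) j)) fun n hn => ?_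
  obtain ⟨K, i, w, hS, hK⟩ := h n hn
  obtain ⟨Δ⟩ := RDerLib.nonempty_derivedLES (EtCoh.push f)
  haveI := (Δ.exact₂ _ hS j).mono_g (hK.eq_of_src _ _)
  have e : (EtCoh.Rpush f j).map (n • 𝟙 T) = n • 𝟙 ((EtCoh.Rpush f j).obj T) := by
    rw [Functor.map_nsmul, CategoryTheory.Functor.map_id]
  exact e ▸ (inferInstance : Mono ((EtCoh.Rpush f j).map (n • 𝟙 T)))

/-- **Base change for torsion sheaves follows from base change for sheaves killed by an integer.** -/
theorem isIso_bcQ_torsion {X S X' S' : Scheme.{u}} (f : X ⟶ S) (g : S' ⟶ S) (f' : X' ⟶ S') (g' : X' ⟶ X)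
    (w : g' ≫ f = f' ≫ g) [QuasiCompact f] [QuasiSeparated f] [QuasiCompact f'] [QuasiSeparated f']
    [PreservesFiniteLimits (EtCoh.pull g')]
    (h0 : ∀ F : EtCoh.Ab X, IsIso (EtBC.bcQ f g f' g' w 0 F))
    (hk : ∀ n : ℕ, 0 < n → ∀ K : EtCoh.Ab X, EtCoh.KilledBy n K → ∀ q, IsIso (EtBC.bcQ f g f' g' w q K)) :
    ∀ (q : ℕ) (F : EtCoh.Ab X), EtCoh.IsTorsion F → IsIso (EtBC.bcQ f g f' g' w q F) := by
  intro q
  induction q with
  | zero => exact fun F _ => h0 F
  | succ q ih =>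
    intro F hF
    obtain ⟨I, T, hI, a, ha, hT, hseq⟩ := exists_torsion_divisible hF
    have hR : IsZero ((EtCoh.Rpush f (q + 1)).obj T) :=
      isZero_Rpush_of_divisible f hT (q + 1) fun n hn => by
        obtain ⟨i, hw, hS⟩ := hseq n hn
        exact ⟨_, i, hw, hS, BCVertLib.isZero_Rpush_kernel_nsmul f I hn q⟩
    have hR' : IsZero ((EtCoh.Rpush f' (q + 1)).obj ((EtCoh.pull g').obj T)) :=
      isZero_Rpush_of_divisible f' (isTorsion_pullback g' hT) (q + 1) fun n hn => by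
        obtain ⟨i, hw, hS⟩ := hseq n hn
        have e : (EtCoh.pull g').map (n • 𝟙 T) = n • 𝟙 ((EtCoh.pull g').obj T) := by
          rw [Functor.map_nsmul, CategoryTheory.Functor.map_id]
        have hS' := hS.map_of_exact (EtCoh.pull g')
        have hK : EtCoh.KilledBy n (kernel (n • 𝟙 I : I ⟶ I)) := by
          rw [FLCLib.killedBy_iff, ← cancel_mono (kernel.ι (n • 𝟙 I : I ⟶ I)), zero_comp, Preadditive.nsmul_comp,
            Category.id_comp, ← Category.comp_id (kernel.ι (n • 𝟙 I : I ⟶ I)), ← Preadditive.comp_nsmul]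
          exact kernel.condition _
        haveI := hk n hn _ hK (q + 1)
        haveI : (EtCoh.pull g).Additive := (EtCoh.pullPushAdj g).left_adjoint_additive
        refine ⟨_, (EtCoh.pull g').map i, by rw [← e, ← Functor.map_comp, hw, Functor.map_zero], ?_,
          ((EtCoh.pull g).map_isZero (BCVertLib.isZero_Rpush_kernel_nsmul f I hn q)).of_iso
            (asIso (EtBC.bcQ f g f' g' w (q + 1) _)).symm⟩
        refine ShortComplex.shortExact_of_iso (S₁ := (ShortComplex.mk i (n • 𝟙 T) hw).map (EtCoh.pull g')) ?_ hS'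
        exact ShortComplex.isoMk (Iso.refl _) (Iso.refl _) (Iso.refl _) (by simp) (by simp [e]; rfl)
    haveI := ha
    let S₀ := ShortComplex.mk a (cokernel.π a) (cokernel.condition a)
    have hC : EtCoh.IsTorsion S₀.X₃ := EtClosedPts.isTorsion_of_stalks fun Ω _ _ ξ b => by
      obtain ⟨y, rfl⟩ := (EtPtsLib.epi_iff_ab (cokernel.π a)).1 inferInstance Ω ξ b
      exact ((EtCoh.stalk ξ).map (cokernel.π a)).hom.isOfFinAddOrder (EtClosedPts.isOfFinAddOrder_of_isTorsion ξ hT y)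
    obtain ⟨hz, hm, hex⟩ := BCVertLib.mono_exact_of_acyclic f g f' g' w (S₀ := S₀)
      { exact := ShortComplex.exact_cokernel a } q hR (ih T hT) (ih _ hC)
    haveI := hm
    haveI : Epi (EtBC.bcQ f g f' g' w (q + 1) F) := hex.epi_f (hR'.eq_of_tgt _ _)
    exact isIso_of_mono_of_epi _

end Groth.Agent.PBCLib
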