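import Groth.Agent.PBCLib.Delta
import Groth.Agent.PBCLib.TorsBC
import Groth.Agent.BCVertLib.EtaleBCQ
import Groth.Agent.BCVertLib.Local
import Groth.Agent.EtPtsLib.IntegralUI
import Groth.Agent.AcycCompLib.Basic
import Groth.Agent.CompBCLib.Killed
import Groth.Agent.S0642

/-!
# Proper base change in general from effaceability over affine bases
-/

set_option autoImplicit false
set_option linter.style.haveILetI false
set_option backward.isDefEq.respectTransparency false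
set_option backward.isDefEq.respectTransparency.types false
set_option maxHeartbeats 1000000

universe u

open CategoryTheory CategoryTheory.Limits AlgebraicGeometry Opposite

noncomputable section

namespace Groth.Agent.PBCLib

attribute [local instance] Groth.Agent.S0101.result

/-- Effacement passes to an isomorphic fibre. -/
theorem efface_of_iso {Z Z₁ X : Scheme.{u}} (w : Z ⟶ Z₁) [IsIso w] (p : Z₁ ⟶ X) (h : Z ⟶ X) (hw : w ≫ p = h)
    {n : ℕ} (F : EtCoh.Ab X) (q : ℕ)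
    (heff : ∀ x : EtCoh.H Z₁ ((EtCoh.pull p).obj F) q, ∃ (M : EtCoh.Ab X) (a : F ⟶ M), Mono a ∧
      EtCoh.KilledBy n M ∧ Sheaf.H.map ((EtCoh.pull p).map a) q x = 0)
    (c : EtCoh.H Z ((EtCoh.pull h).obj F) q) :
    ∃ (M : EtCoh.Ab X) (a : F ⟶ M), Mono a ∧ EtCoh.KilledBy n M ∧
      Sheaf.H.map ((EtCoh.pull h).map a) q c = 0 := by
  obtain ⟨x, hx⟩ := (S0642.result w ((EtCoh.pull p).obj F) q).2
    (Sheaf.H.map ((EtLimLib.comparePull p w h hw).app F) q c)
  obtain ⟨M, a, ha, hM, h0⟩ := heff x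
  refine ⟨M, a, ha, hM, ?_⟩
  haveI := EtLimLib.isIso_comparePull p w h hw M
  apply (ConcreteCategory.bijective_of_isIso ((EtCoh.HF Z q).map ((EtLimLib.comparePull p w h hw).app M))).1
  rw [map_zero]
  refine (congr($(((EtCoh.HF Z q).map_comp ((EtCoh.pull h).map a) ((EtLimLib.comparePull p w h hw).app M)).symm) c)).trans ?_
  rw [(EtLimLib.comparePull p w h hw).naturality a, Functor.map_comp]
  refine (congrArg (Sheaf.H.map ((EtCoh.pull w).map ((EtCoh.pull p).map a)) q) hx.symm).trans ?_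
  refine (CompBCLib.Hpull_map w ((EtCoh.pull p).map a) x).symm.trans ?_
  rw [h0, map_zero]

theorem isIso_bcQ_congr_base {X S X' S' : Scheme.{u}} (f : X ⟶ S) (f' : X' ⟶ S') {g₁ g₂ : S' ⟶ S} (hg : g₁ = g₂)
    {k₁ k₂ : X' ⟶ X} (hk : k₁ = k₂) [PreservesFiniteLimits (EtCoh.pull k₁)] [PreservesFiniteLimits (EtCoh.pull k₂)]
    (w₁ : k₁ ≫ f = f' ≫ g₁) (w₂ : k₂ ≫ f = f' ≫ g₂) (q : ℕ) (F : EtCoh.Ab X)
    (hi : IsIso (EtBC.bcQ f g₁ f' k₁ w₁ q F)) : IsIso (EtBC.bcQ f g₂ f' k₂ w₂ q F) := by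
  subst hg hk
  exact hi

/-- Base change at a geometric point, for any cartesian square, from effaceability. -/
theorem isIso_bcQ_pt_of_effaceableAny {X S X' : Scheme.{u}} (f : X ⟶ S) [IsProper f] (hf : EffaceableAny f) {n : ℕ}
    (hn : 0 < n) {Ω : Type u} [Field Ω] [IsAlgClosed Ω] (ξ : Spec (CommRingCat.of Ω) ⟶ S)
    (f' : X' ⟶ Spec (CommRingCat.of Ω)) (g' : X' ⟶ X) (h : IsPullback g' f' f ξ)
    [PreservesFiniteLimits (EtCoh.pull g')] (F : EtCoh.Ab X) (hF : EtCoh.KilledBy n F) (q : ℕ) :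
    IsIso (EtBC.bcQ f ξ f' g' h.w q F) := by
  induction q generalizing F with
  | zero => exact isIso_bcQ_zero f ξ f' g' h F
  | succ q ih =>
    exact isIso_bcQ_succ f ξ f' g' h.w q ih
      (fun G hG c => efface_of_iso h.isoPullback.hom (pullback.fst f ξ) g' h.isoPullback_hom_fst G (q + 1)
        (hf n hn Ω ξ G hG (q + 1) q.succ_pos) c) F hF

/-- Base change at every geometric point, from effaceability over the affine bases. -/
theorem isIso_bcQ_geomPt {X S X' : Scheme.{u}} (f : X ⟶ S) [IsProper f]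
    (hf : ∀ (X₁ S₁ : Scheme.{u}) (g₁ : S₁ ⟶ S) (f₁ : X₁ ⟶ S₁) (g₁' : X₁ ⟶ X) [IsAffine S₁],
      IsPullback g₁' f₁ f g₁ → EffaceableAny f₁) {n : ℕ} (hn : 0 < n) {Ω : Type u} [Field Ω] [IsAlgClosed Ω]
    (ξ : Spec (CommRingCat.of Ω) ⟶ S) (f' : X' ⟶ Spec (CommRingCat.of Ω)) (g' : X' ⟶ X)
    (h : IsPullback g' f' f ξ) [PreservesFiniteLimits (EtCoh.pull g')] (F : EtCoh.Ab X) (hF : EtCoh.KilledBy n F)
    (q : ℕ) : IsIso (EtBC.bcQ f ξ f' g' h.w q F) := by
  obtain ⟨V, hV, hξV, -⟩ := exists_isAffineOpen_mem_and_subset (X := S) (x := ξ default) (U := ⊤) trivial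
  haveI : IsAffine V.toScheme := hV
  let ξ' : Spec (CommRingCat.of Ω) ⟶ V := IsOpenImmersion.lift V.ι ξ (by
    rw [Scheme.Opens.range_ι]
    rintro _ ⟨z, rfl⟩
    show ξ z ∈ V
    rw [show z = (default : ↥(Spec (CommRingCat.of Ω))) from Subsingleton.elim (α := PrimeSpectrum Ω) _ _]
    exact hξV)
  have hξ' : ξ' ≫ V.ι = ξ := IsOpenImmersion.lift_fac _ _ _
  let fV := pullback.snd f V.ι
  have hsq : IsPullback (pullback.fst f V.ι) fV f V.ι := IsPullback.of_hasPullback f V.ι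
  let k : X' ⟶ pullback f V.ι := pullback.lift g' (f' ≫ ξ') (by rw [Category.assoc, hξ', h.w])
  have hk : k ≫ pullback.fst f V.ι = g' := pullback.lift_fst _ _ _
  have hsq' : IsPullback k f' fV ξ' := by
    refine IsPullback.of_right ?_ (pullback.lift_snd _ _ _) hsq
    rw [hk, hξ']
    exact h
  have hk' : EtCoh.KilledBy n ((EtCoh.pull (pullback.fst f V.ι)).obj F) := by
    haveI : (EtCoh.pull (pullback.fst f V.ι)).Additive := (EtCoh.pullPushAdj _).left_adjoint_additive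
    rw [FLCLib.killedBy_iff] at hF ⊢
    rw [← CategoryTheory.Functor.map_id, ← Functor.map_nsmul, hF, Functor.map_zero]
  have h12 := BCVertLib.isIso_bcQ_vcomp V.ι f fV (pullback.fst f V.ι) hsq.w ξ' f' k hsq'.w
    (by rw [Category.assoc, hsq.w, reassoc_of% hsq'.w]) F q (BCVertLib.isIso_bcQ_etale f V.ι fV _ hsq q F)
    (isIso_bcQ_pt_of_effaceableAny fV (hf _ _ V.ι fV _ hsq) hn ξ' f' k hsq' _ hk' q)
  exact isIso_bcQ_congr_base f f' hξ' hk _ h.w q F h12

/-- Base change for sheaves killed by an integer, for all cartesian squares. -/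
theorem isIso_bcQ_killed {X S X' S' : Scheme.{u}} (f : X ⟶ S) [IsProper f]
    (hf : ∀ (X₁ S₁ : Scheme.{u}) (g₁ : S₁ ⟶ S) (f₁ : X₁ ⟶ S₁) (g₁' : X₁ ⟶ X) [IsAffine S₁],
      IsPullback g₁' f₁ f g₁ → EffaceableAny f₁) (g : S' ⟶ S) (f' : X' ⟶ S') (g' : X' ⟶ X)
    (h : IsPullback g' f' f g) [PreservesFiniteLimits (EtCoh.pull g')] {n : ℕ} (hn : 0 < n) (F : EtCoh.Ab X)
    (hF : EtCoh.KilledBy n F) (q : ℕ) : IsIso (EtBC.bcQ f g f' g' h.w q F) := by
  haveI : IsProper f' := MorphismProperty.of_isPullback (P := @IsProper) h ‹_›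
  have hf' : ∀ (X₁ S₁ : Scheme.{u}) (g₁ : S₁ ⟶ S') (f₁ : X₁ ⟶ S₁) (g₁' : X₁ ⟶ X') [IsAffine S₁],
      IsPullback g₁' f₁ f' g₁ → EffaceableAny f₁ :=
    fun X₁ S₁ g₁ f₁ g₁' _ sq => hf X₁ S₁ (g₁ ≫ g) f₁ (g₁' ≫ g') (sq.paste_horiz h)
  have hF' : EtCoh.KilledBy n ((EtCoh.pull g').obj F) := by
    haveI : (EtCoh.pull g').Additive := (EtCoh.pullPushAdj _).left_adjoint_additive
    rw [FLCLib.killedBy_iff] at hF ⊢
    rw [← CategoryTheory.Functor.map_id, ← Functor.map_nsmul, hF, Functor.map_zero]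
  refine EtPtsLib.isIso_of_alg_ab _ fun x => ?_
  let η := EtPtsLib.geomPtAlg x
  have sq := IsPullback.of_hasPullback f' η
  have h12 := isIso_bcQ_geomPt f hf hn (η ≫ g) _ (pullback.fst f' η ≫ g') (sq.paste_horiz h) F hF q
  have h2 := isIso_bcQ_geomPt f' hf' hn η _ _ sq ((EtCoh.pull g').obj F) hF' q
  haveI := BCVertLib.isIso_pull_bcQ_of_vcomp g f f' g' h.w η (pullback.snd f' η) (pullback.fst f' η) sq.w
    (sq.paste_horiz h).w F q h12 h2
  let P := Spec (CommRingCat.of (AlgebraicClosure (S'.residueField x)))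
  have hst : IsIso ((EtCoh.stalk (𝟙 P ≫ η)).map (EtBC.bcQ f g f' g' h.w q F)) :=
    (NatIso.isIso_map_iff (FLCLib.stalkPullIso η (𝟙 P)) _).1
      (inferInstanceAs (IsIso ((EtCoh.stalk (𝟙 P)).map ((EtCoh.pull η).map (EtBC.bcQ f g f' g' h.w q F)))))
  rw [Category.id_comp] at hst
  exact ConcreteCategory.bijective_of_isIso _

/-- **Assembly**: effaceability over affine bases gives proper base change for torsion sheaves. -/
theorem bcAll_of_effaceableAny (X S : Scheme.{u}) (f : X ⟶ S) [IsProper f]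
    (hf : ∀ (X' S' : Scheme.{u}) (g : S' ⟶ S) (f' : X' ⟶ S') (g' : X' ⟶ X) [IsAffine S'],
      IsPullback g' f' f g → EffaceableAny f') : BCAll f := by
  intro X' S' g f' g' h _ F hF q
  haveI : IsProper f' := MorphismProperty.of_isPullback (P := @IsProper) h ‹_›
  exact isIso_bcQ_torsion f g f' g' h.w (fun G => isIso_bcQ_zero f g f' g' h G)
    (fun n hn K hK j => isIso_bcQ_killed f hf g f' g' h hn K hK j) q F hF

end Groth.Agent.PBCLib
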