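import Groth.Agent.PBCLib.Induction
import Groth.Agent.PBCLib.AIC

/-!
# Fibre acyclicity of proper morphisms

Over an affine base, the coordinates of finitely many affine charts embed a modification of an
absolutely integrally closed integral scheme over a proper scheme into a fibre power of the projective
line, integrally over the base. This reduces fibre acyclicity to the fibre powers of the projective line.
-/

set_option autoImplicit false
set_option backward.isDefEq.respectTransparency false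
set_option backward.isDefEq.respectTransparency.types false
set_option linter.style.haveILetI false
set_option maxHeartbeats 1000000

universe u

open CategoryTheory CategoryTheory.Limits AlgebraicGeometry Opposite TopologicalSpace

noncomputable section

namespace Groth.Agent.PBCLib

theorem ext_P1Z {A B : Scheme.{u}} [IsReduced B] {c c' : B ⟶ P1Z.{u}} (t : A ⟶ B) [IsDominant t]
    (h : t ≫ c = t ≫ c') : c = c' :=
  ext_of_isDominant_of_isSeparated (CohB1.ProjSpace.toSpec 1 P1.R0.{u})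
    (specULiftZIsTerminal.hom_ext _ _) t h

/-- The value of a function at a field valued point of an open. -/
def valueAt {X : Scheme.{u}} {B : Type u} [CommRing B] (g : Spec (CommRingCat.of B) ⟶ X) (U : X.Opens)
    (h : ⊤ ≤ g ⁻¹ᵁ U) : Γ(X, U) →+* B :=
  (Scheme.ΓSpecIso (CommRingCat.of B)).hom.hom.comp (g.appLE U ⊤ h).hom

theorem specMap_valueAt_fromSpec {X : Scheme.{u}} {B : Type u} [CommRing B] (g : Spec (CommRingCat.of B) ⟶ X)
    {U : X.Opens} (hU : IsAffineOpen U) (h : ⊤ ≤ g ⁻¹ᵁ U) :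
    Spec.map (CommRingCat.ofHom (valueAt g U h)) ≫ hU.fromSpec = g := by
  have e : CommRingCat.ofHom (valueAt g U h) = g.appLE U ⊤ h ≫ (Scheme.ΓSpecIso (CommRingCat.of B)).hom := rfl
  rw [e, Spec.map_comp, Category.assoc, IsAffineOpen.SpecMap_appLE_fromSpec _ hU (isAffineOpen_top _),
    IsAffineOpen.fromSpec_top, ← Category.assoc]
  have e2 : Spec.map (Scheme.ΓSpecIso (CommRingCat.of B)).hom = (Spec (CommRingCat.of B)).toSpecΓ :=
    SpecMap_ΓSpecIso_hom _
  rw [e2]
  simp [Scheme.isoSpec]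

theorem specMap_coordSpec' {R B : CommRingCat.{u}} (φ : R ⟶ B) (b : R) :
    Spec.map φ ≫ coordSpec R b = coordSpec B (φ b) :=
  specMap_coordSpec φ.hom b

theorem toSpecΓ_coordSpec {B : Scheme.{u}} {K : CommRingCat.{u}} (g : Spec K ⟶ B) (e : Γ(B, ⊤)) :
    g ≫ B.toSpecΓ ≫ coordSpec Γ(B, ⊤) e = coordSpec K ((Scheme.ΓSpecIso K).hom (g.appTop e)) := by
  rw [← Category.assoc, Scheme.toSpecΓ_naturality, ← SpecMap_ΓSpecIso_hom, ← Spec.map_comp]
  exact specMap_coordSpec' (g.appTop ≫ (Scheme.ΓSpecIso K).hom) e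

/-- A ring map landing in the image of an injective one factors through it. -/
theorem exists_ringHom_factor {R G K : Type u} [CommRing R] [CommRing G] [CommRing K] (ρ : R →+* K) (j : G →+* K)
    (hj : Function.Injective j) (h : ∀ r, ρ r ∈ j.range) : ∃ ρ' : R →+* G, j.comp ρ' = ρ := by
  choose φ hφ using h
  refine ⟨⟨⟨⟨φ, hj ?_⟩, fun a b => hj ?_⟩, hj ?_, fun a b => hj ?_⟩, RingHom.ext hφ⟩
  · simp [hφ]
  · simp [hφ]
  · simp [hφ]
  · simp [hφ]

/-- Pulling functions back to a point over the generic point is injective. -/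
theorem appTop_injective_of_generic {B : Scheme.{u}} [IsIntegral B] {K : Type u} [Field K]
    (t : Spec (CommRingCat.of K) ⟶ B) (ht : t (IsLocalRing.closedPoint K) = genericPoint B) :
    Function.Injective t.appTop := by
  rw [injective_iff_map_eq_zero]
  intro a ha
  let x : Spec (CommRingCat.of K) := IsLocalRing.closedPoint K
  have hf : IsField (B.presheaf.stalk (t x)) := by
    rw [show t x = genericPoint B from ht]
    exact Semifield.toIsField B.functionField
  letI := hf.toField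
  have h0 : t.stalkMap x (B.presheaf.germ ⊤ (t x) trivial a) = 0 := by
    rw [Scheme.Hom.germ_stalkMap_apply]
    exact (congrArg _ ha).trans (map_zero _)
  refine germ_injective_of_isIntegral B (t x) (U := ⊤) trivial ?_
  rw [map_zero]
  exact (RingHom.injective (t.stalkMap x).hom) (h0.trans (map_zero _).symm)

/-- A point onto the generic point is dominant. -/
theorem isDominant_of_generic {B : Scheme.{u}} [IsIntegral B] {K : Type u} [Field K]
    (t : Spec (CommRingCat.of K) ⟶ B) (ht : t (IsLocalRing.closedPoint K) = genericPoint B) : IsDominant t := by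
  refine ⟨dense_iff_closure_eq.2 (Set.eq_univ_of_univ_subset ?_)⟩
  rw [← genericPoint_spec B]
  exact closure_mono (Set.singleton_subset_iff.2 ⟨_, ht⟩)

section Core

variable {A : Type u} [CommRing A] {W X P : Scheme.{u}} [IsIntegral W] {K : Type u} [Field K]
  (t : Spec (CommRingCat.of K) ⟶ W) (χ : W ⟶ X) (f : X ⟶ Spec (CommRingCat.of A))
  {U : X.Opens} (hU : IsAffineOpen U) (hK : ⊤ ≤ (t ≫ χ) ⁻¹ᵁ U)

/-- A coordinate with value a function on `U` lies in the chart over `U`. -/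
theorem coord_mem_chart (c : W ⟶ P1Z.{u}) (r : Γ(X, U))
    (ht : t (IsLocalRing.closedPoint K) = genericPoint W)
    (hc : t ≫ c = coordSpec K (valueAt (t ≫ χ) U hK r)) : χ ⁻¹ᵁ U ≤ c ⁻¹ᵁ chartι.opensRange := by
  intro w hw
  let W₁ := χ ⁻¹ᵁ U
  haveI : Nonempty W₁ := ⟨⟨w, hw⟩⟩
  have htW : Set.range t ⊆ Set.range W₁.ι := by
    rw [Scheme.Opens.range_ι]
    rintro _ ⟨z, rfl⟩
    exact hK (show z ∈ (⊤ : (Spec (CommRingCat.of K)).Opens) from trivial)
  let t₁ : Spec (CommRingCat.of K) ⟶ W₁ := IsOpenImmersion.lift W₁.ι t htW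
  have ht₁ : t₁ ≫ W₁.ι = t := IsOpenImmersion.lift_fac _ _ _
  haveI : IsDominant t₁ := isDominant_of_generic t₁ (W₁.ι.isOpenEmbedding.injective (by
    rw [genericPoint_eq_of_isOpenImmersion W₁.ι, ← Scheme.Hom.comp_apply, ht₁, ht]))
  let e : Γ((W₁ : Scheme.{u}), ⊤) := (W₁.ι ≫ χ).appLE U ⊤ (fun z _ => z.2) r
  let c' : (W₁ : Scheme.{u}) ⟶ P1Z.{u} := (W₁ : Scheme.{u}).toSpecΓ ≫ coordSpec Γ((W₁ : Scheme.{u}), ⊤) e
  have hval : (Scheme.ΓSpecIso (CommRingCat.of K)).hom (t₁.appTop e) = valueAt (t ≫ χ) U hK r := by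
    have h1 : ((W₁.ι ≫ χ).appLE U ⊤ (fun z _ => z.2)) ≫ t₁.appLE ⊤ ⊤ (fun z _ => trivial) =
        (t₁ ≫ W₁.ι ≫ χ).appLE U ⊤ (fun z _ => (t₁ z).2) := Scheme.Hom.appLE_comp_appLE _ _ _ _ _ _ _
    show _ = (Scheme.ΓSpecIso (CommRingCat.of K)).hom ((t ≫ χ).appLE U ⊤ hK r)
    congr 1
    have h2 : (t₁ ≫ W₁.ι ≫ χ).appLE U ⊤ (fun z _ => (t₁ z).2) = (t ≫ χ).appLE U ⊤ hK := by
      congr 1
      rw [reassoc_of% ht₁]
    rw [← h2, ← h1, Scheme.Hom.appTop, Scheme.Hom.app_eq_appLE]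
    rfl
  have heq : W₁.ι ≫ c = c' := by
    refine ext_P1Z t₁ ?_
    rw [reassoc_of% ht₁, hc, ← hval]
    exact (toSpecΓ_coordSpec (B := (W₁ : Scheme.{u})) (K := CommRingCat.of K) t₁ e).symm
  have hw' : c' ⟨w, hw⟩ ∈ chartι.opensRange := by
    simp only [c', coordSpec, Scheme.Hom.comp_apply]
    exact ⟨_, rfl⟩
  rw [← heq, Scheme.Hom.comp_apply] at hw'
  exact hw'

include hU in
/-- Conversely, where all the coordinates lie in the chart, the point lies over `U`. -/
theorem mem_of_coords [IsSeparated f] {ι' : Type u} (c : ι' → (W ⟶ P1Z.{u})) (r : ι' → Γ(X, U))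
    (hgen : letI := (f.appLE ⊤ U (fun z _ => trivial)).hom.toAlgebra;
      Algebra.adjoin Γ(Spec (CommRingCat.of A), ⊤) (Set.range r) = ⊤)
    (ht : t (IsLocalRing.closedPoint K) = genericPoint W)
    (hc : ∀ i, t ≫ c i = coordSpec K (valueAt (t ≫ χ) U hK (r i)))
    (w : W) (hw : ∀ i, c i w ∈ chartι.opensRange) (W₁ : W.Opens) (hwW : w ∈ W₁)
    (hW₁ : ∀ i, W₁ ≤ c i ⁻¹ᵁ chartι.opensRange) : χ w ∈ U := by
  haveI : Nonempty W₁ := ⟨⟨w, hwW⟩⟩
  have htW : Set.range t ⊆ Set.range W₁.ι := by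
    rw [Scheme.Opens.range_ι]
    rintro _ ⟨z, rfl⟩
    rw [Subsingleton.elim (α := PrimeSpectrum K) z (IsLocalRing.closedPoint K), ht]
    exact (genericPoint_specializes w).mem_open W₁.2 hwW
  let t₁ : Spec (CommRingCat.of K) ⟶ W₁ := IsOpenImmersion.lift W₁.ι t htW
  have ht₁ : t₁ ≫ W₁.ι = t := IsOpenImmersion.lift_fac _ _ _
  have htg : t₁ (IsLocalRing.closedPoint K) = genericPoint (W₁ : Scheme.{u}) := W₁.ι.isOpenEmbedding.injective (by
    rw [genericPoint_eq_of_isOpenImmersion W₁.ι, ← Scheme.Hom.comp_apply, ht₁, ht])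
  haveI : IsDominant t₁ := isDominant_of_generic t₁ htg
  let j : Γ((W₁ : Scheme.{u}), ⊤) →+* K :=
    (Scheme.ΓSpecIso (CommRingCat.of K)).hom.hom.comp t₁.appTop.hom
  have hj : Function.Injective j :=
    (Scheme.ΓSpecIso (CommRingCat.of K)).commRingCatIsoToRingEquiv.injective.comp
      (appTop_injective_of_generic t₁ htg)
  let ρ := valueAt (t ≫ χ) U hK
  letI := (f.appLE ⊤ U (fun z _ => trivial)).hom.toAlgebra
  have hρ : ∀ x, ρ x ∈ j.range := by
    intro x
    have hx : x ∈ Algebra.adjoin Γ(Spec (CommRingCat.of A), ⊤) (Set.range r) := hgen ▸ trivial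
    induction hx using Algebra.adjoin_induction with
    | mem y hy =>
      obtain ⟨i, rfl⟩ := hy
      have hr : Set.range (W₁.ι ≫ c i) ⊆ Set.range chartι.{u} := by
        rintro _ ⟨z, rfl⟩
        exact hW₁ i z.2
      let β := IsOpenImmersion.lift chartι.{u} (W₁.ι ≫ c i) hr
      have hβ : β ≫ chartι = W₁.ι ≫ c i := IsOpenImmersion.lift_fac _ _ _
      refine ⟨β.appTop ((Scheme.ΓSpecIso (CommRingCat.of ChartRing.{u})).inv chartCoord), ?_⟩
      have hb : t₁ ≫ β = Spec.map (CommRingCat.ofHom (P1.chartMap 0 K (ρ (r i)))) := by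
        rw [← cancel_mono chartι.{u}, Category.assoc, hβ, reassoc_of% ht₁]
        exact hc i
      have hb' := congrArg (fun g => (Scheme.ΓSpecIso (CommRingCat.of K)).hom
        (g.appTop ((Scheme.ΓSpecIso (CommRingCat.of ChartRing.{u})).inv chartCoord))) hb
      refine hb'.trans (Eq.trans ?_ (chartMap_chartCoord K (ρ (r i))))
      exact ConcreteCategory.congr_hom (by simp : (Scheme.ΓSpecIso (CommRingCat.of ChartRing.{u})).inv ≫
        (Spec.map (CommRingCat.ofHom (P1.chartMap 0 K (ρ (r i))))).appTop ≫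
        (Scheme.ΓSpecIso (CommRingCat.of K)).hom = CommRingCat.ofHom (P1.chartMap 0 K (ρ (r i)))) chartCoord
    | algebraMap a =>
      refine ⟨(W₁.ι ≫ χ ≫ f).appTop a, ?_⟩
      show (Scheme.ΓSpecIso (CommRingCat.of K)).hom (t₁.appTop ((W₁.ι ≫ χ ≫ f).appTop a)) =
        (Scheme.ΓSpecIso (CommRingCat.of K)).hom ((t ≫ χ).appLE U ⊤ hK (f.appLE ⊤ U (fun z _ => trivial) a))
      congr 1
      rw [← ConcreteCategory.comp_apply, ← ConcreteCategory.comp_apply, ← Scheme.Hom.comp_appTop,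
        Scheme.Hom.appLE_comp_appLE, Scheme.Hom.appTop, Scheme.Hom.app_eq_appLE]
      simp only [reassoc_of% ht₁, Category.assoc]
      rfl
    | add a b _ _ ha hb => rw [map_add]; exact add_mem ha hb
    | mul a b _ _ ha hb => rw [map_mul]; exact mul_mem ha hb
  obtain ⟨ρ', hρ'⟩ := exists_ringHom_factor ρ j hj hρ
  let b : (W₁ : Scheme.{u}) ⟶ X :=
    (W₁ : Scheme.{u}).toSpecΓ ≫ Spec.map (CommRingCat.ofHom ρ') ≫ hU.fromSpec
  have hb : t₁ ≫ b = t₁ ≫ W₁.ι ≫ χ := by
    rw [reassoc_of% ht₁, ← specMap_valueAt_fromSpec (t ≫ χ) hU hK]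
    show t₁ ≫ (W₁ : Scheme.{u}).toSpecΓ ≫ _ ≫ _ = Spec.map (CommRingCat.ofHom ρ) ≫ _
    rw [Scheme.toSpecΓ_naturality_assoc, ← SpecMap_ΓSpecIso_hom, ← hρ', ← Spec.map_comp_assoc,
      ← Spec.map_comp_assoc]
    rfl
  have hbf : b ≫ f = (W₁.ι ≫ χ) ≫ f := by
    refine ext_of_isDominant t₁ ?_
    exact ((Category.assoc _ _ _).symm.trans (congrArg (· ≫ f) hb)).trans (by simp only [Category.assoc])
  have heq : b = W₁.ι ≫ χ := ext_of_isDominant_of_isSeparated f hbf t₁ hb
  have hmem : b ⟨w, hwW⟩ ∈ U := by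
    simp only [b, Scheme.Hom.comp_apply]
    rw [← SetLike.mem_coe, ← hU.range_fromSpec]
    exact ⟨_, rfl⟩
  rw [heq, Scheme.Hom.comp_apply] at hmem
  exact hmem

end Core

theorem constAcyclic_of_isEmpty {C : Scheme.{u}} [IsEmpty C] : ConstAcyclic C := fun d _ q _ => by
  have h : IsZero (EtCoh.const C (ZMod d)) := by
    rw [EtPtsLib.isZero_iff_ab]
    intro Ω _ _ ξ
    exact isEmptyElim (ξ (IsLocalRing.closedPoint Ω))
  exact AddCommGrpCat.subsingleton_of_isZero ((EtCoh.HF C _).map_isZero h)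

/-- The modification inside a fibre power of the projective line. -/
theorem exists_chow {A : Type u} [CommRing A] {X X' : Scheme.{u}} (f : X ⟶ Spec (CommRingCat.of A)) [IsProper f]
    (π : X' ⟶ X) [IsIntegralHom π] (hX' : IsAICScheme X') :
    ∃ (N : ℕ) (W : Scheme.{u}) (φ : W ⟶ P1Pow N X'), IsAICScheme W ∧ IsIntegralHom φ ∧
      IsDominant (φ ≫ P1Pow.toBase N X') ∧ IsIntegralHom (φ ≫ P1Pow.map N (π ≫ f)) := by
  classical
  haveI := hX'.isIntegral
  haveI := hX'.isAlgClosed_functionField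
  haveI : CompactSpace X := QuasiCompact.compactSpace_of_compactSpace f
  let K := X'.functionField
  let gη : Spec (CommRingCat.of K) ⟶ X' := X'.fromSpecStalk (genericPoint X')
  let x₀ := π (genericPoint X')
  have hgη : gη (IsLocalRing.closedPoint K) = genericPoint X' := Scheme.fromSpecStalk_closedPoint
  have hgK : (gη ≫ π) (IsLocalRing.closedPoint K) = x₀ := by rw [Scheme.Hom.comp_apply, hgη]
  -- finitely many affine charts
  choose O hO hxO _ using fun x : X => exists_isAffineOpen_mem_and_subset (X := X) (x := x) (U := ⊤) trivial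
  obtain ⟨T, hT⟩ := isCompact_univ.elim_finite_subcover (fun x : X => (O x : Set X)) (fun x => (O x).2)
    (fun x _ => Set.mem_iUnion.2 ⟨x, hxO x⟩)
  let Q := {x // x ∈ T ∧ x₀ ∈ O x}
  haveI : Finite Q := Finite.of_injective (fun x : Q => (⟨x.1, x.2.1⟩ : T)) fun a b h => Subtype.ext (congrArg (fun y : T => y.1) h)
  haveI := Fintype.ofFinite Q
  have hK : ∀ x : Q, ⊤ ≤ (gη ≫ π) ⁻¹ᵁ O x.1 := fun x z _ => by
    show (gη ≫ π) z ∈ O x.1
    rw [Subsingleton.elim (α := PrimeSpectrum K) z (IsLocalRing.closedPoint K), hgK]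
    exact x.2.2
  have hft : ∀ x : Q, ∃ s : Finset Γ(X, O x.1),
      letI := (f.appLE ⊤ (O x.1) (fun z _ => trivial)).hom.toAlgebra
      Algebra.adjoin Γ(Spec (CommRingCat.of A), ⊤) (Set.range (Subtype.val : s → Γ(X, O x.1))) = ⊤ := fun x => by
    obtain ⟨s, hs⟩ := (f.finiteType_appLE (isAffineOpen_top _) (hO x.1) (fun z _ => trivial)).out
    refine ⟨s, ?_⟩
    rw [Subtype.range_coe_subtype]
    exact hs
  choose s hs using hft
  let ι' := Σ x : Q, s x
  let N := Fintype.card ι'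
  let e : ι' ≃ Fin N := Fintype.equivFin ι'
  let r : ∀ i : ι', Γ(X, O i.1.1) := fun i => i.2.1
  let val : ι' → K := fun i => valueAt (gη ≫ π) (O i.1.1) (hK i.1) (r i)
  obtain ⟨p, hp, hpa⟩ := P1Pow.exists_mk N gη (fun j => coordSpec K (val (e.symm j)))
  haveI := P1Pow.isProper_toBase N X'
  haveI := P1Pow.isProper_toBase N (Spec (CommRingCat.of A))
  haveI : IsSeparated (P1Pow.toBase N X' ≫ π ≫ f) := inferInstance
  haveI : (P1Pow N X').IsSeparated := by
    haveI h : IsSeparated ((P1Pow.toBase N X' ≫ π ≫ f) ≫ terminal.from (Spec (CommRingCat.of A))) := inferInstance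
    exact ⟨by rwa [terminal.comp_from] at h⟩
  haveI : QuasiCompact p := inferInstance
  haveI : QuasiSeparated p := inferInstance
  let W := p.normalization
  have hW : IsAICScheme W := isAICScheme_normalization p (isAICScheme_spec_field K)
  haveI := hW.isIntegral
  let φ : W ⟶ P1Pow N X' := p.fromNormalization
  let t : Spec (CommRingCat.of K) ⟶ W := p.toNormalization
  have htφ : t ≫ φ = p := p.toNormalization_fromNormalization
  have ht : t (IsLocalRing.closedPoint K) = genericPoint W := by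
    have h := (genericPoint_spec (Spec (CommRingCat.of K))).image t.continuous
    rw [Set.image_univ, t.denseRange.closure_range,
      Subsingleton.elim (α := PrimeSpectrum K) (genericPoint (Spec (CommRingCat.of K))) (IsLocalRing.closedPoint K)] at h
    exact h.eq (genericPoint_spec W)
  haveI : IsDominant (φ ≫ P1Pow.toBase N X') := by
    haveI : IsDominant gη := isDominant_of_generic gη hgη
    refine ⟨Dense.mono ?_ gη.denseRange⟩
    rw [← hp, ← htφ, Category.assoc]
    rintro _ ⟨z, rfl⟩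
    exact ⟨t z, (Scheme.Hom.comp_apply _ _ _).symm⟩
  let χ : W ⟶ X := φ ≫ P1Pow.toBase N X' ≫ π
  have htχ : t ≫ χ = gη ≫ π := by
    show t ≫ φ ≫ P1Pow.toBase N X' ≫ π = _
    rw [reassoc_of% htφ, reassoc_of% hp]
  let S := Spec (CommRingCat.of A)
  let ψ : W ⟶ P1Pow N S := φ ≫ P1Pow.map N (π ≫ f)
  let c : ι' → (W ⟶ P1Z.{u}) := fun i => φ ≫ P1Pow.proj N X' (e i)
  have hψc : ∀ i, ψ ≫ P1Pow.proj N S (e i) = c i := fun i => by
    simp only [ψ, c, Category.assoc, P1Pow.map_proj]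
  have hK' : ∀ x : Q, ⊤ ≤ (t ≫ χ) ⁻¹ᵁ O x.1 := htχ.symm ▸ hK
  have hc : ∀ i : ι', t ≫ c i = coordSpec K (valueAt (t ≫ χ) (O i.1.1) (hK' i.1) (r i)) := fun i => by
    show t ≫ φ ≫ _ = _
    rw [reassoc_of% htφ, hpa (e i), e.symm_apply_apply]
    simp only [val, htχ]
  let Oc : Q → (P1Pow N S).Opens := fun x =>
    ⟨⋂ j : s x, ((P1Pow.proj N S (e ⟨x, j⟩)) ⁻¹ᵁ chartι.opensRange : Set (P1Pow N S)),
      isOpen_iInter_of_finite fun j => (P1Pow.proj N S (e ⟨x, j⟩) ⁻¹ᵁ chartι.opensRange).2⟩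
  have hpre : ∀ x : Q, ψ ⁻¹ᵁ Oc x = χ ⁻¹ᵁ O x.1 := fun x => by
    ext w
    constructor
    · intro hw
      have hw' : ∀ j : s x, c ⟨x, j⟩ w ∈ chartι.{u}.opensRange := fun j => by
        rw [← hψc, Scheme.Hom.comp_apply]
        exact Set.mem_iInter.1 hw j
      exact mem_of_coords t χ f (hO x.1) (hK' x) (fun j : s x => c ⟨x, j⟩) (fun j => r ⟨x, j⟩) (hs x) ht
        (fun j => hc ⟨x, j⟩) w hw' (ψ ⁻¹ᵁ Oc x) hw (fun j z hz => by
          show c ⟨x, j⟩ z ∈ chartι.{u}.opensRange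
          rw [← hψc, Scheme.Hom.comp_apply]
          exact Set.mem_iInter.1 hz j)
    · intro hw
      refine Set.mem_iInter.2 fun j => ?_
      show P1Pow.proj N S (e ⟨x, j⟩) (ψ w) ∈ chartι.{u}.opensRange
      rw [← Scheme.Hom.comp_apply, hψc]
      exact coord_mem_chart t χ (hK' x) (c ⟨x, j⟩) (r ⟨x, j⟩) ht (hc ⟨x, j⟩) hw
  haveI : UniversallyClosed ψ := by
    haveI : UniversallyClosed (ψ ≫ P1Pow.toBase N S) := by
      rw [show ψ ≫ P1Pow.toBase N S = φ ≫ P1Pow.toBase N X' ≫ π ≫ f by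
        simp only [ψ, Category.assoc]; rw [(P1Pow.isPullback_map N (π ≫ f)).w]]
      infer_instance
    exact UniversallyClosed.of_comp_of_isSeparated ψ (P1Pow.toBase N S)
  -- the product with a chart is affine over the fibre power
  let R := pullback (P1Pow.toBase N S) f
  let m : P1Pow N X' ⟶ R := pullback.lift (P1Pow.map N (π ≫ f)) (P1Pow.toBase N X' ≫ π)
    ((P1Pow.isPullback_map N (π ≫ f)).w.trans (Category.assoc _ _ _).symm)
  haveI : IsIntegralHom m := by
    refine MorphismProperty.of_isPullback (P := @IsIntegralHom) (IsPullback.of_right (h₁₂ := pullback.fst _ f)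
      ?_ (pullback.lift_snd _ _ _) (IsPullback.of_hasPullback (P1Pow.toBase N S) f)).flip ‹IsIntegralHom π›
    rw [pullback.lift_fst]
    exact P1Pow.isPullback_map N (π ≫ f)
  haveI : IsAffineHom ψ := by
    let Oc' : Option Q → (P1Pow N S).Opens := fun o =>
      o.elim ⟨(Set.range ψ)ᶜ, (ψ.isClosedMap.isClosed_range).isOpen_compl⟩ Oc
    refine (IsZariskiLocalAtTarget.iff_of_iSup_eq_top (P := @IsAffineHom) Oc' ?_).2 fun o => ?_
    · refine eq_top_iff.2 fun y _ => Opens.mem_iSup.2 ?_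
      by_cases hy : y ∈ Set.range ψ
      · obtain ⟨w, rfl⟩ := hy
        obtain ⟨x, hxT, hxw⟩ := Set.mem_iUnion₂.1 (hT (Set.mem_univ (χ w)))
        have hx₀ : x₀ ∈ O x := by
          refine Specializes.mem_open ?_ (O x).2 hxw
          show π (genericPoint X') ⤳ (φ ≫ P1Pow.toBase N X' ≫ π) w
          rw [Scheme.Hom.comp_apply, Scheme.Hom.comp_apply]
          exact (genericPoint_specializes _).map π.continuous
        refine ⟨some ⟨x, hxT, hx₀⟩, ?_⟩
        show w ∈ ψ ⁻¹ᵁ Oc ⟨x, hxT, hx₀⟩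
        rw [hpre]
        exact hxw
      · exact ⟨none, hy⟩
    · cases o with
      | none =>
        haveI : IsEmpty ↥(ψ ⁻¹ᵁ Oc' none).toScheme := ⟨fun z => z.2 ⟨z.1, rfl⟩⟩
        infer_instance
      | some x =>
        haveI : IsAffine (O x.1).toScheme := hO x.1
        let rS := pullback.snd (P1Pow.toBase N S) f
        haveI : IsAffineHom ((rS ⁻¹ᵁ O x.1).ι ≫ pullback.fst (P1Pow.toBase N S) f) := by
          have h := (isPullback_morphismRestrict rS (O x.1)).flip.paste_horiz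
            (IsPullback.of_hasPullback (P1Pow.toBase N S) f)
          haveI : IsAffineHom ((O x.1).ι ≫ f) := isAffineHom_of_isAffine _
          exact MorphismProperty.of_isPullback (P := @IsAffineHom) h.flip ‹_›
        let ω : W ⟶ R := φ ≫ m
        have hω : ω ≫ pullback.fst (P1Pow.toBase N S) f = ψ := by
          simp only [ω, ψ, m, Category.assoc, pullback.lift_fst]
        have hωpre : ω ⁻¹ᵁ (rS ⁻¹ᵁ O x.1) = ψ ⁻¹ᵁ Oc' (some x) := by
          show _ = ψ ⁻¹ᵁ Oc x
          rw [hpre, ← Scheme.Hom.comp_preimage]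
          congr 1
          simp only [ω, χ, m, rS, Category.assoc, pullback.lift_snd]
        haveI : IsAffineHom ((ψ ⁻¹ᵁ Oc' (some x)).ι ≫ ψ) := by
          rw [← hωpre, ← hω, ← Category.assoc, ← morphismRestrict_ι, Category.assoc]
          infer_instance
        haveI : IsAffineHom ((ψ ∣_ Oc' (some x)) ≫ (Oc' (some x)).ι) := by
          rw [morphismRestrict_ι]
          infer_instance
        exact IsAffineHom.of_comp (ψ ∣_ Oc' (some x)) (Oc' (some x)).ι
  haveI : IsIntegralHom ψ := IsIntegralHom.iff_universallyClosed_and_isAffineHom.2 ⟨inferInstance, inferInstance⟩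
  exact ⟨N, W, φ, hW, inferInstance, inferInstance, ‹IsIntegralHom ψ›⟩

/-- An open of an absolutely integrally closed integral scheme is one again. -/
theorem IsAICScheme.opens {X : Scheme.{u}} (hX : IsAICScheme X) (U : X.Opens) [Nonempty U] :
    IsAICScheme U := by
  haveI := hX.isIntegral
  exact ⟨inferInstance, fun z =>
    monicRoot_of_ringEquiv (asIso (U.ι.stalkMap z)).commRingCatIsoToRingEquiv (hX.monicRoot (U.ι z))⟩

/-- Fibre powers of the projective line give fibre acyclicity of all proper morphisms. -/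
theorem fibreAcyclic_of_proper (hP : ∀ (N : ℕ) (S : Scheme.{u}), FibreAcyclic (P1Pow.toBase N S))
    (hB : ∀ (N : ℕ) (S : Scheme.{u}), BCAll (P1Pow.toBase N S)) {X S : Scheme.{u}} (f : X ⟶ S) [IsProper f] :
    FibreAcyclic f := by
  intro X' π hπ hX' Ω _ _ ξ hξ
  obtain ⟨U, hU, hxU, -⟩ := exists_isAffineOpen_mem_and_subset (X := S) (x := ξ default) (U := ⊤) trivial
  have hξU : Set.range ξ ⊆ Set.range U.ι := by
    rw [Scheme.Opens.range_ι]
    rintro _ ⟨z, rfl⟩
    show ξ z ∈ U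
    rw [show z = (default : ↥(Spec (CommRingCat.of Ω))) from Subsingleton.elim (α := PrimeSpectrum Ω) _ _]
    exact hxU
  let ξU : Spec (CommRingCat.of Ω) ⟶ U := IsOpenImmersion.lift U.ι ξ hξU
  have hξU' : ξU ≫ U.ι = ξ := IsOpenImmersion.lift_fac _ _ _
  let ξ' : Spec (CommRingCat.of Ω) ⟶ Spec (CommRingCat.of Γ(S, U)) := ξU ≫ hU.isoSpec.hom
  have hξ' : IsAlgPt ξ' := by
    have h1 : ξ' ≫ (hU.isoSpec.inv ≫ U.ι) = ξ := by
      simp only [ξ', Category.assoc, Iso.hom_inv_id_assoc, hξU']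
    have h2 := hξ
    rw [IsAlgPt, ← h1, Scheme.residueFieldMap_comp] at h2
    exact RingHom.IsIntegral.tower_top _ _ h2
  haveI := hπ
  let U' : X'.Opens := (π ≫ f) ⁻¹ᵁ U
  rcases isEmpty_or_nonempty U' with hE | hN
  · haveI : IsEmpty ↥(pullback (π ≫ f) ξ) := ⟨fun z => hE.false ⟨pullback.fst _ ξ z, by
      show (π ≫ f) (pullback.fst (π ≫ f) ξ z) ∈ U
      rw [← Scheme.Hom.comp_apply, pullback.condition, Scheme.Hom.comp_apply,
        show pullback.snd (π ≫ f) ξ z = (default : ↥(Spec (CommRingCat.of Ω))) from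
          Subsingleton.elim (α := PrimeSpectrum Ω) _ _]
      exact hxU⟩⟩
    exact constAcyclic_of_isEmpty
  let V := f ⁻¹ᵁ U
  let f₁ : (V : Scheme.{u}) ⟶ Spec (CommRingCat.of Γ(S, U)) := (f ∣_ U) ≫ hU.isoSpec.hom
  let π₁ : (U' : Scheme.{u}) ⟶ (V : Scheme.{u}) := π ∣_ V
  haveI : IsProper f₁ := inferInstance
  obtain ⟨N, W, φ, hW, hφ, hdom, hψ⟩ := exists_chow f₁ π₁ (hX'.opens U')
  haveI := hφ
  haveI := hdom
  have h := hP N (Spec (CommRingCat.of Γ(S, U))) (φ ≫ P1Pow.map N (π₁ ≫ f₁)) hψ hW Ω ξ' hξ'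
  have h' : ConstAcyclic (pullback ((φ ≫ P1Pow.toBase N U') ≫ (π₁ ≫ f₁)) ξ') :=
    h.of_iso (pullback.congrHom (by
      rw [Category.assoc, Category.assoc, (P1Pow.isPullback_map N (π₁ ≫ f₁)).w]) rfl)
  have h'' := (constAcyclic_fibration hW (hX'.opens U') φ (P1Pow.toBase N U') (hB N U') (π₁ ≫ f₁) ξ').1 h'
  -- the fibre over the open is the fibre
  have sq : IsPullback U'.ι (π₁ ≫ f₁) (π ≫ f) (hU.isoSpec.inv ≫ U.ι) := by
    refine ((isPullback_morphismRestrict (π ≫ f) U).flip).of_iso (Iso.refl _) (Iso.refl _) hU.isoSpec (Iso.refl _)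
      (by first | (simp; rfl) | simp | rfl) ?_ (by first | (simp; rfl) | simp | rfl) (by first | (simp; rfl) | simp | rfl)
    show (π ≫ f) ∣_ U ≫ hU.isoSpec.hom = 𝟙 _ ≫ π₁ ≫ f₁
    rw [Category.id_comp, morphismRestrict_comp]
    rfl
  have sq' := (IsPullback.of_hasPullback (π₁ ≫ f₁) ξ').paste_horiz sq
  refine h''.of_iso (sq'.isoPullback ≪≫ pullback.congrHom rfl ?_)
  simp only [ξ', Category.assoc, Iso.hom_inv_id_assoc, hξU']

end Groth.Agent.PBCLib
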