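import Groth.Agent.PBCLib.AIC
import Groth.Agent.PBCLib.AICTop
import Groth.Agent.ConstGenLib.Normal
import Groth.Agent.ConstGenLib.SepPoint
import Groth.Agent.EtVanish.Henselian
import Groth.Agent.S0628
import Groth.Agent.S14451
import Groth.Agent.S6634

/-!
# Direct images of constant sheaves from absolutely integrally closed schemes

Constant sheaves on such a scheme have no higher direct images, and the direct image along a
dominant morphism between two such schemes is again constant.
-/

set_option autoImplicit false
set_option backward.isDefEq.respectTransparency false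
set_option backward.isDefEq.respectTransparency.types false
set_option linter.style.haveILetI false

universe u

open CategoryTheory CategoryTheory.Limits AlgebraicGeometry Opposite

noncomputable section

namespace Groth.Agent.PBCLib

open ConstGenLib

theorem henselianLocalRing_field (K : Type u) [Field K] : HenselianLocalRing K := inferInstance

theorem isSepClosed_residue (K : Type u) [Field K] [IsSepClosed K] : IsSepClosed (IsLocalRing.ResidueField K) := by
  let e : K ≃+* IsLocalRing.ResidueField K :=
    RingEquiv.ofBijective _ ⟨(IsLocalRing.residue K).injective, IsLocalRing.residue_surjective⟩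
  exact IsSepClosed.of_exists_root _ fun p hp hi hs => by
    obtain ⟨x, hx⟩ := IsSepClosed.exists_root (p.map e.symm.toRingHom)
      (by rw [Polynomial.degree_map]; exact (Polynomial.degree_pos_of_irreducible hi).ne') (hs.map)
    refine ⟨e x, ?_⟩
    have h := congrArg e.toRingHom hx
    rw [Polynomial.eval_map, Polynomial.hom_eval₂, map_zero] at h
    have he : e.toRingHom.comp e.symm.toRingHom = RingHom.id _ := RingHom.ext fun y => e.apply_symm_apply y
    rw [he] at h
    exact h

/-- Exact direct images preserve cohomology. -/
theorem nonempty_H_push_equiv_of_exact {A B : Scheme.{u}} (f : A ⟶ B) [PreservesFiniteColimits (EtCoh.push f)]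
    (F : EtCoh.Ab A) (n : ℕ) : Nonempty (EtCoh.H B ((EtCoh.push f).obj F) n ≃+ EtCoh.H A F n) := by
  haveI : PreservesFiniteLimits (EtCoh.pull f) := Groth.Agent.S0101.result f
  haveI : (EtCoh.pull f).PreservesMonomorphisms := preservesMonomorphisms_of_preservesLimitsOfShape _
  exact BigSiteLib.nonempty_H_pushforward_equiv (EtCoh.bc f) (EtCoh.pullPushAdj f) (EtCore.topIsTerminal B)
    (EtCore.topIsTerminal A)
    (IsTerminal.uniqueUpToIso (IsTerminal.isTerminalObj (EtCoh.bc f) _ (EtCore.topIsTerminal B)) (EtCore.topIsTerminal A))
    F n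

variable {X : Scheme.{u}} (hX : IsAICScheme X)

include hX

theorem IsAICScheme.isNormalScheme : Pi1.IsNormalScheme X := fun x => by
  haveI := hX.isIntegral
  exact ⟨inferInstance, hX.isIntegrallyClosed_stalk x⟩

theorem IsAICScheme.isSepClosed_functionField : letI := hX.isIntegral; IsSepClosed X.functionField := by
  letI := hX.isIntegral
  haveI := hX.isAlgClosed_functionField
  infer_instance

/-- A field valued point over the generic point satisfies the connectedness condition. -/
theorem connAlong_of_generic {K : Type u} [Field K] (g : Spec (CommRingCat.of K) ⟶ X)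
    (hg : letI := hX.isIntegral; g (IsLocalRing.closedPoint K) = genericPoint X) : ConnAlong g := by
  haveI := hX.isIntegral
  haveI := hX.isAlgClosed_functionField
  intro U u₀
  obtain ⟨V, p, v, ξ, hv, hξ, -, huniq⟩ := exists_nhd hX.isNormalScheme U u₀
  haveI : Etale V.hom := V.prop
  let gV : Spec (CommRingCat.of X.functionField) ⟶ X := X.fromSpecStalk (genericPoint X)
  let φ : Spec (CommRingCat.of K) ⟶ Spec (CommRingCat.of X.functionField) :=
    Spec.map (X.presheaf.stalkSpecializes (specializes_of_eq hg) ≫ Scheme.stalkClosedPointTo g)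
  have hφ : φ ≫ gV = g := by
    show Spec.map _ ≫ X.fromSpecStalk _ = g
    rw [Spec.map_comp, Category.assoc]
    erw [Scheme.SpecMap_stalkSpecializes_fromSpecStalk]
    exact Scheme.Spec_stalkClosedPointTo_fromSpecStalk g
  have hr : Set.range gV = {genericPoint X} := by
    refine (Scheme.range_fromSpecStalk (x := genericPoint X)).trans ?_
    ext z
    exact ⟨fun h => (h.antisymm (genericPoint_specializes z)).eq, fun h => h ▸ specializes_rfl⟩
  let P := pullback V.hom gV
  haveI : IsPreimmersion gV := inferInstanceAs (IsPreimmersion (X.fromSpecStalk _))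
  haveI : IsPreimmersion (pullback.fst V.hom gV) := MorphismProperty.pullback_fst _ _ inferInstance
  haveI hP : Subsingleton P := ⟨fun a b => (pullback.fst V.hom gV).isEmbedding.injective (by
    have hab : ∀ c, V.hom (pullback.fst V.hom gV c) = genericPoint X := fun c => by
      rw [← Scheme.Hom.comp_apply, pullback.condition, Scheme.Hom.comp_apply]
      exact hr.le ⟨_, rfl⟩
    exact (huniq _ (hab a)).trans (huniq _ (hab b)).symm)⟩
  obtain ⟨x, hx⟩ : ξ ∈ Set.range (pullback.fst V.hom gV) := by
    rw [Scheme.Pullback.range_fst]
    show V.hom ξ ∈ Set.range gV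
    exact hr.ge hξ
  haveI := henselianLocalRing_field X.functionField
  haveI := isSepClosed_residue X.functionField
  obtain ⟨σ, hσ, -⟩ := Hensel.exists_section_of_etale (pullback.snd V.hom gV) x
    (Subsingleton.elim (α := PrimeSpectrum X.functionField) _ _)
  haveI : Etale (σ ≫ pullback.snd V.hom gV) := by rw [hσ]; infer_instance
  haveI : Etale σ := Etale.of_comp σ (pullback.snd V.hom gV)
  haveI : IsSplitMono σ := IsSplitMono.mk' ⟨pullback.snd V.hom gV, hσ⟩
  haveI : IsOpenImmersion σ := IsOpenImmersion.of_flat_of_mono σ
  haveI : Surjective σ := ⟨fun b => ⟨IsLocalRing.closedPoint X.functionField, Subsingleton.elim _ _⟩⟩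
  haveI : IsIso σ := (isIso_iff_isOpenImmersion_and_surjective σ).2 ⟨inferInstance, inferInstance⟩
  haveI : IsIso (pullback.snd V.hom gV) := by
    rw [show pullback.snd V.hom gV = inv σ from IsIso.eq_inv_of_hom_inv_id hσ]
    infer_instance
  haveI : IsIso (pullback.snd (pullback.snd V.hom gV) φ) := inferInstance
  let e : pullback V.hom g ≅ Spec (CommRingCat.of K) :=
    (pullback.congrHom rfl hφ).symm ≪≫ (pullbackLeftPullbackSndIso V.hom gV φ).symm ≪≫
      asIso (pullback.snd (pullback.snd V.hom gV) φ)
  let h := (Scheme.homeoOfIso e)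
  haveI : Subsingleton ↥(pullback V.hom g) := h.toEquiv.subsingleton
  exact ⟨V, p, v, hv, (⟨h.symm (IsLocalRing.closedPoint K)⟩ : Nonempty ↥(pullback V.hom g)),
    inferInstanceAs (PreconnectedSpace ↥(pullback V.hom g))⟩

omit hX in
/-- The direct image of a constant sheaf along a dominant morphism of absolutely integrally closed
schemes is constant. -/
theorem nonempty_push_const_iso {W : Scheme.{u}} (hW : IsAICScheme W) (hX : IsAICScheme X) (h : W ⟶ X)
    [IsDominant h] (M : Type) [AddCommGroup M] :
    Nonempty ((EtCoh.push h).obj (EtCoh.const W M) ≅ EtCoh.const X M) := by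
  haveI := hW.isIntegral
  haveI := hX.isIntegral
  let g : Spec (CommRingCat.of W.functionField) ⟶ W := W.fromSpecStalk (genericPoint W)
  have hη : g (IsLocalRing.closedPoint W.functionField) = genericPoint W := Scheme.fromSpecStalk_closedPoint
  have hc : ConnAlong (g ≫ h) := by
    refine connAlong_of_generic hX (g ≫ h) ?_
    rw [Scheme.Hom.comp_apply, hη]
    exact ((genericPoint_spec W).image h.continuous).eq (by
      simpa [h.denseRange.closure_range] using genericPoint_spec X)
  haveI : IsIso ((EtCoh.pullPushAdj (g ≫ h)).unit.app (EtCoh.const X M)) := isIso_unit _ _ hc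
  haveI : IsIso ((EtCoh.pullPushAdj g).unit.app (EtCoh.const W M)) :=
    isIso_unit _ _ (connAlong_fromSpecStalk hW.isNormalScheme)
  exact ⟨(EtCoh.push h).mapIso (asIso ((EtCoh.pullPushAdj g).unit.app (EtCoh.const W M)) ≪≫
      (EtCoh.push g).mapIso (EtCore.pullConst g M)) ≪≫ (EtCoh.pushComp h g).app _ ≪≫
    (EtCoh.push (g ≫ h)).mapIso (EtCore.pullConst (g ≫ h) M).symm ≪≫
    (asIso ((EtCoh.pullPushAdj (g ≫ h)).unit.app (EtCoh.const X M))).symm⟩

end Groth.Agent.PBCLib
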