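import Groth.Agent.PBCLib.Defs
import Groth.Agent.PBCLib.PointH
import Groth.Agent.StrictLocLib.ProperBC
import Groth.Agent.BCVertLib.Connecting
import Groth.Agent.BCVertLib.KilledEfface
import Groth.Agent.S0101

/-!
# Base change at the points from effaceability on the fibres
-/

set_option autoImplicit false
set_option backward.isDefEq.respectTransparency false
set_option backward.isDefEq.respectTransparency.types false
set_option linter.style.haveILetI false
set_option maxHeartbeats 1000000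

universe u

open CategoryTheory CategoryTheory.Limits AlgebraicGeometry Opposite

noncomputable section

namespace Groth.Agent.PBCLib

theorem isIso_bcQ_zero {X S X' S' : Scheme.{u}} (f : X ⟶ S) [IsProper f] (g : S' ⟶ S) (f' : X' ⟶ S') (g' : X' ⟶ X)
    (h : IsPullback g' f' f g) [PreservesFiniteLimits (EtCoh.pull g')] (F : EtCoh.Ab X) :
    IsIso (EtBC.bcQ f g f' g' h.w 0 F) := by
  haveI := StrictLocLib.isIso_baseChange0_proper f g f' g' h F
  haveI : PreservesFiniteLimits (EtCoh.push f) :=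
    (EtCoh.pullPushAdj f).rightAdjoint_preservesLimits.{0, 0}.preservesFiniteLimits
  haveI : PreservesFiniteLimits (EtCoh.push f') :=
    (EtCoh.pullPushAdj f').rightAdjoint_preservesLimits.{0, 0}.preservesFiniteLimits
  haveI : IsIso ((EtCoh.pull g).map ((EtCoh.push f).toRightDerivedZero.app F) ≫ EtBC.bcQ f g f' g' h.w 0 F) := by
    rw [EtBC.bcQ_zero_compat f g f' g' h.w F]
    infer_instance
  exact IsIso.of_isIso_comp_left ((EtCoh.pull g).map ((EtCoh.push f).toRightDerivedZero.app F)) _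

/-- One step of the induction: base change in degree `q + 1` is bijective, when classes are effaced. -/
theorem isIso_bcQ_succ {X S X' : Scheme.{u}} {Ω : Type u} [Field Ω] [IsSepClosed Ω] (f : X ⟶ S)
    (ξ : Spec (CommRingCat.of Ω) ⟶ S) (f' : X' ⟶ Spec (CommRingCat.of Ω)) (g' : X' ⟶ X)
    (w : g' ≫ f = f' ≫ ξ) [PreservesFiniteLimits (EtCoh.pull g')] {n : ℕ} (q : ℕ)
    (hq : ∀ G : EtCoh.Ab X, EtCoh.KilledBy n G → IsIso (EtBC.bcQ f ξ f' g' w q G))
    (heff : ∀ (F : EtCoh.Ab X), EtCoh.KilledBy n F →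
      ∀ c : EtCoh.H X' ((EtCoh.pull g').obj F) (q + 1), ∃ (M : EtCoh.Ab X) (a : F ⟶ M),
        Mono a ∧ EtCoh.KilledBy n M ∧ Sheaf.H.map ((EtCoh.pull g').map a) (q + 1) c = 0)
    (F : EtCoh.Ab X) (hF : EtCoh.KilledBy n F) : IsIso (EtBC.bcQ f ξ f' g' w (q + 1) F) := by
  haveI := S0101.result ξ
  obtain ⟨ε⟩ := nonempty_Rpush_gsec_natIso f' (q + 1)
  have step : ∀ {T : EtCoh.Ab X} (v : F ⟶ T), Mono v → EtCoh.KilledBy n T →
      IsZero ((EtCoh.Rpush f (q + 1)).obj T) →
      ∃ hz : EtBC.bcQ f ξ f' g' w (q + 1) F ≫ (EtCoh.Rpush f' (q + 1)).map ((EtCoh.pull g').map v) = 0,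
        Mono (EtBC.bcQ f ξ f' g' w (q + 1) F) ∧ (ShortComplex.mk _ _ hz).Exact := fun {T} v hv hT hR =>
    BCVertLib.mono_exact_of_acyclic f ξ f' g' w (S₀ := ShortComplex.mk v (cokernel.π v) (cokernel.condition v))
      { exact := ShortComplex.exact_cokernel v } q hR (hq T hT)
      (hq _ (BCVertLib.killedBy_of_epi (cokernel.π v) hT))
  obtain ⟨T, v, hv, hT, hR⟩ := BCVertLib.exists_killed_acyclic f hF
  haveI := (step v hv hT (hR q)).choose_spec.1
  let Γ := StrictLocLib.gsecF (Spec (CommRingCat.of Ω))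
  refine isIso_of_bijective_gsec Ω _ ⟨?_, ?_⟩
  · haveI : Mono ((EtCoh.stalk (𝟙 (Spec (CommRingCat.of Ω)))).map (EtBC.bcQ f ξ f' g' w (q + 1) F)) :=
      inferInstance
    haveI : Mono (Γ.map (EtBC.bcQ f ξ f' g' w (q + 1) F)) := by
      have e := (gsecStalkIso Ω (𝟙 _)).hom.naturality (EtBC.bcQ f ξ f' g' w (q + 1) F)
      haveI : Mono (Γ.map (EtBC.bcQ f ξ f' g' w (q + 1) F) ≫ (gsecStalkIso Ω (𝟙 _)).hom.app _) := by
        rw [e]; exact mono_comp _ _
      exact mono_of_mono _ ((gsecStalkIso Ω (𝟙 _)).hom.app _)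
    exact (AddCommGrpCat.mono_iff_injective _).1 inferInstance
  · intro r
    obtain ⟨M, a, ha, hM, h0⟩ := heff F hF ((ε.hom.app ((EtCoh.pull g').obj F)) r)
    obtain ⟨T', v', hv', hT', hR'⟩ := BCVertLib.exists_killed_acyclic f hM
    obtain ⟨hz, -, hex⟩ := step (a ≫ v') (mono_comp _ _) hT' (hR' q)
    have hr : Γ.map ((EtCoh.Rpush f' (q + 1)).map ((EtCoh.pull g').map (a ≫ v'))) r = 0 := by
      apply (ConcreteCategory.bijective_of_isIso (ε.hom.app ((EtCoh.pull g').obj T'))).1
      rw [map_zero]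
      refine (ConcreteCategory.congr_hom (ε.hom.naturality ((EtCoh.pull g').map (a ≫ v'))) r).trans ?_
      show Sheaf.H.map ((EtCoh.pull g').map (a ≫ v')) (q + 1) (ε.hom.app ((EtCoh.pull g').obj F) r) = 0
      have h1 : (EtCoh.HF X' (q + 1)).map ((EtCoh.pull g').map a ≫ (EtCoh.pull g').map v')
          (ε.hom.app ((EtCoh.pull g').obj F) r) = 0 := by
        rw [Functor.map_comp, ConcreteCategory.comp_apply]
        exact (congrArg _ h0).trans (map_zero _)
      rw [Functor.map_comp]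
      exact h1
    exact (ShortComplex.ab_exact_iff _).1 (gsec_exact Ω hex) r hr

/-- **Base change at the points.** -/
theorem bcAtPts_of_effaceable {X S : Scheme.{u}} (f : X ⟶ S) [IsProper f] (hf : Effaceable f) : BCAtPts f := by
  intro n hn Ω _ _ ξ hξ _ F hF q
  induction q generalizing F with
  | zero => exact isIso_bcQ_zero f ξ _ _ (IsPullback.of_hasPullback f ξ) F
  | succ q ih =>
    exact isIso_bcQ_succ f ξ _ _ pullback.condition q ih
      (fun G hG c => hf n hn Ω ξ hξ G hG (q + 1) q.succ_pos c) F hF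

/-- Effaceability at all points gives base change at all geometric points. -/
theorem isIso_bcQ_of_effaceableAny {X S : Scheme.{u}} (f : X ⟶ S) [IsProper f] (hf : EffaceableAny f) {n : ℕ}
    (hn : 0 < n) (Ω : Type u) [Field Ω] [IsAlgClosed Ω] (ξ : Spec (CommRingCat.of Ω) ⟶ S)
    [PreservesFiniteLimits (EtCoh.pull (pullback.fst f ξ))] (F : EtCoh.Ab X) (hF : EtCoh.KilledBy n F) (q : ℕ) :
    IsIso (EtBC.bcQ f ξ (pullback.snd f ξ) (pullback.fst f ξ) pullback.condition q F) := by
  induction q generalizing F with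
  | zero => exact isIso_bcQ_zero f ξ _ _ (IsPullback.of_hasPullback f ξ) F
  | succ q ih =>
    exact isIso_bcQ_succ f ξ _ _ pullback.condition q ih
      (fun G hG c => hf n hn Ω ξ G hG (q + 1) q.succ_pos c) F hF

end Groth.Agent.PBCLib
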