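import Groth.Agent.FLCLib.Ops
import Groth.Agent.ExtNatLib.Basic
import Groth.Agent.EtTraceLib.Coh
import Groth.Agent.S0646
import Groth.Agent.S0642

/-!
# Classes killed by inverse images

Vanishing of a class under inverse image, without keeping track of the comparison isomorphisms, and the
descent of vanishing of first cohomology to a limit of closed subschemes.
-/

set_option autoImplicit false
set_option linter.style.haveILetI false
set_option backward.isDefEq.respectTransparency false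
set_option backward.isDefEq.respectTransparency.types false
set_option maxHeartbeats 1000000

universe u

open CategoryTheory CategoryTheory.Limits AlgebraicGeometry Opposite CategoryTheory.Abelian

noncomputable section

namespace Groth.Agent.PBCLib

section

variable {X Y Z : Scheme.{u}}

theorem mapPull_comp_eq_zero_iff (f : X ⟶ Y) (g : Y ⟶ Z) (h : X ⟶ Z) (w : f ≫ g = h) {A B : EtCoh.Ab Z} {n : ℕ}
    (x : Ext A B n) :
    x.mapExactFunctor (EtCoh.pull h) = 0 ↔
      (x.mapExactFunctor (EtCoh.pull g)).mapExactFunctor (EtCoh.pull f) = 0 := by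
  subst w
  haveI : PreservesFiniteLimits (EtCoh.pull g ⋙ EtCoh.pull f) := comp_preservesFiniteLimits _ _
  haveI : PreservesFiniteColimits (EtCoh.pull g ⋙ EtCoh.pull f) := comp_preservesFiniteColimits _ _
  rw [← EtTraceLib.mapExactFunctor_functor_comp]
  let e := EtCore.pullComp f g
  have h1 := ExtNatLib.mapExactFunctor_naturality (EtCoh.pull (f ≫ g)) (EtCoh.pull g ⋙ EtCoh.pull f) e.hom n x
  have h2 := ExtNatLib.mapExactFunctor_naturality (EtCoh.pull g ⋙ EtCoh.pull f) (EtCoh.pull (f ≫ g)) e.inv n x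
  constructor
  · intro h0
    rw [h0, Ext.zero_comp] at h1
    have := congrArg (fun z => (Ext.mk₀ (e.inv.app A)).comp z (zero_add n)) h1
    simpa using this.symm
  · intro h0
    rw [h0, Ext.zero_comp] at h2
    have := congrArg (fun z => (Ext.mk₀ (e.hom.app A)).comp z (zero_add n)) h2
    simpa using this.symm

theorem Hpull_eq_zero_iff (f : X ⟶ Y) (F : EtCoh.Ab Y) (n : ℕ) (x : EtCoh.H Y F n) :
    EtCore.Hpull f F n x = 0 ↔ x.mapExactFunctor (EtCoh.pull f) = 0 := by
  show (Ext.mk₀ (EtCore.pullConst f ℤ).inv).comp (Ext.mapExactFunctor (EtCoh.pull f) x) (zero_add n) = 0 ↔ _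
  refine ⟨fun h => ?_, fun h => by rw [h, Ext.comp_zero]⟩
  simpa using congrArg (fun z => (Ext.mk₀ (EtCore.pullConst f ℤ).hom).comp z (zero_add n)) h

/-- Composition with the inverse image of an isomorphism does not affect vanishing. -/
theorem mapPull_sandwich {W : Scheme.{u}} {A A' B : EtCoh.Ab W} {n : ℕ} (a : A' ⟶ A) [IsIso a]
    (g : EtCoh.Ab W ⥤ EtCoh.Ab X)
    [g.Additive] [PreservesFiniteLimits g] [PreservesFiniteColimits g] (y : Ext (g.obj A) (g.obj B) n) :
    y = 0 ↔ ((Ext.mk₀ a).mapExactFunctor g).comp y (zero_add n) = 0 := by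
  refine ⟨fun h => by rw [h, Ext.comp_zero], fun h => ?_⟩
  rw [Ext.mapExactFunctor_mk₀] at h
  simpa [← Functor.map_comp] using congrArg (fun z => (Ext.mk₀ (g.map (inv a))).comp z (zero_add n)) h

theorem map_map_eq_zero {F G : EtCoh.Ab Y} (f : X ⟶ Y) (b : F ⟶ G) {n : ℕ} (x : EtCoh.H Y F n)
    (h : x.mapExactFunctor (EtCoh.pull f) = 0) :
    (Sheaf.H.map b n x).mapExactFunctor (EtCoh.pull f) = 0 := by
  show (x.comp (Ext.mk₀ b) (add_zero n)).mapExactFunctor (EtCoh.pull f) = 0
  rw [Ext.mapExactFunctor_comp, h, Ext.zero_comp]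

theorem injective_map_iso {F G : EtCoh.Ab X} (e : F ≅ G) (n : ℕ) : Function.Injective (Sheaf.H.map e.hom n) :=
  fun a b hab => by
    simpa [← Sheaf.H.map_comp_apply, Sheaf.H.map_id_apply] using congrArg (Sheaf.H.map e.inv n) hab

theorem subsingleton_H_pull_const_iff (f : X ⟶ Y) (M : Type) [AddCommGroup M] (n : ℕ) :
    Subsingleton (EtCoh.H X ((EtCoh.pull f).obj (EtCoh.const Y M)) n) ↔
      Subsingleton (EtCoh.H X (EtCoh.const X M) n) :=
  ⟨fun h => haveI := h; (injective_map_iso (EtCore.pullConst f M).symm n).subsingleton,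
    fun h => haveI := h; (injective_map_iso (EtCore.pullConst f M) n).subsingleton⟩

/-- Every class with constant coefficients dies on a scheme without such classes. -/
theorem mapPull_eq_zero_of_subsingleton (f : X ⟶ Y) (M : Type) [AddCommGroup M] (n : ℕ)
    (h : Subsingleton (EtCoh.H X (EtCoh.const X M) n)) (x : EtCoh.H Y (EtCoh.const Y M) n) :
    x.mapExactFunctor (EtCoh.pull f) = 0 :=
  (Hpull_eq_zero_iff f _ n x).1 (@Subsingleton.elim _ ((subsingleton_H_pull_const_iff f M n).2 h) _ _)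

/-- Universal homeomorphisms do not change the vanishing of constant coefficient cohomology. -/
theorem subsingleton_H_const_iff_of_universalHomeomorph (f : X ⟶ Y) [IsIntegralHom f] [UniversallyInjective f]
    [Surjective f] (M : Type) [AddCommGroup M] (n : ℕ) :
    Subsingleton (EtCoh.H X (EtCoh.const X M) n) ↔ Subsingleton (EtCoh.H Y (EtCoh.const Y M) n) := by
  rw [← subsingleton_H_pull_const_iff f M n]
  have hb := Groth.Agent.S0642.result f (EtCoh.const Y M) n
  exact ⟨fun h => haveI := h; hb.1.subsingleton, fun h => haveI := h; hb.2.subsingleton⟩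

end

/-- Vanishing of first cohomology on a limit of closed subschemes, if classes lift to the ambient schemes. -/
theorem subsingleton_H_one_of_limit {ι : Type u} [Preorder ι] [IsDirected ι (· ≤ ·)] [Nonempty ι]
    (Xs : ιᵒᵖ ⥤ Scheme.{u}) (haff : ∀ ⦃a b : ιᵒᵖ⦄ (h : a ⟶ b), IsAffineHom (Xs.map h))
    (hqc : ∀ a, CompactSpace ↥(Xs.obj a)) (hqs : ∀ a, QuasiSeparatedSpace ↥(Xs.obj a))
    (c : Cone Xs) (hc : IsLimit c) {Z : Scheme.{u}} (i : c.pt ⟶ Z) (Xp : ιᵒᵖ → Scheme.{u})
    (j : ∀ a, Xs.obj a ⟶ Xp a) (P : ∀ a, Z ⟶ Xp a) (w : ∀ a, i ≫ P a = c.π.app a ≫ j a)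
    (M : Type) [AddCommGroup M]
    (hsurj : ∀ a, Function.Surjective (EtCore.Hpull (j a) (EtCoh.const (Xp a) M) 1))
    (hZ : Subsingleton (EtCoh.H Z (EtCoh.const Z M) 1)) :
    Subsingleton (EtCoh.H c.pt (EtCoh.const c.pt M) 1) := by
  have key : ∀ (a : ιᵒᵖ) (ξ : EtCoh.H (Xs.obj a) (EtCoh.const (Xs.obj a) M) 1),
      ξ.mapExactFunctor (EtCoh.pull (c.π.app a)) = 0 := by
    intro a ξ
    obtain ⟨x, hx⟩ := hsurj a (Sheaf.H.map (EtCore.pullConst (j a) M).inv 1 ξ)
    have e : ξ = Sheaf.H.map (EtCore.pullConst (j a) M).hom 1 (EtCore.Hpull (j a) (EtCoh.const (Xp a) M) 1 x) := by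
      rw [hx, ← Sheaf.H.map_comp_apply, Iso.inv_hom_id, Sheaf.H.map_id_apply]
    rw [e]
    apply map_map_eq_zero
    show ((Ext.mk₀ (EtCore.pullConst (j a) ℤ).inv).comp (Ext.mapExactFunctor (EtCoh.pull (j a)) x) (zero_add 1)).mapExactFunctor
      (EtCoh.pull (c.π.app a)) = 0
    rw [Ext.mapExactFunctor_comp]
    have h1 : (x.mapExactFunctor (EtCoh.pull (P a))).mapExactFunctor (EtCoh.pull i) = 0 := by
      rw [mapPull_eq_zero_of_subsingleton (P a) M 1 hZ x, Ext.mapExactFunctor_zero]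
    rw [(mapPull_comp_eq_zero_iff (c.π.app a) (j a) (i ≫ P a) (w a).symm x).1
      ((mapPull_comp_eq_zero_iff i (P a) (i ≫ P a) rfl x).2 h1), Ext.comp_zero]
  obtain ⟨i₀⟩ := ‹Nonempty ι›
  refine (subsingleton_H_pull_const_iff (c.π.app (op i₀)) M 1).1 (subsingleton_of_forall_eq 0 fun ξ => ?_)
  obtain ⟨k, hk, ξk, rfl⟩ := (Groth.Agent.S0646.result Xs haff hqc hqs c hc i₀ (EtCoh.const (Xs.obj (op i₀)) M) 1).1 ξ
  let e := EtCore.pullConst (Xs.map (homOfLE hk).op) M
  have hz : EtCore.Hpull (c.π.app (op k)) _ 1 ξk = 0 := by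
    rw [Hpull_eq_zero_iff]
    have e1 : ξk = Sheaf.H.map e.inv 1 (Sheaf.H.map e.hom 1 ξk) := by
      rw [← Sheaf.H.map_comp_apply, Iso.hom_inv_id, Sheaf.H.map_id_apply]
    rw [e1]
    exact map_map_eq_zero _ _ _ (key _ _)
  show ((EtCoh.HF c.pt 1).map _).hom (EtCore.Hpull (c.π.app (op k)) _ 1 ξk) = 0
  rw [hz]
  exact map_zero _

end Groth.Agent.PBCLib
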