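import Groth.Agent.PBCLib.AICTop
import Groth.Agent.PBCLib.PullZero
import Groth.Agent.S7382
import Groth.Agent.S9683
import Groth.Agent.S0469
import Groth.Agent.S0641
import Mathlib.CategoryTheory.Limits.Constructions.Over.Connected
import Mathlib.Topology.Spectral.Basic

/-!
# Fibres of relative curves over henselian points

Let `W` be an absolutely integrally closed integral scheme, integral over a scheme `Y` proper over `V`, and `v`
a point of `V` with henselian local ring over which `Y` has dimension at most one.  Constant sheaves are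
acyclic on the fibre of `W` at `v`: in degree one classes lift to the localisation at `v`, which is irreducible.
-/

set_option autoImplicit false
set_option linter.style.haveILetI false
set_option backward.isDefEq.respectTransparency false
set_option backward.isDefEq.respectTransparency.types false

universe u

open CategoryTheory CategoryTheory.Limits AlgebraicGeometry Opposite TopologicalSpace

noncomputable section

namespace Groth.Agent.PBCLib

/-- Schemes with surjective maps of local rings to an AIC scheme have strictly henselian local rings. -/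
theorem IsAICScheme.isStrictlyHenselian_of_surjectiveOnStalks {W Z : Scheme.{u}} (hW : IsAICScheme W)
    (i : Z ⟶ W) [SurjectiveOnStalks i] (z : Z) : EtCoh.IsStrictlyHenselianLocalRing (Z.presheaf.stalk z) :=
  AICVanishLib.isStrictlyHenselian_of_monicRoot
    (AICVanishLib.monicRoot_of_surjective (i.stalkMap z).hom (i.stalkMap_surjective z) (hW.monicRoot (i z)))

/-- Constant sheaves are acyclic above the dimension. -/
theorem subsingleton_H_const_of_dim_le {Z : Scheme.{u}} [CompactSpace Z] [QuasiSeparatedSpace Z]
    (hS : ∀ z : Z, EtCoh.IsStrictlyHenselianLocalRing (Z.presheaf.stalk z))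
    (d : ℕ) (hd : topologicalKrullDim Z ≤ d) (M : Type) [AddCommGroup M] (q : ℕ) (hq : d < q) :
    Subsingleton (EtCoh.H Z (EtCoh.const Z M) q) := by
  haveI : CompactSpace (topU Z) := (Homeomorph.ulift.{u + 1, u} (X := Z)).symm.compactSpace
  haveI : SpectralSpace Z := {}
  haveI : SpectralSpace (topU Z) := (Homeomorph.ulift.{u + 1, u} (X := Z)).isOpenEmbedding.spectralSpace
  refine subsingleton_H_const hS M q (Groth.Agent.S0469.result d ?_ _ q hq)
  rw [IsHomeomorph.topologicalKrullDim_eq _ (Homeomorph.ulift.{u + 1, u} (X := Z)).isHomeomorph]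
  exact hd

/-- The localisation at a point of the base of an irreducible scheme is irreducible or empty. -/
theorem irreducibleSpace_of_isPullback_fromSpecStalk {W V Z : Scheme.{u}} [IrreducibleSpace W] (g : W ⟶ V) (v : V)
    {q : Z ⟶ W} {r : Z ⟶ Spec (V.presheaf.stalk v)} (sq : IsPullback q r g (V.fromSpecStalk v)) [Nonempty Z] :
    IrreducibleSpace Z := by
  haveI : IsPreimmersion q := MorphismProperty.of_isPullback (P := @IsPreimmersion) sq.flip inferInstance
  obtain ⟨z₀⟩ := ‹Nonempty Z›
  have hg : g (q z₀) ⤳ v := by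
    rw [← Scheme.Hom.comp_apply, sq.w, Scheme.Hom.comp_apply]
    exact Scheme.range_fromSpecStalk.subset (Set.mem_range_self _)
  let η := genericPoint W
  have hη : g η ⤳ v := ((genericPoint_specializes (q z₀)).map g.continuous).trans hg
  obtain ⟨t, ht⟩ : g η ∈ Set.range (V.fromSpecStalk v) := Scheme.range_fromSpecStalk.symm.subset hη
  obtain ⟨e', he', -⟩ := Scheme.Pullback.exists_preimage_pullback (f := g) (g := V.fromSpecStalk v) η t ht.symm
  let e : Z := sq.isoPullback.inv e'
  have he : q e = η := by
    show q (sq.isoPullback.inv e') = η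
    rw [← Scheme.Hom.comp_apply, sq.isoPullback_inv_fst, he']
  have hgen : IsGenericPoint e (⊤ : Set Z) := by
    refine (isGenericPoint_iff_specializes).2 fun x => ⟨fun _ => trivial, fun _ => ?_⟩
    exact q.isEmbedding.specializes_iff.1 (he.symm ▸ genericPoint_specializes (q x))
  exact { toPreirreducibleSpace := ⟨by simpa using hgen.isIrreducible.2⟩, toNonempty := inferInstance }

/-- The localisation at a point of the base of an AIC scheme has no higher cohomology of constant sheaves. -/
theorem subsingleton_H_const_localization {W V Z : Scheme.{u}} (hW : IsAICScheme W) (g : W ⟶ V) (v : V)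
    {q : Z ⟶ W} {r : Z ⟶ Spec (V.presheaf.stalk v)} (sq : IsPullback q r g (V.fromSpecStalk v))
    (M : Type) [AddCommGroup M] (n : ℕ) (hn : 0 < n) : Subsingleton (EtCoh.H Z (EtCoh.const Z M) n) := by
  haveI := hW.isIntegral
  haveI : IsPreimmersion q := MorphismProperty.of_isPullback (P := @IsPreimmersion) sq.flip inferInstance
  rcases isEmpty_or_nonempty Z with hZ | hZ
  · haveI : IsEmpty (IrreducibleCloseds Z) := ⟨fun C => hZ.false C.isIrreducible.nonempty.some⟩
    refine subsingleton_H_const_of_dim_le (fun z => (hZ.false z).elim) 0 ?_ M n hn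
    rw [topologicalKrullDim, Order.krullDim_eq_bot]
    exact bot_le
  · haveI := irreducibleSpace_of_isPullback_fromSpecStalk g v sq
    exact subsingleton_H_const_of_irreducible (hW.isStrictlyHenselian_of_surjectiveOnStalks q) M n hn

theorem subsingleton_H_one_closedFibre {W Y V : Scheme.{u}} (hW : IsAICScheme W) (π : W ⟶ Y) [IsIntegralHom π]
    (p : Y ⟶ V) [IsProper p] (v : V) (hv : HenselianLocalRing (V.presheaf.stalk v))
    (M : Type) [AddCommGroup M] [Finite M] :
    Subsingleton (EtCoh.H (pullback (π ≫ p) (V.fromSpecResidueField v))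
      (EtCoh.const (pullback (π ≫ p) (V.fromSpecResidueField v)) M) 1) := by
  haveI := hv
  let O := V.presheaf.stalk v
  let s : Spec O ⟶ V := V.fromSpecStalk v
  let r : Spec (CommRingCat.of (IsLocalRing.ResidueField O)) ⟶ Spec O :=
    Spec.map (CommRingCat.ofHom (IsLocalRing.residue O))
  have hres : r ≫ s = V.fromSpecResidueField v := rfl
  let Y1 := pullback p s
  let p1 : Y1 ⟶ Spec O := pullback.snd p s
  let π1 : pullback π (pullback.fst p s) ⟶ Y1 := pullback.snd π (pullback.fst p s)
  haveI : IsProper p1 := MorphismProperty.pullback_snd (P := @IsProper) _ _ inferInstance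
  haveI : IsIntegralHom π1 := MorphismProperty.pullback_snd (P := @IsIntegralHom) _ _ inferInstance
  haveI : CompactSpace Y1 := QuasiCompact.compactSpace_of_compactSpace p1
  haveI : QuasiSeparatedSpace Y1 := quasiSeparatedSpace_of_quasiSeparated p1
  obtain ⟨I, _, _, _, D, c, hc, hD, ⟨e⟩⟩ := Groth.Agent.S7382.result π1
  haveI : IsConnected Iᵒᵖ := by
    haveI : IsConnected I := IsFiltered.isConnected I
    infer_instance
  -- the localisation of `W` at `v`
  have sqY : IsPullback (pullback.fst p s) p1 p s := IsPullback.of_hasPullback p s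
  have sqπ : IsPullback (pullback.fst π (pullback.fst p s)) π1 π (pullback.fst p s) := IsPullback.of_hasPullback _ _
  let el := (Over.forget Y1).mapIso e
  have hel : el.hom ≫ π1 = c.pt.hom := Over.w e.hom
  have sqZ : IsPullback (el.hom ≫ pullback.fst π (pullback.fst p s)) (c.pt.hom ≫ p1) (π ≫ p) s :=
    (sqπ.paste_vert sqY).of_iso el.symm (Iso.refl _) (Iso.refl _) (Iso.refl _) (by simp)
      (by simp [← hel]) (by simp) (by simp)
  -- the system of closed fibres
  let F : Over Y1 ⥤ Over (Spec O) := Over.map p1
  let c' := F.mapCone c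
  let hl : IsLimit c' :=
    isLimitOfReflects (Over.forget _) (isLimitOfPreserves (Over.forget Y1) hc)
  let D0 : Iᵒᵖ ⥤ Scheme.{u} := (D ⋙ F) ⋙ Over.pullback r ⋙ Over.forget _
  let c0 : Cone D0 := (Over.pullback r ⋙ Over.forget _).mapCone c'
  let hl0 : IsLimit c0 := isLimitOfPreserves (Over.forget _) (isLimitOfPreserves (Over.pullback r) hl)
  have hfin : ∀ a, IsFinite (D.obj a).hom := fun a => (hD a).1
  have hprop : ∀ a, IsProper ((D.obj a).hom ≫ p1) := fun a => by
    haveI := hfin a
    infer_instance
  have haff : ∀ ⦃a b : Iᵒᵖ⦄ (h : a ⟶ b), IsAffineHom (D0.map h) := fun a b h => by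
    haveI := hfin a
    haveI := hfin b
    haveI : IsAffineHom ((D.map h).left ≫ (D.obj b).hom) := by rw [Over.w]; infer_instance
    haveI : IsAffineHom (D.map h).left := IsAffineHom.of_comp (D.map h).left (D.obj b).hom
    haveI : IsAffineHom (pullback.fst ((D.obj a).hom ≫ p1) r) :=
      MorphismProperty.pullback_fst (P := @IsAffineHom) _ _ inferInstance
    have w : D0.map h ≫ pullback.fst ((D.obj b).hom ≫ p1) r =
        pullback.fst ((D.obj a).hom ≫ p1) r ≫ (D.map h).left := by
      exact pullback.lift_fst _ _ _
    haveI : IsAffineHom (D0.map h ≫ pullback.fst ((D.obj b).hom ≫ p1) r) := by rw [w]; infer_instance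
    exact IsAffineHom.of_comp (D0.map h) (pullback.fst ((D.obj b).hom ≫ p1) r)
  have hqc : ∀ a, CompactSpace ↥(D0.obj a) := fun a => by
    haveI := hprop a
    exact QuasiCompact.compactSpace_of_compactSpace (pullback.snd ((D.obj a).hom ≫ p1) r)
  have hqs : ∀ a, QuasiSeparatedSpace ↥(D0.obj a) := fun a => by
    haveI := hprop a
    exact quasiSeparatedSpace_of_quasiSeparated (pullback.snd ((D.obj a).hom ≫ p1) r)
  have hZ := subsingleton_H_const_localization hW (π ≫ p) v sqZ M 1 one_pos
  have h0 : Subsingleton (EtCoh.H c0.pt (EtCoh.const c0.pt M) 1) := by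
    refine subsingleton_H_one_of_limit D0 haff hqc hqs c0 hl0 (pullback.fst (c.pt.hom ≫ p1) r)
      (fun a => (D.obj a).left) (fun a => pullback.fst ((D.obj a).hom ≫ p1) r) (fun a => (c.π.app a).left)
      (fun a => ?_) M (fun a => ?_) hZ
    · exact (pullback.lift_fst _ _ _).symm
    · haveI := hprop a
      exact (Groth.Agent.S0641.result O _ ((D.obj a).hom ≫ p1) M).2
  have sq0 : IsPullback (pullback.fst (c.pt.hom ≫ p1) r ≫ el.hom ≫ pullback.fst π (pullback.fst p s))
      (pullback.snd (c.pt.hom ≫ p1) r) (π ≫ p) (r ≫ s) :=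
    (IsPullback.of_hasPullback (c.pt.hom ≫ p1) r).paste_horiz sqZ
  rw [hres] at sq0
  exact (subsingleton_H_const_iff_of_universalHomeomorph sq0.isoPullback.hom M 1).1 h0

/-- Constant sheaves are acyclic on the fibre at a henselian point of a relative curve. -/
theorem constAcyclic_fibre {W Y V : Scheme.{u}} (hW : IsAICScheme W) (π : W ⟶ Y) [IsIntegralHom π]
    (p : Y ⟶ V) [IsProper p] (v : V) (hv : HenselianLocalRing (V.presheaf.stalk v))
    (hdim : topologicalKrullDim ↥(pullback p (V.fromSpecResidueField v)) ≤ 1) :
    ConstAcyclic (pullback (π ≫ p) (V.fromSpecResidueField v)) := by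
  intro d hd q hq
  haveI : NeZero d := ⟨hd.ne'⟩
  rcases (Nat.succ_le_of_lt hq).eq_or_lt with h | h
  · obtain rfl : q = 1 := h.symm
    exact subsingleton_H_one_closedFibre hW π p v hv (ZMod d)
  let i := V.fromSpecResidueField v
  haveI : CompactSpace ↥(pullback (π ≫ p) i) := QuasiCompact.compactSpace_of_compactSpace (pullback.snd (π ≫ p) i)
  haveI : QuasiSeparatedSpace ↥(pullback (π ≫ p) i) :=
    quasiSeparatedSpace_of_quasiSeparated (pullback.snd (π ≫ p) i)
  refine subsingleton_H_const_of_dim_le (hW.isStrictlyHenselian_of_surjectiveOnStalks (pullback.fst (π ≫ p) i))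
    1 ?_ _ q h
  let j : pullback (π ≫ p) i ⟶ pullback p i :=
    pullback.lift (pullback.fst _ _ ≫ π) (pullback.snd _ _) (by rw [Category.assoc]; exact pullback.condition)
  have sqj : IsPullback (pullback.fst (π ≫ p) i) j π (pullback.fst p i) :=
    IsPullback.of_bot (by simpa [j] using IsPullback.of_hasPullback (π ≫ p) i) (by simp [j])
      (IsPullback.of_hasPullback p i)
  haveI : IsIntegralHom j := MorphismProperty.of_isPullback (P := @IsIntegralHom) sqj inferInstance
  exact (Groth.Agent.S9683.result j).1.trans hdim

end Groth.Agent.PBCLib
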