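import Groth.Agent.PBCLib.Chow
import Groth.Agent.PBCLib.Descend
import Groth.Agent.PBCLib.Embed
import Groth.Agent.PBCLib.Delta
import Groth.Agent.PBCLib.FieldExt
import Groth.Agent.PBCLib.Assemble
import Groth.Agent.S0642

/-!
# From fibre acyclicity to effaceability at all geometric points and over all bases
-/

set_option autoImplicit false
set_option backward.isDefEq.respectTransparency false
set_option backward.isDefEq.respectTransparency.types false
set_option linter.style.haveILetI false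
set_option maxHeartbeats 1000000

universe u

open CategoryTheory CategoryTheory.Limits AlgebraicGeometry Opposite

noncomputable section

namespace Groth.Agent.PBCLib

theorem FibreAcyclic.of_iso {X' X S : Scheme.{u}} (e : X' ≅ X) {f : X ⟶ S} (h : FibreAcyclic f) :
    FibreAcyclic (e.hom ≫ f) := by
  intro Y π hπ hY Ω _ _ ξ hξ
  haveI := hπ
  exact (h (π ≫ e.hom) inferInstance hY Ω ξ hξ).of_iso (pullback.congrHom (Category.assoc _ _ _) rfl)

theorem UFibreAcyclic.baseChange {X S X' S' : Scheme.{u}} {f : X ⟶ S} (h : UFibreAcyclic f) {g : S' ⟶ S}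
    {f' : X' ⟶ S'} {g' : X' ⟶ X} (sq : IsPullback g' f' f g) : UFibreAcyclic f' :=
  fun _ _ g₁ f₁ g₁' sq₁ => h (g₁ ≫ g) f₁ (g₁' ≫ g') (sq₁.paste_horiz sq)

theorem uFibreAcyclic_P1Pow {N : ℕ} (hP : ∀ S : Scheme.{u}, FibreAcyclic (P1Pow.toBase N S)) (S : Scheme.{u}) :
    UFibreAcyclic (P1Pow.toBase N S) := by
  intro X' S' g f' g' sq
  have h := (hP S').of_iso (sq.isoIsPullback _ _ (P1Pow.isPullback_map N g))
  rwa [IsPullback.isoIsPullback_hom_snd] at h

theorem map_map_eq_zero_of_square {Z : Scheme.{u}} {A B A' B' : EtCoh.Ab Z} (e : A ⟶ B) (e' : A' ⟶ B') (f : A ⟶ A')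
    (g : B ⟶ B') (h : f ≫ e' = e ≫ g) (q : ℕ) (y : EtCoh.H Z A q) (hy : Sheaf.H.map f q y = 0) :
    Sheaf.H.map g q (Sheaf.H.map e q y) = 0 := by
  rw [CompBCLib.H_map_map, ← h, ← CompBCLib.H_map_map, hy, map_zero]

theorem glue_map_hom_map_inv {Z : Scheme.{u}} {A B : EtCoh.Ab Z} (e : A ≅ B) (q : ℕ) (c : EtCoh.H Z B q) :
    Sheaf.H.map e.hom q (Sheaf.H.map e.inv q c) = c := by
  rw [CompBCLib.H_map_map, Iso.inv_hom_id, CompBCLib.H_map_id]

theorem glue_map_pull_eq_zero {Z Z₁ : Scheme.{u}} (w : Z ⟶ Z₁) [PreservesFiniteLimits (EtCoh.pull w)]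
    {A B : EtCoh.Ab Z₁} (b : A ⟶ B) (q : ℕ) (x : EtCoh.H Z₁ A q) (h : Sheaf.H.map b q x = 0) :
    Sheaf.H.map ((EtCoh.pull w).map b) q (EtCore.Hpull w A q x) = 0 := by
  exact (CompBCLib.Hpull_map w b x).symm.trans ((congrArg (EtCore.Hpull w B q) h).trans (map_zero _))

/-- Effacement along a morphism which is surjective on cohomology. -/
theorem efface_comp {Z Z₁ X : Scheme.{u}} (w : Z ⟶ Z₁) (p : Z₁ ⟶ X) (h : Z ⟶ X) (hw : w ≫ p = h)
    [PreservesFiniteLimits (EtCoh.pull w)] {n : ℕ} (F : EtCoh.Ab X) (q : ℕ)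
    (hs : Function.Surjective (EtCore.Hpull w ((EtCoh.pull p).obj F) q))
    (heff : ∀ x : EtCoh.H Z₁ ((EtCoh.pull p).obj F) q, ∃ (M : EtCoh.Ab X) (a : F ⟶ M), Mono a ∧
      EtCoh.KilledBy n M ∧ Sheaf.H.map ((EtCoh.pull p).map a) q x = 0)
    (c : EtCoh.H Z ((EtCoh.pull h).obj F) q) :
    ∃ (M : EtCoh.Ab X) (a : F ⟶ M), Mono a ∧ EtCoh.KilledBy n M ∧
      Sheaf.H.map ((EtCoh.pull h).map a) q c = 0 := by
  obtain ⟨x, hx⟩ := hs (Sheaf.H.map (cp p w h hw F).inv q c)
  obtain ⟨M, a, ha, hM, h0⟩ := heff x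
  refine ⟨M, a, ha, hM, ?_⟩
  rw [← glue_map_hom_map_inv (cp p w h hw F) q c, ← hx]
  exact map_map_eq_zero_of_square (cp p w h hw F).hom (cp p w h hw M).hom ((EtCoh.pull w).map ((EtCoh.pull p).map a)) _
    (((EtCore.pullComp w p).symm ≪≫ EtCore.pullCongr hw).hom.naturality a) q _ (glue_map_pull_eq_zero w _ q x h0)

theorem isAlgPt_specMap_fromSpecResidueField {S : Scheme.{u}} (s : S) {k : Type u} [Field k]
    (φ : S.residueField s ⟶ CommRingCat.of k) (hφ : φ.hom.IsIntegral) :
    IsAlgPt (Spec.map φ ≫ S.fromSpecResidueField s) := by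
  rw [IsAlgPt, Scheme.residueFieldMap_comp, CommRingCat.hom_comp]
  refine RingHom.IsIntegral.trans _ _ ?_ ?_
  · refine RingHom.isIntegral_of_surjective _ fun y => ?_
    obtain ⟨y, rfl⟩ := Scheme.residue_surjective _ _ y
    obtain ⟨x, rfl⟩ := (S.fromSpecResidueField s).stalkMap_surjective _ y
    exact ⟨S.residue _ x, congrArg (fun g => g.hom x) (Scheme.residue_residueFieldMap _ _)⟩
  · have h1 : ((Spec.map φ).appTop ≫ (Spec (CommRingCat.of k)).Γevaluation default).hom.IsIntegral := by
      rw [CommRingCat.hom_comp]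
      refine RingHom.IsIntegral.trans _ _ ?_ (RingHom.isIntegral_of_surjective _ ?_)
      · have e : (Spec.map φ).appTop = (Scheme.ΓSpecIso _).hom ≫ φ ≫ (Scheme.ΓSpecIso _).inv := by simp
        rw [e, CommRingCat.hom_comp, CommRingCat.hom_comp]
        exact RingHom.IsIntegral.trans _ _
          (RingHom.isIntegral_of_surjective _ (Scheme.ΓSpecIso _).commRingCatIsoToRingEquiv.surjective)
          (RingHom.IsIntegral.trans _ _ hφ
            (RingHom.isIntegral_of_surjective _ (Scheme.ΓSpecIso _).commRingCatIsoToRingEquiv.symm.surjective))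
      · intro y
        obtain ⟨r, rfl⟩ : ∃ r, (Scheme.Spec.residueFieldIso (CommRingCat.of k) default).inv r = y :=
          ⟨_, (Scheme.Spec.residueFieldIso (CommRingCat.of k) default).hom_inv_id_apply y⟩
        haveI : (default : Spec (CommRingCat.of k)).asIdeal.IsMaximal :=
          (Ideal.eq_bot_of_prime (I := (default : Spec (CommRingCat.of k)).asIdeal)) ▸ Ideal.bot_isMaximal
        obtain ⟨a, rfl⟩ := Ideal.algebraMap_residueField_surjective (default : Spec (CommRingCat.of k)).asIdeal r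
        exact ⟨(Scheme.ΓSpecIso _).inv a,
          (congrArg (fun g => g.hom a) (Scheme.Spec.algebraMap_residueFieldIso_inv (CommRingCat.of k) default)).symm⟩
    rw [← Scheme.Γevaluation_naturality, CommRingCat.hom_comp] at h1
    exact RingHom.IsIntegral.tower_top _ _ h1

/-- Every field valued point factors through an algebraic one with algebraically closed field. -/
theorem exists_algPt_factor {S : Scheme.{u}} {Ω : Type u} [Field Ω] [IsAlgClosed Ω]
    (ξ : Spec (CommRingCat.of Ω) ⟶ S) :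
    ∃ (k : Type u) (_ : Field k) (_ : IsAlgClosed k) (ξ₀ : Spec (CommRingCat.of k) ⟶ S) (i : k →+* Ω),
      IsAlgPt ξ₀ ∧ Spec.map (CommRingCat.ofHom i) ≫ ξ₀ = ξ := by
  let φ := S.descResidueField (Scheme.stalkClosedPointTo ξ)
  letI := φ.hom.toAlgebra
  let s := ξ (IsLocalRing.closedPoint Ω)
  let k := algebraicClosure (S.residueField s) Ω
  haveI : IsAlgClosed k := IsAlgClosure.isAlgClosed (S.residueField s)
  refine ⟨k, inferInstance, inferInstance,
    Spec.map (CommRingCat.ofHom (algebraMap (S.residueField s) k)) ≫ S.fromSpecResidueField s, k.val.toRingHom,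
    isAlgPt_specMap_fromSpecResidueField s _ fun x => Algebra.IsIntegral.isIntegral x, ?_⟩
  rw [← Spec.map_comp_assoc, ← CommRingCat.ofHom_comp]
  exact Scheme.descResidueField_stalkClosedPointTo_fromSpecResidueField Ω S ξ

/-- Fibre acyclicity after all base changes gives effaceability at all geometric points. -/
theorem effaceableAny_of_uFibreAcyclic {X S : Scheme.{u}} [IsNoetherian X] (f : X ⟶ S) [IsProper f]
    (h : UFibreAcyclic f) : EffaceableAny f := by
  intro n hn Ω _ _ ξ F hF q hq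
  obtain ⟨k, _, _, ξ₀, i, hξ₀, rfl⟩ := exists_algPt_factor ξ
  have heff : Effaceable f := effaceable_of_fibreAcyclic f (h (𝟙 S) f (𝟙 X) IsPullback.of_id_fst)
  let a := pullback.snd f ξ₀
  have hfe : FieldExtSurj a := fieldExtSurj_of_bcAtPts a fun U u₀ _ _ => by
    haveI : IsLocallyNoetherian U := LocallyOfFiniteType.isLocallyNoetherian u₀
    haveI : IsLocallyNoetherian (pullback a u₀) := LocallyOfFiniteType.isLocallyNoetherian (pullback.snd a u₀)
    haveI : CompactSpace ↥(pullback a u₀) := QuasiCompact.compactSpace_of_compactSpace (pullback.snd a u₀)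
    haveI : IsNoetherian (pullback a u₀) := {}
    exact bcAtPts_of_effaceable _ (effaceable_of_fibreAcyclic _
      (h (u₀ ≫ ξ₀) _ _ ((IsPullback.of_hasPullback a u₀).paste_horiz (IsPullback.of_hasPullback f ξ₀))))
  let si := Spec.map (CommRingCat.ofHom i)
  let e := pullbackLeftPullbackSndIso f ξ₀ si
  haveI : PreservesFiniteLimits (EtCoh.pull e.inv) := Groth.Agent.S0101.result e.inv
  haveI : PreservesFiniteLimits (EtCoh.pull (pullback.fst a si)) := Groth.Agent.S0101.result _
  exact efface_comp e.inv (pullback.fst a si ≫ pullback.fst f ξ₀) (pullback.fst f (si ≫ ξ₀))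
    (pullbackLeftPullbackSndIso_inv_fst f ξ₀ si) F q (S0642.result e.inv _ q).2
    (efface_comp (pullback.fst a si) (pullback.fst f ξ₀) _ rfl F q
      (hfe n hn Ω i _ (killedBy_pull _ hF) q) (heff n hn k ξ₀ hξ₀ F hF q hq))

/-- A base change of a proper scheme over the integers. -/
theorem effaceableAny_baseChange {Z₀ X₀ : Scheme.{u}} (hT : IsTerminal Z₀) [IsNoetherian Z₀] (f₀ : X₀ ⟶ Z₀)
    [IsProper f₀] (h : UFibreAcyclic f₀) {X S : Scheme.{u}} [CompactSpace S] [QuasiSeparatedSpace S] (f : X ⟶ S)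
    (p : X ⟶ X₀) (sq : IsPullback p f f₀ (hT.from S)) : EffaceableAny f := by
  obtain ⟨I, _, _, _, DS, _, _, pS, _, hS, haff, hobj, _⟩ := NApproxLib.exists_proper_arrow_limit (𝟙 S)
  haveI : Nonempty I := IsCofiltered.nonempty
  haveI : ∀ i, CompactSpace (DS.obj i) := fun i => (hobj i).2.1
  haveI : ∀ i, IsLocallyNoetherian (DS.obj i) := fun i => NApproxLib.isLocallyNoetherian_of_isFTZ (hobj i).2.2
  haveI : ∀ i, IsNoetherian (DS.obj i) := fun i => {}
  let DX : I ⥤ Scheme.{u} :=
    { obj := fun i => pullback f₀ (hT.from (DS.obj i))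
      map := fun {i j} a => pullback.map _ _ _ _ (𝟙 X₀) (DS.map a) (𝟙 Z₀) (by simp) (hT.hom_ext _ _)
      map_id := fun i => by apply pullback.hom_ext <;> simp
      map_comp := fun {i j l} a b => by apply pullback.hom_ext <;> simp }
  let φ : DX ⟶ DS :=
    { app := fun i => pullback.snd _ _
      naturality := fun {i j} a => pullback.lift_snd _ _ _ }
  have hp : ∀ {i j : I} (a : i ⟶ j), pS.app i ≫ DS.map a = pS.app j := fun a => by
    simpa using (pS.naturality a).symm
  let pX : (Functor.const I).obj X ⟶ DX :=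
    { app := fun i => pullback.lift p (f ≫ pS.app i)
        (sq.w.trans ((congrArg (f ≫ ·) (hT.hom_ext _ _)).trans (Category.assoc _ _ _).symm))
      naturality := fun {i j} a => by
        apply pullback.hom_ext <;> simp [DX, hp a] }
  let hX : IsLimit (Cone.mk X pX) :=
    { lift := fun s => sq.lift (s.π.app (Classical.arbitrary I) ≫ pullback.fst _ _)
        (hS.lift ((Cone.postcompose φ).obj s)) (by
          rw [Category.assoc]
          exact hT.hom_ext _ _)
      fac := fun s i => by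
        apply pullback.hom_ext
        · rw [Category.assoc, pullback.lift_fst, IsPullback.lift_fst]
          have k : ∀ {x y : I} (a : x ⟶ y),
              s.π.app y ≫ pullback.fst _ _ = s.π.app x ≫ pullback.fst _ _ := fun {x y} a => by
            rw [← s.w a, Category.assoc, pullback.lift_fst, Category.comp_id]
          exact (k (IsCofiltered.minToLeft _ i)).trans (k (IsCofiltered.minToRight _ i)).symm
        · rw [Category.assoc, pullback.lift_snd, IsPullback.lift_snd_assoc]
          exact hS.fac ((Cone.postcompose φ).obj s) i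
      uniq := fun s m hm => by
        apply sq.hom_ext
        · rw [IsPullback.lift_fst, ← hm, Category.assoc, pullback.lift_fst]
        · rw [IsPullback.lift_snd]
          refine hS.hom_ext fun i => ?_
          rw [hS.fac]
          show (m ≫ f) ≫ pS.app i = s.π.app i ≫ pullback.snd _ _
          rw [← hm i, Category.assoc, Category.assoc, pullback.lift_snd] }
  have sqφ : ∀ i, IsPullback (pullback.fst f₀ (hT.from (DS.obj i))) (φ.app i) f₀ (hT.from (DS.obj i)) :=
    fun i => IsPullback.of_hasPullback _ _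
  haveI : ∀ i, IsProper (φ.app i) := fun i => inferInstanceAs (IsProper (pullback.snd f₀ (hT.from (DS.obj i))))
  haveI : ∀ i, IsLocallyNoetherian (DX.obj i) := fun i => LocallyOfFiniteType.isLocallyNoetherian (φ.app i)
  haveI : ∀ i, CompactSpace (DX.obj i) := fun i => QuasiCompact.compactSpace_of_compactSpace (φ.app i)
  haveI : ∀ i, IsNoetherian (DX.obj i) := fun i => {}
  have hmap : ∀ (i j : I) (a : i ⟶ j), IsPullback (DX.map a) (φ.app i) (φ.app j) (DS.map a) := fun i j a => by
    refine IsPullback.of_right ?_ (φ.naturality a) (sqφ j)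
    rw [pullback.lift_fst, Category.comp_id, show DS.map a ≫ hT.from (DS.obj j) = hT.from (DS.obj i) from hT.hom_ext _ _]
    exact sqφ i
  exact effaceableAny_of_limit f DX DS φ pX pS hX hS
    (fun i j a => ⟨MorphismProperty.of_isPullback (P := @IsAffineHom) (hmap i j a).flip (haff i j a).2,
      (haff i j a).2⟩) (fun i => pullback.lift_snd _ _ _)
    fun i => effaceableAny_of_uFibreAcyclic (φ.app i) (h.baseChange (sqφ i))

/-- Effaceability for the fibre powers of the projective line over quasi-compact quasi-separated bases. -/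
theorem effaceableAny_P1Pow {N : ℕ} (hP : ∀ S : Scheme.{u}, FibreAcyclic (P1Pow.toBase N S))
    {X S X' S' : Scheme.{u}} {g : S' ⟶ S} (f' : X' ⟶ S') (g' : X' ⟶ X) (e : X ≅ P1Pow N S) {f : X ⟶ S}
    (he : e.hom ≫ P1Pow.toBase N S = f) [CompactSpace S'] [QuasiSeparatedSpace S'] (sq : IsPullback g' f' f g) :
    EffaceableAny f' := by
  haveI := P1Pow.isProper_toBase N (Spec (CommRingCat.of P1.R0.{u}))
  have h1 : IsPullback e.hom f (P1Pow.toBase N S) (𝟙 S) :=
    IsPullback.of_horiz_isIso ⟨he.trans (Category.comp_id f).symm⟩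
  refine effaceableAny_baseChange specULiftZIsTerminal.{u} (P1Pow.toBase N (Spec (CommRingCat.of P1.R0.{u})))
    (uFibreAcyclic_P1Pow hP _) f' ((g' ≫ e.hom) ≫ P1Pow.map N (specULiftZIsTerminal.from S)) ?_
  rw [show specULiftZIsTerminal.from S' = (g ≫ 𝟙 S) ≫ specULiftZIsTerminal.from S from
    specULiftZIsTerminal.hom_ext _ _]
  exact (sq.paste_horiz h1).paste_horiz (P1Pow.isPullback_map N (specULiftZIsTerminal.from S))

theorem bcAll_P1Pow {N : ℕ} (hP : ∀ S : Scheme.{u}, FibreAcyclic (P1Pow.toBase N S)) (S : Scheme.{u}) :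
    BCAll (P1Pow.toBase N S) := by
  haveI := P1Pow.isProper_toBase N S
  exact bcAll_of_effaceableAny _ _ _ fun X' S' g f' g' _ sq =>
    effaceableAny_P1Pow hP f' g' (Iso.refl _) (Category.id_comp _) sq

theorem fibreAcyclic_proper_of_P1 (h1 : ∀ S : Scheme.{u}, FibreAcyclic (P1Pow.toBase 1 S)) {X S : Scheme.{u}}
    (f : X ⟶ S) [IsProper f] : FibreAcyclic f :=
  have hP := fibreAcyclic_P1Pow h1 (bcAll_P1Pow h1)
  fibreAcyclic_of_proper hP (fun N => bcAll_P1Pow (hP N)) f

theorem effaceableAny_of_P1 (h1 : ∀ S : Scheme.{u}, FibreAcyclic (P1Pow.toBase 1 S)) {X S : Scheme.{u}}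
    (f : X ⟶ S) [IsProper f] [CompactSpace S] [QuasiSeparatedSpace S] : EffaceableAny f :=
  effaceableAny_of_noetherian (fun f₁ => by
    intros
    exact effaceableAny_of_uFibreAcyclic f₁ fun X' S' g f' g' sq => by
      haveI : IsProper f' := MorphismProperty.of_isPullback (P := @IsProper) sq ‹_›
      exact fibreAcyclic_proper_of_P1 h1 f') f

theorem bcAll_of_P1 (h1 : ∀ S : Scheme.{u}, FibreAcyclic (P1Pow.toBase 1 S)) {X S : Scheme.{u}}
    (f : X ⟶ S) [IsProper f] : BCAll f :=
  bcAll_of_effaceableAny _ _ f fun X' S' g f' g' _ sq => by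
    haveI : IsProper f' := MorphismProperty.of_isPullback (P := @IsProper) sq ‹_›
    exact effaceableAny_of_P1 h1 f'

end Groth.Agent.PBCLib
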