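import Groth.Agent.PBCLib.P1Pow
import Groth.Agent.PBCLib.Fibration

/-!
# Fibre acyclicity of the fibre powers of the projective line

Induction on the number of factors: the last projection factors the fibre through a fibration with
fibres of dimension one over the relative normalization of the image.
-/

set_option autoImplicit false
set_option backward.isDefEq.respectTransparency false
set_option backward.isDefEq.respectTransparency.types false
set_option linter.style.haveILetI false
set_option maxHeartbeats 800000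

universe u

open CategoryTheory CategoryTheory.Limits AlgebraicGeometry Opposite

noncomputable section

namespace Groth.Agent.PBCLib

theorem ConstAcyclic.of_iso {A B : Scheme.{u}} (e : A ≅ B) (h : ConstAcyclic A) : ConstAcyclic B :=
  fun d hd q hq => by
    obtain ⟨i⟩ := nonempty_H_const_iso e (ZMod d) q
    haveI := h d hd q hq
    exact i.symm.toEquiv.subsingleton

/-- Acyclicity passes up a fibration. -/
theorem constAcyclic_fibration {W V P S Z : Scheme.{u}} (hW : IsAICScheme W) (hV : IsAICScheme V) (φ : W ⟶ P)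
    [IsIntegralHom φ] (pr : P ⟶ V) [IsDominant (φ ≫ pr)] (hBC : BCAll pr) (v : V ⟶ S) (ξ : Z ⟶ S) :
    ConstAcyclic (pullback ((φ ≫ pr) ≫ v) ξ) ↔ ConstAcyclic (pullback v ξ) := by
  have key : ∀ d, 0 < d → ∀ q,
      Nonempty (EtCoh.H (pullback ((φ ≫ pr) ≫ v) ξ) (EtCoh.const _ (ZMod d)) q ≃+
        EtCoh.H (pullback v ξ) (EtCoh.const _ (ZMod d)) q) := fun d hd q => by
    obtain ⟨e⟩ := nonempty_H_fibre_equiv φ pr (pullback.fst v ξ) d hW hV hBC hd q
    obtain ⟨i⟩ := nonempty_H_const_iso (pullbackRightPullbackFstIso v ξ (φ ≫ pr)) (ZMod d) q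
    exact ⟨i.symm.trans e⟩
  constructor
  · intro h d hd q hq
    obtain ⟨e⟩ := key d hd q
    haveI := h d hd q hq
    exact e.symm.toEquiv.subsingleton
  · intro h d hd q hq
    obtain ⟨e⟩ := key d hd q
    haveI := h d hd q hq
    exact e.toEquiv.subsingleton

theorem fibreAcyclic_P1Pow_zero (h1 : ∀ S : Scheme.{u}, FibreAcyclic (P1Pow.toBase 1 S)) (S : Scheme.{u}) :
    FibreAcyclic (P1Pow.toBase 0 S) := by
  intro X' π hπ hX' Ω _ _ ξ hξ
  let s : S ⟶ P1Pow 1 S := P1.sect S 0
  have hs : s ≫ P1Pow.toBase 1 S = P1Pow.toBase 0 S := by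
    show s ≫ CohB1.ProjSpaceOver.toBase 1 S ≫ 𝟙 S = 𝟙 S
    rw [Category.comp_id]
    exact pullback.lift_snd _ _ _
  haveI := P1Pow.isProper_toBase 1 S
  haveI : IsIntegralHom s := by
    haveI : IsClosedImmersion (s ≫ P1Pow.toBase 1 S) := by
      rw [hs]
      exact inferInstanceAs (IsClosedImmersion (𝟙 S))
    haveI : IsClosedImmersion s := IsClosedImmersion.of_comp s (P1Pow.toBase 1 S)
    infer_instance
  haveI := hπ
  let π₀ : X' ⟶ P1Pow 0 S := π
  haveI : IsIntegralHom π₀ := hπ
  have h := h1 S (π₀ ≫ s) inferInstance hX' Ω ξ hξ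
  exact h.of_iso (pullback.congrHom (by rw [Category.assoc, hs]) rfl)

theorem fibreAcyclic_P1Pow_succ (N : ℕ) (hN : ∀ S : Scheme.{u}, FibreAcyclic (P1Pow.toBase N S))
    (hB1 : ∀ S : Scheme.{u}, BCAll (P1Pow.toBase 1 S)) (S : Scheme.{u}) :
    FibreAcyclic (P1Pow.toBase (N + 1) S) := by
  intro W π hπ hW Ω _ _ ξ hξ
  let P := P1Pow N S
  let π₁ : W ⟶ CohB1.ProjSpaceOver 1 P := π
  haveI : IsIntegralHom π₁ := hπ
  haveI := BCLib.isProper_toBase 1 P
  let h : W ⟶ P := π₁ ≫ CohB1.ProjSpaceOver.toBase 1 P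
  haveI := hW.isIntegral
  let V := h.normalization
  have hV : IsAICScheme V := isAICScheme_normalization h hW
  let m := P1.toP1 h.fromNormalization
  let φ : W ⟶ P1Pow 1 V := (P1Pow.isPullback_toP1 h.fromNormalization).lift π₁ h.toNormalization
    h.toNormalization_fromNormalization.symm
  have hφ₁ : φ ≫ m = π₁ := IsPullback.lift_fst _ _ _ _
  have hφ₂ : φ ≫ P1Pow.toBase 1 V = h.toNormalization := by
    show φ ≫ CohB1.ProjSpaceOver.toBase 1 V ≫ 𝟙 V = _
    rw [Category.comp_id]
    exact IsPullback.lift_snd _ _ _ _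
  haveI : IsSeparated m := MorphismProperty.of_isPullback (P1Pow.isPullback_toP1 h.fromNormalization).flip
    (inferInstanceAs (IsSeparated h.fromNormalization))
  haveI : IsIntegralHom φ := by
    haveI : IsIntegralHom (φ ≫ m) := by rw [hφ₁]; infer_instance
    exact IsIntegralHom.of_comp φ m
  haveI : IsDominant (φ ≫ P1Pow.toBase 1 V) := by rw [hφ₂]; infer_instance
  have hacy : ConstAcyclic (pullback (h.fromNormalization ≫ P1Pow.toBase N S) ξ) :=
    hN S h.fromNormalization inferInstance hV Ω ξ hξ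
  have := (constAcyclic_fibration hW hV φ (P1Pow.toBase 1 V) (hB1 V) (h.fromNormalization ≫ P1Pow.toBase N S) ξ).2 hacy
  refine this.of_iso (pullback.congrHom ?_ rfl)
  rw [hφ₂, ← Category.assoc, Scheme.Hom.toNormalization_fromNormalization]
  exact Category.assoc _ _ _

/-- All fibre powers of the projective line are fibre acyclic. -/
theorem fibreAcyclic_P1Pow (h1 : ∀ S : Scheme.{u}, FibreAcyclic (P1Pow.toBase 1 S))
    (hB1 : ∀ S : Scheme.{u}, BCAll (P1Pow.toBase 1 S)) :
    ∀ (N : ℕ) (S : Scheme.{u}), FibreAcyclic (P1Pow.toBase N S)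
  | 0, S => fibreAcyclic_P1Pow_zero h1 S
  | N + 1, S => fibreAcyclic_P1Pow_succ N (fibreAcyclic_P1Pow h1 hB1 N) hB1 S

end Groth.Agent.PBCLib
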