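import Groth.Agent.EtSixLib.Forget
import Groth.Agent.EtSixLib.PullExact
import Groth.Prelude.Def_SixF1
import Groth.Prelude.Def_EtModD2

/-!
# Forgetting the module structure commutes with inverse images and base change
-/

set_option autoImplicit false
set_option linter.style.haveILetI false
set_option backward.isDefEq.respectTransparency false
set_option backward.isDefEq.respectTransparency.types false
set_option synthInstance.maxHeartbeats 200000
set_option maxHeartbeats 1000000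

universe u

open CategoryTheory CategoryTheory.Limits AlgebraicGeometry Opposite

noncomputable section

namespace Groth.Agent.PBCLib

variable (Λ : Type (u + 1)) [CommRing Λ]

/-- Forgetting the module structure. -/
abbrev fgt (X : Scheme.{u}) : EtModW.Mod Λ X ⥤ EtCoh.Ab X := EtModD.forgetToAb Λ X

variable {X Y : Scheme.{u}} (g : X ⟶ Y)

theorem fgt_push (M : EtModW.Mod Λ X) :
    (fgt Λ Y).obj ((EtModW.push Λ g).obj M) = (EtCoh.push g).obj ((fgt Λ X).obj M) := rfl

/-- The comparison of inverse images. -/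
def fgtPull (F : EtModW.Mod Λ Y) : (EtCoh.pull g).obj ((fgt Λ Y).obj F) ⟶ (fgt Λ X).obj ((EtModW.pull Λ g).obj F) :=
  ((EtCoh.pullPushAdj g).homEquiv _ _).symm ((fgt Λ Y).map ((EtSix.pullPushModAdj Λ g).unit.app F))

theorem homEquiv_fgtPull (F : EtModW.Mod Λ Y) :
    (EtCoh.pullPushAdj g).homEquiv _ _ (fgtPull Λ g F) = (fgt Λ Y).map ((EtSix.pullPushModAdj Λ g).unit.app F) :=
  Equiv.apply_symm_apply _ _

/-- Precomposition with the comparison, through the two adjunctions. -/
theorem fgtPull_comp_eq (F : EtModW.Mod Λ Y) (J : EtCoh.Ab X) (φ : (fgt Λ X).obj ((EtModW.pull Λ g).obj F) ⟶ J) :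
    (EtCoh.pullPushAdj g).homEquiv _ _ (fgtPull Λ g F ≫ φ) =
      ((EtSixLib.sheafForgetCoindAdj Λ Y).homEquiv F ((EtCoh.push g).obj J)).symm
        ((EtSix.pullPushModAdj Λ g).homEquiv _ _ ((EtSixLib.sheafForgetCoindAdj Λ X).homEquiv _ _ φ)) := by
  rw [Adjunction.homEquiv_naturality_right, homEquiv_fgtPull]
  set ψ := (EtSixLib.sheafForgetCoindAdj Λ X).homEquiv _ _ φ with hψ
  rw [Adjunction.homEquiv_unit]
  refine Eq.trans ?_ ((EtSixLib.sheafForgetCoindAdj Λ Y).homEquiv_naturality_left_symm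
    (Y := (EtCoh.push g).obj J) ((EtSix.pullPushModAdj Λ g).unit.app F) ((EtModW.push Λ g).map ψ)).symm
  refine congrArg ((fgt Λ Y).map ((EtSix.pullPushModAdj Λ g).unit.app F) ≫ ·) ?_
  have hφ : φ = (fgt Λ X).map ψ ≫ (EtSixLib.sheafForgetCoindAdj Λ X).counit.app J :=
    (((EtSixLib.sheafForgetCoindAdj Λ X).homEquiv _ _).symm_apply_apply φ).symm.trans
      (Adjunction.homEquiv_counit _ _ _ _)
  rw [hφ, Functor.map_comp, Adjunction.homEquiv_counit]
  rfl

theorem isIso_fgtPull (F : EtModW.Mod Λ Y) : IsIso (fgtPull Λ g F) := by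
  refine (isIso_iff_coyoneda_map_bijective _).2 fun J => ?_
  have e : (fun φ : (fgt Λ X).obj ((EtModW.pull Λ g).obj F) ⟶ J => fgtPull Λ g F ≫ φ) =
      (((EtSixLib.sheafForgetCoindAdj Λ X).homEquiv _ _).trans
        (((EtSix.pullPushModAdj Λ g).homEquiv _ _).trans
          (((EtSixLib.sheafForgetCoindAdj Λ Y).homEquiv F ((EtCoh.push g).obj J)).symm.trans
            ((EtCoh.pullPushAdj g).homEquiv _ _).symm))) := funext fun φ =>
    (Equiv.eq_symm_apply _).2 (fgtPull_comp_eq Λ g F J φ)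
  rw [e]
  exact Equiv.bijective _

theorem fgtPull_natural {F G : EtModW.Mod Λ Y} (a : F ⟶ G) :
    (EtCoh.pull g).map ((fgt Λ Y).map a) ≫ fgtPull Λ g G =
      fgtPull Λ g F ≫ (fgt Λ X).map ((EtModW.pull Λ g).map a) := by
  apply ((EtCoh.pullPushAdj g).homEquiv _ _).injective
  rw [Adjunction.homEquiv_naturality_left, Adjunction.homEquiv_naturality_right, homEquiv_fgtPull, homEquiv_fgtPull]
  show (fgt Λ Y).map a ≫ (fgt Λ Y).map _ = (fgt Λ Y).map _ ≫ (fgt Λ Y).map ((EtModW.push Λ g).map ((EtModW.pull Λ g).map a))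
  refine ((fgt Λ Y).map_comp _ _).symm.trans (Eq.trans ?_ ((fgt Λ Y).map_comp _ _))
  exact congrArg (fgt Λ Y).map ((EtSix.pullPushModAdj Λ g).unit.naturality a)

variable {S X' S' : Scheme.{u}} (f : X ⟶ S) (h : S' ⟶ S) (f' : X' ⟶ S') (h' : X' ⟶ X) (w : h' ≫ f = f' ≫ h)

/-- Forgetting the module structure commutes with base change. -/
theorem fgt_baseChange0 (F : EtModW.Mod Λ X) :
    fgtPull Λ h ((EtModW.push Λ f).obj F) ≫ (fgt Λ S').map (EtSix.baseChange0Mod Λ f h f' h' w F) =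
      EtCoh.baseChange0 f h f' h' w ((fgt Λ X).obj F) ≫ (EtCoh.push f').map (fgtPull Λ h' F) := by
  apply ((EtCoh.pullPushAdj h).homEquiv _ _).injective
  refine (Adjunction.homEquiv_naturality_right _ _ _).trans (Eq.trans ?_ (Adjunction.homEquiv_naturality_right _ _ _).symm)
  rw [homEquiv_fgtPull, EtCoh.baseChange0]
  refine Eq.trans ?_ (congrArg (· ≫ (EtCoh.push h).map ((EtCoh.push f').map (fgtPull Λ h' F)))
    (Equiv.apply_symm_apply _ _)).symm
  show (fgt Λ S).map _ ≫ (fgt Λ S).map ((EtModW.push Λ h).map (EtSix.baseChange0Mod Λ f h f' h' w F)) = _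
  refine ((fgt Λ S).map_comp _ _).symm.trans ?_
  have hb : (EtSix.pullPushModAdj Λ h).unit.app ((EtModW.push Λ f).obj F) ≫
      (EtModW.push Λ h).map (EtSix.baseChange0Mod Λ f h f' h' w F) =
        (EtSix.pushToPushPullMod Λ f h f' h' w).app F :=
    (((EtSix.pullPushModAdj Λ h).homEquiv_unit _ _ _).symm.trans (Equiv.apply_symm_apply _ _))
  rw [hb]
  have hu : (EtCoh.pullPushAdj h').unit.app ((fgt Λ X).obj F) ≫ (EtCoh.push h').map (fgtPull Λ h' F) =
      (fgt Λ X).map ((EtSix.pullPushModAdj Λ h').unit.app F) :=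
    ((EtCoh.pullPushAdj h').homEquiv_unit _ _ _).symm.trans (homEquiv_fgtPull Λ h' F)
  let N : EtCoh.push h' ⋙ EtCoh.push f ⟶ EtCoh.push f' ⋙ EtCoh.push h :=
    (EtCoh.pushComp f h').hom ≫ (EtCoh.pushCongr w).hom ≫ (EtCoh.pushComp h f').inv
  have hN : ∀ G, N.app G = (EtCoh.pushComp f h').hom.app G ≫ (EtCoh.pushCongr w).hom.app G ≫
      (EtCoh.pushComp h f').inv.app G := fun G => by simp [N]
  refine Eq.trans ?_ (congrArg (fun m => ((EtCoh.push f).map ((EtCoh.pullPushAdj h').unit.app ((fgt Λ X).obj F)) ≫ m) ≫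
    (EtCoh.push h).map ((EtCoh.push f').map (fgtPull Λ h' F))) (hN ((EtCoh.pull h').obj ((fgt Λ X).obj F))))
  refine Eq.trans ?_ (Category.assoc _ _ _).symm
  refine Eq.trans ?_ (congrArg ((EtCoh.push f).map ((EtCoh.pullPushAdj h').unit.app ((fgt Λ X).obj F)) ≫ ·) (N.naturality (fgtPull Λ h' F)))
  refine Eq.trans ?_ (Category.assoc _ _ _)
  refine Eq.trans ?_ (congrArg (· ≫ N.app _) (((EtCoh.push f).map_comp _ _).symm.trans
    (congrArg (EtCoh.push f).map hu)).symm)
  simp only [EtSix.pushToPushPullMod, NatTrans.comp_app, Functor.whiskerRight_app, Functor.whiskerLeft_app,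
    Functor.leftUnitor_inv_app, Functor.associator_hom_app, Category.id_comp, Functor.map_comp, N]
  rfl

end Groth.Agent.PBCLib
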