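import Groth.Agent.EtSixLib.Forget
import Groth.Agent.CohDerAcyc.ShortExact
import Groth.Prelude.Def_EtBC2
import Groth.Agent.BCVertLib.KilledEfface
import Groth.Agent.SpSeqLib.Acyclic

/-!
# The underlying abelian sheaf of an injective sheaf of modules is acyclic for direct images
-/

set_option autoImplicit false
set_option linter.style.haveILetI false
set_option backward.isDefEq.respectTransparency false
set_option backward.isDefEq.respectTransparency.types false
set_option synthInstance.maxHeartbeats 200000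
set_option maxHeartbeats 1000000

universe u

open CategoryTheory CategoryTheory.Limits AlgebraicGeometry Opposite

noncomputable section

namespace Groth.Agent.PBCLib

open EtSixLib

variable {X Y : Scheme.{u}} (f : X ⟶ Y)

/-- `Hom(M, J)` is acyclic for direct images, for an injective sheaf `J`. -/
theorem isAcyclicFor_homSheaf (J : EtCoh.Ab X) [Injective J] : ∀ M : AddCommGrpCat.{u + 1},
    SpSeqLib.IsAcyclicFor (EtCoh.push f) ((homSheaf M).obj J) := by
  intro M q
  induction q generalizing M with
  | zero =>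
    haveI : Injective (homSheafSeq M J).X₂ := injective_homSheaf_free M J
    haveI hepi : Epi ((EtCoh.push f).map (homSheafSeq M J).g) := by
      refine (EtPtsLib.epi_iff_ab _).2 fun Ω _ _ ξ b => ?_
      obtain ⟨U, l, s, rfl⟩ := (Scheme.pointSmallEtale ξ).toPresheafFiber_jointly_surjective b
      obtain ⟨t, ht⟩ := (homSheafSeq_exact M J (op ((EtCoh.bc f).obj U))).2.2 s
      refine ⟨EtPtsLib.germ ξ ((EtCoh.push f).obj (homSheafSeq M J).X₂) l t, ?_⟩
      rw [FLCLib.germ_app]
      exact congrArg (EtPtsLib.germ ξ ((EtCoh.push f).obj (homSheafSeq M J).X₃) l) ht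
    obtain ⟨Δ⟩ := RDerLib.nonempty_derivedLES (EtCoh.push f)
    have hS := homSheafSeq_shortExact M J
    have hI : IsZero ((EtCoh.Rpush f 1).obj (homSheafSeq M J).X₂) :=
      Functor.isZero_rightDerived_obj_injective_succ (EtCoh.push f) 0 _
    have hδ : Epi (Δ.δ (homSheafSeq M J) hS 0 1 rfl) :=
      (Δ.exact₁ (homSheafSeq M J) hS 0 1 rfl).epi_f (hI.eq_of_tgt _ _)
    haveI : Epi ((EtCoh.Rpush f 0).map (homSheafSeq M J).g) := by
      haveI : Epi ((EtCoh.push f).toRightDerivedZero.app (homSheafSeq M J).X₂ ≫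
          ((EtCoh.push f).rightDerived 0).map (homSheafSeq M J).g) := by
        rw [← (EtCoh.push f).toRightDerivedZero.naturality (homSheafSeq M J).g]
        exact epi_comp _ _
      exact epi_of_epi ((EtCoh.push f).toRightDerivedZero.app (homSheafSeq M J).X₂) _
    refine IsZero.of_epi_eq_zero (Δ.δ (homSheafSeq M J) hS 0 1 rfl) ?_
    rw [← cancel_epi ((EtCoh.Rpush f 0).map (homSheafSeq M J).g), comp_zero]
    exact Δ.comp_δ (homSheafSeq M J) hS 0 1 rfl
  | succ q ih =>
    haveI : Injective (homSheafSeq M J).X₂ := injective_homSheaf_free M J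
    obtain ⟨Δ⟩ := RDerLib.nonempty_derivedLES (EtCoh.push f)
    have hS := homSheafSeq_shortExact M J
    have hI : IsZero ((EtCoh.Rpush f (q + 2)).obj (homSheafSeq M J).X₂) :=
      Functor.isZero_rightDerived_obj_injective_succ (EtCoh.push f) (q + 1) _
    have hδ : Epi (Δ.δ (homSheafSeq M J) hS (q + 1) (q + 2) rfl) :=
      (Δ.exact₁ (homSheafSeq M J) hS (q + 1) (q + 2) rfl).epi_f (hI.eq_of_tgt _ _)
    exact IsZero.of_epi_eq_zero (Δ.δ (homSheafSeq M J) hS (q + 1) (q + 2) rfl)
      ((ih (AddCommGrpCat.of (freeπ M).hom.ker)).eq_of_src _ _)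

variable (Λ : Type (u + 1)) [CommRing Λ]

/-- The underlying abelian sheaf of an injective sheaf of modules has no higher direct images. -/
theorem isAcyclicFor_forget_injective (I : EtModW.Mod Λ X) [Injective I] :
    SpSeqLib.IsAcyclicFor (EtCoh.push f) ((EtModD.forgetToAb Λ X).obj I) := by
  let G := EtModD.forgetToAb Λ X
  let J := Injective.under (G.obj I)
  let i : I ⟶ (coindSheaf Λ X).obj J := (sheafForgetCoindAdj Λ X).homEquiv _ _ (Injective.ι _)
  haveI : Mono i := by
    refine G.mono_of_mono_map ?_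
    have h : G.map i ≫ (sheafForgetCoindAdj Λ X).counit.app J = Injective.ι (G.obj I) :=
      ((sheafForgetCoindAdj Λ X).homEquiv_counit _ _ _).symm.trans (Equiv.symm_apply_apply _ _)
    exact mono_of_mono_fac h
  let p : (coindSheaf Λ X).obj J ⟶ I := Injective.factorThru (𝟙 I) i
  let q := G.map i ≫ (forgetCoindIso J).hom
  let q' := (forgetCoindIso J).inv ≫ G.map p
  have hq : q ≫ q' = 𝟙 (G.obj I) := by
    simp only [q, q', Category.assoc, Iso.hom_inv_id_assoc, ← G.map_comp, p, Injective.comp_factorThru, G.map_id]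
  intro k
  have e : ((EtCoh.push f).rightDerived (k + 1)).map q ≫ ((EtCoh.push f).rightDerived (k + 1)).map q' =
      𝟙 (((EtCoh.push f).rightDerived (k + 1)).obj (G.obj I)) :=
    (CategoryTheory.Functor.map_comp _ _ _).symm.trans ((congrArg _ hq).trans (CategoryTheory.Functor.map_id _ _))
  refine (IsZero.iff_id_eq_zero _).2 (e.symm.trans ?_)
  rw [(isAcyclicFor_homSheaf f J (AddCommGrpCat.of Λ) k).eq_of_tgt (((EtCoh.push f).rightDerived (k + 1)).map q) 0, zero_comp]

end Groth.Agent.PBCLib
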