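import Groth.Agent.S14623
import Groth.Agent.CohDerAcyc.UnitIff
import Groth.Agent.BCVertLib.Square
import Groth.Prelude.Def_SixF1

/-!
# Base change morphisms between bounded below derived categories, computed on complexes

For `θ : P ⟶ G ⋙ P' ⋙ R` with `G` exact and `L ⊣ R` with `L` exact, the transpose of the induced
morphism `R⁺P ⟶ R⁺G ⋙ R⁺P' ⋙ R⁺R` at a complex `K` on which `P` computes its derived functor is an
isomorphism iff the termwise transpose `L P K ⟶ P' G K`, followed by the unit of `R⁺P'`, is one.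
-/

set_option autoImplicit false
set_option linter.style.haveILetI false
set_option linter.unusedSectionVars false
set_option backward.isDefEq.respectTransparency false
set_option backward.isDefEq.respectTransparency.types false
set_option maxHeartbeats 1000000

universe v₁ v₂ v₃ v₄ u₁ u₂ u₃ u₄

open CategoryTheory CategoryTheory.Limits

attribute [local instance] HasDerivedCategory.standard

noncomputable section

namespace Groth.Agent.PBCLib.PlusBC

variable {A : Type u₁} [Category.{v₁} A] [Abelian A] [EnoughInjectives A]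
  {B : Type u₂} [Category.{v₂} B] [Abelian B] [EnoughInjectives B]
  {C : Type u₃} [Category.{v₃} C] [Abelian C] [EnoughInjectives C]
  {E : Type u₄} [Category.{v₄} E] [Abelian E] [EnoughInjectives E]

/-- An adjunction of the derived functors whose counit is computed by that of the homotopy categories. -/
theorem exists_adjPlus {L : C ⥤ E} {R : E ⥤ C} (adj : L ⊣ R) [L.Additive] [R.Additive]
    [PreservesFiniteLimits L] [PreservesFiniteColimits L] :
    ∃ a : L.rightDerivedFunctorPlus ⊣ R.rightDerivedFunctorPlus, ∀ M : HomotopyCategory.Plus E,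
      L.rightDerivedFunctorPlusUnit.app (R.mapHomotopyCategoryPlus.obj M) ≫
          L.rightDerivedFunctorPlus.map (R.rightDerivedFunctorPlusUnit.app M) ≫
            a.counit.app (DerivedCategory.Plus.Qh.obj M) =
        DerivedCategory.Plus.Qh.map ((Groth.Agent.S14623.plusAdjunction adj).counit.app M) := by
  let W₁ := HomotopyCategory.Plus.quasiIso C
  let W₂ := HomotopyCategory.Plus.quasiIso E
  haveI := fun X => Groth.Agent.S14623.isIso_unit_app_of_exact L X
  haveI : IsIso L.rightDerivedFunctorPlusUnit := NatIso.isIso_of_isIso_app _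
  let lf := (asIso L.rightDerivedFunctorPlusUnit).symm
  let β := R.rightDerivedFunctorPlusUnit
  haveI := Functor.isLeftDerivedFunctor_of_inverts (W := W₁) L.rightDerivedFunctorPlus lf
  haveI : (L.rightDerivedFunctorPlus ⋙ R.rightDerivedFunctorPlus).IsLeftDerivedFunctor
      ((Functor.associator _ _ _).inv ≫ Functor.whiskerRight lf.hom R.rightDerivedFunctorPlus) W₁ :=
    Functor.isLeftDerivedFunctor_of_inverts (W := W₁) _
      ((Functor.associator _ _ _).symm ≪≫ Functor.isoWhiskerRight lf R.rightDerivedFunctorPlus)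
  haveI : (R.rightDerivedFunctorPlus ⋙ L.rightDerivedFunctorPlus).IsRightDerivedFunctor
      (Functor.whiskerRight β L.rightDerivedFunctorPlus ≫ (Functor.associator _ _ _).hom) W₂ :=
    Groth.Agent.S14623.isRightDerived_of_isIso_inj _ _ fun K => by
      obtain ⟨M, rfl⟩ := HomotopyCategory.Plus.quotient_obj_surjective K
      haveI : IsIso (β.app ((InjectiveObject.ι E).mapHomotopyCategoryPlus.obj
        ((HomotopyCategory.Plus.quotient (InjectiveObject E)).obj M))) := inferInstance
      simp only [NatTrans.comp_app, Functor.associator_hom_app, Functor.whiskerRight_app]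
      infer_instance
  refine ⟨(Groth.Agent.S14623.plusAdjunction adj).derived W₁ W₂ lf.hom β, fun M => ?_⟩
  have hc : ((Groth.Agent.S14623.plusAdjunction adj).derived W₁ W₂ lf.hom β).counit =
      (Groth.Agent.S14623.plusAdjunction adj).derivedε W₂ lf.hom β := rfl
  rw [hc]
  refine (congrArg (L.rightDerivedFunctorPlusUnit.app _ ≫ ·)
    ((Groth.Agent.S14623.plusAdjunction adj).derivedε_fac_app W₂ lf.hom β M)).trans ?_
  exact IsIso.hom_inv_id_assoc _ _ |> fun h => by
    simp only [lf, Iso.symm_hom, asIso_inv, NatIso.isIso_inv_app]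
    exact h

variable {P : A ⥤ C} {G : A ⥤ B} {P' : B ⥤ E} {R : E ⥤ C} {L : C ⥤ E}
  [P.Additive] [G.Additive] [P'.Additive] [R.Additive] [L.Additive]
  (adj : L ⊣ R) (θ : P ⟶ G ⋙ P' ⋙ R)

/-- The termwise transpose of `θ`. -/
def transposeN : P ⋙ L ⟶ G ⋙ P' where
  app X := (adj.homEquiv _ _).symm (θ.app X)
  naturality X Y a := by
    show L.map (P.map a) ≫ (adj.homEquiv _ _).symm (θ.app Y) = (adj.homEquiv _ _).symm (θ.app X) ≫ P'.map (G.map a)
    rw [← Adjunction.homEquiv_naturality_left_symm, ← Adjunction.homEquiv_naturality_right_symm]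
    exact congrArg _ (θ.naturality a)

/-- The transpose on bounded below complexes. -/
def transposeC (K : CochainComplex.Plus A) :
    L.mapCochainComplexPlus.obj (P.mapCochainComplexPlus.obj K) ⟶
      P'.mapCochainComplexPlus.obj (G.mapCochainComplexPlus.obj K) :=
  ObjectProperty.homMk ((NatTrans.mapHomologicalComplex (transposeN adj θ) (ComplexShape.up ℤ)).app K.obj)

theorem map_plusNatTrans_counit (K : CochainComplex.Plus A) :
    L.mapHomotopyCategoryPlus.map
        ((EtSix.plusNatTrans θ).app ((HomotopyCategory.Plus.quotient A).obj K) ≫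
          (Functor.mapHomotopyCategoryPlusCompIso (Iso.refl (G ⋙ (P' ⋙ R)))).inv.app _ ≫
          (Functor.mapHomotopyCategoryPlusCompIso (Iso.refl (P' ⋙ R))).inv.app _) ≫
        (Groth.Agent.S14623.plusAdjunction adj).counit.app
          (P'.mapHomotopyCategoryPlus.obj (G.mapHomotopyCategoryPlus.obj ((HomotopyCategory.Plus.quotient A).obj K))) =
      (HomotopyCategory.Plus.quotient E).map (transposeC adj θ K) := by
  apply (HomotopyCategory.Plus.ι E).map_injective
  rw [Functor.map_comp, Groth.Agent.S14623.plusAdjunction, Adjunction.map_restrictFullyFaithful_counit_app]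
  let T : (P.mapHomologicalComplex (ComplexShape.up ℤ)).obj K.obj ⟶
      (R.mapHomologicalComplex (ComplexShape.up ℤ)).obj ((P'.mapHomologicalComplex (ComplexShape.up ℤ)).obj
        ((G.mapHomologicalComplex (ComplexShape.up ℤ)).obj K.obj)) :=
    { f := fun i => θ.app (K.obj.X i)
      comm' := fun i j _ => (θ.naturality (K.obj.d i j)).symm }
  have h1 : (HomotopyCategory.Plus.ι C).map
      ((EtSix.plusNatTrans θ).app ((HomotopyCategory.Plus.quotient A).obj K) ≫
        (Functor.mapHomotopyCategoryPlusCompIso (Iso.refl (G ⋙ (P' ⋙ R)))).inv.app _ ≫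
        (Functor.mapHomotopyCategoryPlusCompIso (Iso.refl (P' ⋙ R))).inv.app _) =
      (HomotopyCategory.quotient C (ComplexShape.up ℤ)).map T := by
    simp [EtSix.plusNatTrans, Functor.mapHomotopyCategoryPlusCompIso, Functor.mapHomotopyCategoryCompIso, T]
    refine ((congrArg (_ ≫ ·) ((HomotopyCategory.quotient C (ComplexShape.up ℤ)).map_comp _ _).symm).trans
      ((HomotopyCategory.quotient C (ComplexShape.up ℤ)).map_comp _ _).symm).trans ?_
    refine congrArg (HomotopyCategory.quotient C (ComplexShape.up ℤ)).map ?_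
    refine HomologicalComplex.hom_ext _ _ fun i => ?_
    show θ.app (K.obj.X i) ≫ (𝟙 _ ≫ 𝟙 _) = θ.app (K.obj.X i)
    simp
  refine (congrArg (fun x => (L.mapHomotopyCategory (ComplexShape.up ℤ)).map x ≫ _) h1).trans ?_
  simp only [Iso.refl_inv, NatTrans.id_app, Functor.map_id, Category.id_comp]
  refine ((HomotopyCategory.quotient _ _).map_comp ((L.mapHomologicalComplex (ComplexShape.up ℤ)).map T)
    _).symm.trans ?_
  refine congrArg (HomotopyCategory.quotient _ _).map ?_
  refine HomologicalComplex.hom_ext _ _ fun n => ?_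
  show L.map (θ.app (K.obj.X n)) ≫ 𝟙 _ ≫ L.map (𝟙 _) ≫ adj.counit.app _ = _
  rw [L.map_id, Category.id_comp, Category.id_comp]
  exact (Adjunction.homEquiv_counit adj _ _ (θ.app (K.obj.X n))).symm

variable [PreservesFiniteLimits G] [PreservesFiniteColimits G] [PreservesFiniteLimits L] [PreservesFiniteColimits L]

/-- The base change morphism attached to `θ`. -/
abbrev bc (a : L.rightDerivedFunctorPlus ⊣ R.rightDerivedFunctorPlus) (K : DerivedCategory.Plus A) :
    L.rightDerivedFunctorPlus.obj (P.rightDerivedFunctorPlus.obj K) ⟶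
      P'.rightDerivedFunctorPlus.obj (G.rightDerivedFunctorPlus.obj K) :=
  (a.homEquiv _ _).symm ((EtSix.rPlusDesc₃ θ).app K)

theorem isIso_bc_congr (a a' : L.rightDerivedFunctorPlus ⊣ R.rightDerivedFunctorPlus) {K K' : DerivedCategory.Plus A}
    (e : K ≅ K') : IsIso (bc θ a K) ↔ IsIso (bc θ a' K') := by
  have hnat : L.rightDerivedFunctorPlus.map (P.rightDerivedFunctorPlus.map e.hom) ≫ bc θ a' K' =
      bc θ a' K ≫ P'.rightDerivedFunctorPlus.map (G.rightDerivedFunctorPlus.map e.hom) := by
    rw [bc, bc, ← Adjunction.homEquiv_naturality_left_symm, ← Adjunction.homEquiv_naturality_right_symm]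
    exact congrArg _ ((EtSix.rPlusDesc₃ θ).naturality e.hom)
  have hau : bc θ a K = (a.leftAdjointUniq a').hom.app _ ≫ bc θ a' K := by
    rw [bc, Equiv.symm_apply_eq, BCVertLib.homEquiv_leftAdjointUniq_comp, bc, Equiv.apply_symm_apply]
  rw [hau, isIso_comp_left_iff,
    ← isIso_comp_right_iff (bc θ a' K) (P'.rightDerivedFunctorPlus.map (G.rightDerivedFunctorPlus.map e.hom)),
    ← hnat]
  exact isIso_comp_left_iff _ _

/-- On a complex on which `P` computes its derived functor, the base change morphism is an isomorphism iff the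
termwise transpose followed by the unit of the derived functor of `P'` is one. -/
theorem isIso_bc_iff (a : L.rightDerivedFunctorPlus ⊣ R.rightDerivedFunctorPlus) (K : CochainComplex.Plus A)
    [IsIso (P.rightDerivedFunctorPlusUnit.app ((HomotopyCategory.Plus.quotient A).obj K))] :
    IsIso (bc θ a (DerivedCategory.Plus.Qh.obj ((HomotopyCategory.Plus.quotient A).obj K))) ↔
      IsIso (DerivedCategory.Plus.Qh.map ((HomotopyCategory.Plus.quotient E).map (transposeC adj θ K)) ≫
        P'.rightDerivedFunctorPlusUnit.app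
          (G.mapHomotopyCategoryPlus.obj ((HomotopyCategory.Plus.quotient A).obj K))) := by
  obtain ⟨a', ha'⟩ := exists_adjPlus adj
  rw [isIso_bc_congr θ a a' (Iso.refl _)]
  let q := (HomotopyCategory.Plus.quotient A).obj K
  let M := P'.mapHomotopyCategoryPlus.obj (G.mapHomotopyCategoryPlus.obj q)
  let S : P.mapHomotopyCategoryPlus.obj q ⟶ R.mapHomotopyCategoryPlus.obj M :=
    (EtSix.plusNatTrans θ).app q ≫ (Functor.mapHomotopyCategoryPlusCompIso (Iso.refl (G ⋙ (P' ⋙ R)))).inv.app q ≫
      (Functor.mapHomotopyCategoryPlusCompIso (Iso.refl (P' ⋙ R))).inv.app _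
  let m := P'.rightDerivedFunctorPlusUnit.app (G.mapHomotopyCategoryPlus.obj q) ≫
    P'.rightDerivedFunctorPlus.map (G.rightDerivedFunctorPlusUnit.app q)
  have hu : (EtSix.rPlusUnit₃ θ).app q = DerivedCategory.Plus.Qh.map S ≫
      R.rightDerivedFunctorPlusUnit.app M ≫ R.rightDerivedFunctorPlus.map m := by
    simp [EtSix.rPlusUnit₃, S, m, M]
  have hfac : P.rightDerivedFunctorPlusUnit.app q ≫ (EtSix.rPlusDesc₃ θ).app (DerivedCategory.Plus.Qh.obj q) =
      (EtSix.rPlusUnit₃ θ).app q :=
    P.rightDerivedFunctorPlus.rightDerived_fac_app P.rightDerivedFunctorPlusUnit _ _ _ q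
  have key : L.rightDerivedFunctorPlusUnit.app (P.mapHomotopyCategoryPlus.obj q) ≫
      L.rightDerivedFunctorPlus.map (P.rightDerivedFunctorPlusUnit.app q) ≫
        bc θ a' (DerivedCategory.Plus.Qh.obj q) =
      DerivedCategory.Plus.Qh.map ((HomotopyCategory.Plus.quotient E).map (transposeC adj θ K)) ≫ m := by
    have h1 : L.rightDerivedFunctorPlus.map (P.rightDerivedFunctorPlusUnit.app q) ≫
          bc θ a' (DerivedCategory.Plus.Qh.obj q) =
        L.rightDerivedFunctorPlus.map (DerivedCategory.Plus.Qh.map S) ≫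
          L.rightDerivedFunctorPlus.map (R.rightDerivedFunctorPlusUnit.app M) ≫
            a'.counit.app (DerivedCategory.Plus.Qh.obj M) ≫ m := by
      refine (a'.homEquiv_naturality_left_symm _ _).symm.trans ?_
      refine (congrArg (a'.homEquiv _ _).symm (hfac.trans hu)).trans ?_
      refine (a'.homEquiv_counit _ _ _).trans ?_
      refine (congrArg (· ≫ _) (L.rightDerivedFunctorPlus.map_comp (DerivedCategory.Plus.Qh.map S) _)).trans ?_
      refine (Category.assoc _ _ _).trans ?_
      refine congrArg (L.rightDerivedFunctorPlus.map (DerivedCategory.Plus.Qh.map S) ≫ ·) ?_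
      refine (congrArg (· ≫ _) (L.rightDerivedFunctorPlus.map_comp _ _)).trans ?_
      refine (Category.assoc _ _ _).trans ?_
      exact congrArg (L.rightDerivedFunctorPlus.map (R.rightDerivedFunctorPlusUnit.app M) ≫ ·)
        (a'.counit.naturality m)
    refine (congrArg (L.rightDerivedFunctorPlusUnit.app _ ≫ ·) h1).trans ?_
    have hn := L.rightDerivedFunctorPlusUnit.naturality S
    refine (Category.assoc _ _ _).symm.trans ?_
    refine (congrArg (· ≫ L.rightDerivedFunctorPlus.map (R.rightDerivedFunctorPlusUnit.app M) ≫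
      a'.counit.app (DerivedCategory.Plus.Qh.obj M) ≫ m) hn.symm).trans ?_
    refine (Category.assoc _ _ _).trans ?_
    have hc := ha' M
    refine Eq.trans ?_ (congrArg (fun x => DerivedCategory.Plus.Qh.map x ≫ m) (map_plusNatTrans_counit adj θ K))
    refine Eq.trans ?_ ((congrArg (· ≫ m) (DerivedCategory.Plus.Qh.map_comp _ _)).trans (Category.assoc _ _ _)).symm
    refine congrArg (DerivedCategory.Plus.Qh.map (L.mapHomotopyCategoryPlus.map S) ≫ ·) ?_
    refine Eq.trans ?_ (congrArg (· ≫ m) hc)
    simp only [Category.assoc]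
  haveI := fun X => Groth.Agent.S14623.isIso_unit_app_of_exact L X
  haveI := fun X => Groth.Agent.S14623.isIso_unit_app_of_exact G X
  rw [← isIso_comp_left_iff (L.rightDerivedFunctorPlus.map (P.rightDerivedFunctorPlusUnit.app q)),
    ← isIso_comp_left_iff (L.rightDerivedFunctorPlusUnit.app (P.mapHomotopyCategoryPlus.obj q)), key]
  simp only [m, ← Category.assoc]
  exact isIso_comp_right_iff _ _

/-- With an injective resolution `j : G K ⟶ J`. -/
theorem isIso_bc_iff_quasiIso (a : L.rightDerivedFunctorPlus ⊣ R.rightDerivedFunctorPlus) (K : CochainComplex.Plus A)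
    [IsIso (P.rightDerivedFunctorPlusUnit.app ((HomotopyCategory.Plus.quotient A).obj K))]
    (J : CochainComplex.Plus (InjectiveObject B))
    (j : G.mapCochainComplexPlus.obj K ⟶ (InjectiveObject.ι B).mapCochainComplexPlus.obj J)
    (hj : QuasiIso j.hom) :
    IsIso (bc θ a (DerivedCategory.Plus.Qh.obj ((HomotopyCategory.Plus.quotient A).obj K))) ↔
      QuasiIso ((transposeC adj θ K).hom ≫ (P'.mapHomologicalComplex (ComplexShape.up ℤ)).map j.hom) := by
  rw [isIso_bc_iff adj θ a K]
  let qG := (HomotopyCategory.Plus.quotient B).obj (G.mapCochainComplexPlus.obj K)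
  let qJ := (HomotopyCategory.Plus.quotient B).obj ((InjectiveObject.ι B).mapCochainComplexPlus.obj J)
  let qj : qG ⟶ qJ := (HomotopyCategory.Plus.quotient B).map j
  have h2 : IsIso (P'.rightDerivedFunctorPlusUnit.app qJ) :=
    inferInstanceAs (IsIso (P'.rightDerivedFunctorPlusUnit.app ((InjectiveObject.ι B).mapHomotopyCategoryPlus.obj
      ((HomotopyCategory.Plus.quotient (InjectiveObject B)).obj J))))
  have h3 : IsIso ((DerivedCategory.Plus.Qh ⋙ P'.rightDerivedFunctorPlus).map qj) :=
    @Functor.map_isIso _ _ _ _ _ _ P'.rightDerivedFunctorPlus _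
      (Groth.Agent.CohDerAcyc.isIso_Qh_map_of_quasiIso j hj)
  have nat := P'.rightDerivedFunctorPlusUnit.naturality qj
  have hk := Groth.Agent.CohDerAcyc.isIso_Qh_map_iff_quasiIso
    (transposeC adj θ K ≫ P'.mapCochainComplexPlus.map j)
  refine Iff.trans ?_ hk
  rw [← isIso_comp_right_iff _ ((DerivedCategory.Plus.Qh ⋙ P'.rightDerivedFunctorPlus).map qj)]
  refine Iff.trans (Iff.of_eq (congrArg IsIso ((Category.assoc _ _ _).trans (congrArg (_ ≫ ·) nat.symm)))) ?_
  rw [Functor.map_comp, Functor.map_comp]
  exact (Iff.of_eq (congrArg IsIso (Category.assoc _ _ _).symm)).trans (isIso_comp_right_iff _ _)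

end Groth.Agent.PBCLib.PlusBC
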