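import Groth.Agent.PBCLib.Final
import Groth.Agent.PBCLib.TorsComplex
import Groth.Agent.PBCLib.PlusBC
import Groth.Agent.PBCLib.ModForget
import Groth.Agent.PBCLib.ModPushAcyclic
import Groth.Agent.EtSixLib.PullExact

/-!
# Proper base change for bounded below complexes of sheaves of modules with torsion cohomology
-/

set_option autoImplicit false
set_option linter.style.haveILetI false
set_option backward.isDefEq.respectTransparency false
set_option backward.isDefEq.respectTransparency.types false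
set_option synthInstance.maxHeartbeats 200000
set_option maxHeartbeats 1000000

universe u

open CategoryTheory CategoryTheory.Limits AlgebraicGeometry Opposite

attribute [local instance] HasDerivedCategory.standard

noncomputable section

namespace Groth.Agent.PBCLib

attribute [local instance] Groth.Agent.S0101.result

variable (Λ : Type (u + 1)) [CommRing Λ]

instance preservesFiniteColimits_fgt (X : Scheme.{u}) : PreservesFiniteColimits (EtModD.forgetToAb Λ X) := by
  haveI : PreservesColimitsOfSize.{0, 0} (EtModD.forgetToAb Λ X) :=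
    (EtSixLib.sheafForgetCoindAdj Λ X).leftAdjoint_preservesColimits
  exact PreservesColimitsOfSize.preservesFiniteColimits _

instance preservesFiniteLimits_fgt (X : Scheme.{u}) : PreservesFiniteLimits (EtModD.forgetToAb Λ X) := by
  refine ⟨fun J _ _ => ?_⟩
  haveI : PreservesLimitsOfShape J
      (EtModD.forgetToAb Λ X ⋙ sheafToPresheaf X.smallEtaleTopology AddCommGrpCat.{u + 1}) :=
    inferInstanceAs (PreservesLimitsOfShape J (sheafToPresheaf X.smallEtaleTopology (ModuleCat.{u + 1} Λ) ⋙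
      (Functor.whiskeringRight _ _ _).obj (forget₂ (ModuleCat.{u + 1} Λ) AddCommGrpCat.{u + 1})))
  exact preservesLimitsOfShape_of_reflects_of_preserves (EtModD.forgetToAb Λ X)
    (sheafToPresheaf X.smallEtaleTopology AddCommGrpCat.{u + 1})

instance additive_fgt (X : Scheme.{u}) : (EtModD.forgetToAb Λ X).Additive :=
  Functor.additive_of_preserves_binary_products _

instance reflectsIso_fgt (X : Scheme.{u}) : (EtModD.forgetToAb Λ X).ReflectsIsomorphisms := by
  haveI : (EtModD.forgetToAb Λ X).Faithful := inferInstance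
  infer_instance

instance preservesFiniteLimits_pullMod {X Y : Scheme.{u}} (g : X ⟶ Y) : PreservesFiniteLimits (EtModW.pull Λ g) :=
  EtSixLib.preservesFiniteLimits_pull Λ g

instance preservesFiniteColimits_pullMod {X Y : Scheme.{u}} (g : X ⟶ Y) :
    PreservesFiniteColimits (EtModW.pull Λ g) := by
  haveI : PreservesColimitsOfSize.{0, 0} (EtModW.pull Λ g) :=
    (EtSix.pullPushModAdj Λ g).leftAdjoint_preservesColimits
  exact PreservesColimitsOfSize.preservesFiniteColimits _

section Square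

variable {X S X' S' : Scheme.{u}} (f : X ⟶ S) (g : S' ⟶ S) (f' : X' ⟶ S') (g' : X' ⟶ X) (w : g' ≫ f = f' ≫ g)
  [DCoh.HasRpushEt X f] [DCoh.HasRpushEt X' f'] [DCoh.HasRpushEt S' g]
  [PreservesFiniteLimits (EtCoh.pull g')] [PreservesFiniteLimits (EtCoh.pull g)]

/-- On complexes computing the derived direct image, the base change morphism is an isomorphism iff `θ` is. -/
theorem isIso_bcMap_iff_θ_of_unit (a : EtBC.pullD g ⊣ DCoh.RpushEt S' g) (I : CochainComplex (EtCoh.Ab X) ℤ)
    [IsIso ((BCDLib.unitR f).app ((HomotopyCategory.quotient _ (ComplexShape.up ℤ)).obj I))] {K : DCoh.DEt X}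
    (e : DerivedCategory.Qh.obj ((HomotopyCategory.quotient _ (ComplexShape.up ℤ)).obj I) ≅ K) :
    IsIso (EtBC.bcMap f g f' g' w a K) ↔
      IsIso (BCDLib.θ f g f' g' w ((HomotopyCategory.quotient _ (ComplexShape.up ℤ)).obj I)) := by
  obtain ⟨a', ha'⟩ := BCDLib.exists_adj f g f' g' w
  rw [BCDLib.isIso_bcMap_congr f g f' g' w a a' e.symm]
  have h := ha' ((HomotopyCategory.quotient _ (ComplexShape.up ℤ)).obj I)
  rw [← isIso_comp_left_iff ((EtBC.pullD g).map ((BCDLib.unitR f).app
    ((HomotopyCategory.quotient _ (ComplexShape.up ℤ)).obj I)))]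
  refine Iff.trans (Iff.of_eq (congrArg IsIso h)) ?_
  exact (isIso_comp_left_iff _ _).trans (isIso_comp_right_iff _ _)

end Square

/-- The base change morphism in the form of complexes of abelian sheaves. -/
theorem quasiIso_bc0_of_torsion {X S X' S' : Scheme.{u}} (f : X ⟶ S) (g : S' ⟶ S) (f' : X' ⟶ S') (g' : X' ⟶ X)
    (h : IsPullback g' f' f g) [IsProper f] (C : CochainComplex (EtCoh.Ab X) ℤ) (n : ℤ) [C.IsStrictlyGE n]
    (hac : ∀ (i : ℤ) (p : ℕ), IsZero ((EtCoh.Rpush f (p + 1)).obj (C.X i)))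
    (hC : ∀ i, EtCoh.IsTorsion (C.homology i))
    (D : CochainComplex (EtCoh.Ab X') ℤ) [D.IsStrictlyGE n]
    (β : ((EtCoh.pull g').mapHomologicalComplex (ComplexShape.up ℤ)).obj C ⟶ D) [QuasiIso β]
    (hD : ∀ (i : ℤ) (p : ℕ), IsZero ((EtCoh.Rpush f' (p + 1)).obj (D.X i))) :
    QuasiIso ((NatTrans.mapHomologicalComplex (BCDLib.bc0N f g f' g' h.w) (ComplexShape.up ℤ)).app C ≫
      ((EtCoh.push f').mapHomologicalComplex (ComplexShape.up ℤ)).map β) := by
  haveI := BCDLib.hasRpushEt f
  haveI := BCDLib.hasRpushEt f'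
  haveI := BCDLib.hasRpushEt g
  obtain ⟨a, -⟩ := BCDLib.exists_adj f g f' g' h.w
  let q := HomotopyCategory.quotient (EtCoh.Ab X) (ComplexShape.up ℤ)
  let q' := HomotopyCategory.quotient (EtCoh.Ab X') (ComplexShape.up ℤ)
  let E := DerivedCategory.Qh.obj (q.obj C)
  let eQ : DerivedCategory.Q.obj C ≅ E := ((DerivedCategory.quotientCompQhIso _).app C).symm
  haveI : DerivedCategory.IsGE (DerivedCategory.Q.obj C) n := inferInstance
  haveI : E.IsGE n := DerivedCategory.TStructure.t.isGE_of_iso eQ n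
  have hE : ∀ i : ℤ, EtCoh.IsTorsion (DCoh.HDEt E i) := fun i =>
    isTorsion_of_epi ((DerivedCategory.homologyFunctorFactors _ i).inv.app C ≫
      (DerivedCategory.homologyFunctor _ i).map eQ.hom) (hC i)
  haveI := isIso_bcMap_of_torsion f g f' g' h (bcAll_of_proper f) a E n hE
  haveI := isIso_unitR_of_acyclic f C n hac
  haveI hθ : IsIso (BCDLib.θ f g f' g' h.w (q.obj C)) :=
    (isIso_bcMap_iff_θ_of_unit f g f' g' h.w a C (Iso.refl _)).1 inferInstance
  haveI hu : IsIso ((BCDLib.unitR f').app (q'.obj D)) := isIso_unitR_of_acyclic f' D n hD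
  let ψ := (NatTrans.mapHomologicalComplex (BCDLib.bc0N f g f' g' h.w) (ComplexShape.up ℤ)).app C
  have nat := (BCDLib.unitR f').naturality (q'.map β)
  haveI : IsIso ((DerivedCategory.Qh ⋙ DCoh.RpushEt X' f').map (q'.map β)) := by
    haveI : IsIso (DerivedCategory.Qh.map (q'.map β)) := by
      rw [DerivedCategory.isIso_Qh_map_iff]
      exact (HomotopyCategory.quotient_map_mem_quasiIso_iff β).2 ‹_›
    exact inferInstanceAs (IsIso ((DCoh.RpushEt X' f').map (DerivedCategory.Qh.map (q'.map β))))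
  let m := DerivedCategory.Qh.map (BCDLib.bc0H f g f' g' h.w (q.obj C)) ≫ (DCoh.pushEtKh X' f').map (q'.map β)
  haveI hm : IsIso m := by
    haveI : IsIso (m ≫ (BCDLib.unitR f').app (q'.obj D)) := by
      rw [show m ≫ (BCDLib.unitR f').app (q'.obj D) = BCDLib.θ f g f' g' h.w (q.obj C) ≫
        (DerivedCategory.Qh ⋙ DCoh.RpushEt X' f').map (q'.map β) from
          (Category.assoc _ _ _).trans ((congrArg (_ ≫ ·) nat).trans (Category.assoc _ _ _).symm)]
      infer_instance
    exact IsIso.of_isIso_comp_right m ((BCDLib.unitR f').app (q'.obj D))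
  let c := ψ ≫ ((EtCoh.push f').mapHomologicalComplex (ComplexShape.up ℤ)).map β
  have hc : IsIso (DerivedCategory.Qh.map ((HomotopyCategory.quotient _ (ComplexShape.up ℤ)).map c)) := by
    rw [show DerivedCategory.Qh.map ((HomotopyCategory.quotient _ (ComplexShape.up ℤ)).map c) = m from
      ((congrArg DerivedCategory.Qh.map ((HomotopyCategory.quotient _ (ComplexShape.up ℤ)).map_comp _ _)).trans
        (DerivedCategory.Qh.map_comp _ _))]
    exact hm
  rw [DerivedCategory.isIso_Qh_map_iff, HomotopyCategory.quotient_map_mem_quasiIso_iff] at hc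
  exact hc

/-- **Proper base change for bounded below complexes of modules with torsion cohomology.** -/
theorem isIso_bcMapMod_of_torsion {X S X' S' : Scheme.{u}} (f : X ⟶ S) (g : S' ⟶ S) (f' : X' ⟶ S') (g' : X' ⟶ X)
    (h : IsPullback g' f' f g) [IsProper f]
    (adj : (EtModW.pull Λ g).rightDerivedFunctorPlus ⊣ (EtModW.push Λ g).rightDerivedFunctorPlus)
    (K : DerivedCategory.Plus (EtModW.Mod Λ X))
    (hK : ∀ i : ℤ, EtCoh.IsTorsion ((EtModD.forgetToAb Λ X).obj
      ((DerivedCategory.Plus.homologyFunctor (EtModW.Mod Λ X) i).obj K))) :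
    IsIso (EtSix.bcMapMod Λ f g f' g' h.w adj K) := by
  change IsIso (PlusBC.bc (EtSix.pushToPushPullMod Λ f g f' g' h.w) adj K)
  obtain ⟨L, ⟨eK⟩⟩ := Functor.EssSurj.mem_essImage
    (F := (InjectiveObject.ι (EtModW.Mod Λ X)).mapHomotopyCategoryPlus ⋙ DerivedCategory.Plus.Qh) K
  obtain ⟨L₀, rfl⟩ := HomotopyCategory.Plus.quotient_obj_surjective L
  let I : CochainComplex.Plus (EtModW.Mod Λ X) :=
    (InjectiveObject.ι (EtModW.Mod Λ X)).mapCochainComplexPlus.obj L₀
  have hinj : ∀ i, Injective (I.obj.X i) := fun i => (L₀.obj.X i).property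
  obtain ⟨n, hn⟩ := I.property
  haveI := hn
  let G := EtModW.pull Λ g'
  let GI := G.mapCochainComplexPlus.obj I
  haveI : GI.obj.IsStrictlyGE n := (CochainComplex.isStrictlyGE_iff _ n).2 fun i hi =>
    G.map_isZero (CochainComplex.isZero_of_isStrictlyGE I.obj n i hi)
  obtain ⟨J, hJ, j, hj⟩ := CochainComplex.Plus.exists_quasiIso_injective GI n
  haveI hjq : QuasiIso j.hom := hj
  haveI hJn : ((InjectiveObject.ι (EtModW.Mod Λ X')).mapCochainComplexPlus.obj J).obj.IsStrictlyGE n := by
    haveI := hJ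
    exact inferInstanceAs (CochainComplex.IsStrictlyGE
      (((InjectiveObject.ι (EtModW.Mod Λ X')).mapHomologicalComplex (ComplexShape.up ℤ)).obj J.obj) n)
  haveI : IsIso ((EtModW.push Λ f).rightDerivedFunctorPlusUnit.app
      ((HomotopyCategory.Plus.quotient (EtModW.Mod Λ X)).obj I)) :=
    inferInstanceAs (IsIso ((EtModW.push Λ f).rightDerivedFunctorPlusUnit.app
      ((InjectiveObject.ι (EtModW.Mod Λ X)).mapHomotopyCategoryPlus.obj
        ((HomotopyCategory.Plus.quotient (InjectiveObject (EtModW.Mod Λ X))).obj L₀))))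
  refine (PlusBC.isIso_bc_congr (EtSix.pushToPushPullMod Λ f g f' g' h.w) adj adj eK).1 ?_
  refine (PlusBC.isIso_bc_iff_quasiIso (EtSix.pullPushModAdj Λ g) (EtSix.pushToPushPullMod Λ f g f' g' h.w) adj I J j
    hj).2 ?_
  -- forget the module structures
  let T := (PlusBC.transposeC (EtSix.pullPushModAdj Λ g) (EtSix.pushToPushPullMod Λ f g f' g' h.w) I).hom ≫
    ((EtModW.push Λ f').mapHomologicalComplex (ComplexShape.up ℤ)).map j.hom
  refine (HomologicalComplex.quasiIso_map_iff_of_preservesHomology T (EtModD.forgetToAb Λ S')).1 ?_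
  let Φ := (EtModD.forgetToAb Λ X).mapHomologicalComplex (ComplexShape.up ℤ)
  let Φ' := (EtModD.forgetToAb Λ X').mapHomologicalComplex (ComplexShape.up ℤ)
  let Jo := ((InjectiveObject.ι (EtModW.Mod Λ X')).mapCochainComplexPlus.obj J).obj
  let C : CochainComplex (EtCoh.Ab X) ℤ := Φ.obj I.obj
  let D : CochainComplex (EtCoh.Ab X') ℤ := Φ'.obj Jo
  haveI : C.IsStrictlyGE n := (CochainComplex.isStrictlyGE_iff _ n).2 fun i hi =>
    (EtModD.forgetToAb Λ X).map_isZero (CochainComplex.isZero_of_isStrictlyGE I.obj n i hi)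
  haveI : D.IsStrictlyGE n := (CochainComplex.isStrictlyGE_iff _ n).2 fun i hi =>
    (EtModD.forgetToAb Λ X').map_isZero (CochainComplex.isZero_of_isStrictlyGE Jo n i hi)
  haveI : ∀ i, IsIso (fgtPull Λ g' (I.obj.X i)) := fun i => isIso_fgtPull Λ g' _
  let β₀ : ((EtCoh.pull g').mapHomologicalComplex (ComplexShape.up ℤ)).obj C ⟶ Φ'.obj GI.obj :=
    { f := fun i => fgtPull Λ g' (I.obj.X i)
      comm' := fun i k _ => (fgtPull_natural Λ g' (I.obj.d i k)).symm }
  haveI : ∀ i, IsIso (β₀.f i) := fun i => isIso_fgtPull Λ g' _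
  haveI : IsIso β₀ := HomologicalComplex.Hom.isIso_of_components β₀
  let β := β₀ ≫ Φ'.map j.hom
  haveI : QuasiIso β := inferInstance
  have hC : ∀ i, EtCoh.IsTorsion (C.homology i) := fun i => by
    let e₁ : C.homology i ≅ (EtModD.forgetToAb Λ X).obj (I.obj.homology i) :=
      (I.obj.sc i).mapHomologyIso (EtModD.forgetToAb Λ X)
    let e₂ : I.obj.homology i ≅ (DerivedCategory.Plus.homologyFunctor (EtModW.Mod Λ X) i).obj K :=
      ((DerivedCategory.homologyFunctorFactorsh (EtModW.Mod Λ X) i).app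
        ((HomotopyCategory.quotient _ _).obj I.obj) ≪≫
        (HomotopyCategory.homologyFunctorFactors (EtModW.Mod Λ X) (ComplexShape.up ℤ) i).app I.obj).symm ≪≫
        (DerivedCategory.Plus.homologyFunctor (EtModW.Mod Λ X) i).mapIso eK
    exact isTorsion_of_epi ((EtModD.forgetToAb Λ X).map e₂.inv ≫ e₁.inv) (hK i)
  have hac : ∀ (i : ℤ) (p : ℕ), IsZero ((EtCoh.Rpush f (p + 1)).obj (C.X i)) := fun i p => by
    haveI := hinj i
    exact isAcyclicFor_forget_injective f Λ (I.obj.X i) p
  have hD : ∀ (i : ℤ) (p : ℕ), IsZero ((EtCoh.Rpush f' (p + 1)).obj (D.X i)) := fun i p => by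
    haveI : Injective (Jo.X i) := (J.obj.X i).property
    exact isAcyclicFor_forget_injective f' Λ (Jo.X i) p
  haveI hq := quasiIso_bc0_of_torsion f g f' g' h C n hac hC D β hD
  -- compare
  let U := ((EtModD.forgetToAb Λ S').mapHomologicalComplex (ComplexShape.up ℤ)).obj
    (((EtModW.pull Λ g).mapHomologicalComplex (ComplexShape.up ℤ)).obj
      (((EtModW.push Λ f).mapHomologicalComplex (ComplexShape.up ℤ)).obj I.obj))
  let α : ((EtCoh.pull g).mapHomologicalComplex (ComplexShape.up ℤ)).obj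
      (((EtCoh.push f).mapHomologicalComplex (ComplexShape.up ℤ)).obj C) ⟶ U :=
    { f := fun i => fgtPull Λ g ((EtModW.push Λ f).obj (I.obj.X i))
      comm' := fun i k _ => (fgtPull_natural Λ g ((EtModW.push Λ f).map (I.obj.d i k))).symm }
  haveI : ∀ i, IsIso (α.f i) := fun i => isIso_fgtPull Λ g _
  haveI : IsIso α := HomologicalComplex.Hom.isIso_of_components α
  have hαT : α ≫ ((EtModD.forgetToAb Λ S').mapHomologicalComplex (ComplexShape.up ℤ)).map T =
      (NatTrans.mapHomologicalComplex (BCDLib.bc0N f g f' g' h.w) (ComplexShape.up ℤ)).app C ≫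
      ((EtCoh.push f').mapHomologicalComplex (ComplexShape.up ℤ)).map β := by
    refine HomologicalComplex.hom_ext _ _ fun i => ?_
    show fgtPull Λ g ((EtModW.push Λ f).obj (I.obj.X i)) ≫ (EtModD.forgetToAb Λ S').map
        (EtSix.baseChange0Mod Λ f g f' g' h.w (I.obj.X i) ≫ (EtModW.push Λ f').map (j.hom.f i)) =
      EtCoh.baseChange0 f g f' g' h.w ((EtModD.forgetToAb Λ X).obj (I.obj.X i)) ≫
        (EtCoh.push f').map (fgtPull Λ g' (I.obj.X i) ≫ (EtModD.forgetToAb Λ X').map (j.hom.f i))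
    rw [Functor.map_comp, (EtCoh.push f').map_comp, ← Category.assoc, ← Category.assoc,
      fgt_baseChange0 Λ f g f' g' h.w (I.obj.X i)]
    rfl
  haveI : QuasiIso (α ≫ ((EtModD.forgetToAb Λ S').mapHomologicalComplex (ComplexShape.up ℤ)).map T) := by
    rw [hαT]; exact hq
  exact quasiIso_of_comp_left α _

end Groth.Agent.PBCLib
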